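import Cfsg.Agent.Lib.Extra.LargeTransfer
import Cfsg.Agent.Lib.Core.Cores

/-!
# A large extraspecial 2-core of the centralizer of an involution
-/

set_option autoImplicit false
set_option linter.style.haveILetI false

namespace Cfsg.Lib.Extra

variable {G : Type*} [Group G] [Finite G]

/-- The data of a large extraspecial 2-core of an involution centralizer. -/
theorem ctx_of_twoCore {z : G} (hz : orderOf z = 2) {E : Subgroup G}
    (hE : E = (Cfsg.pCore 2 ↥(Subgroup.centralizer ({z} : Set G))).map
      (Subgroup.centralizer ({z} : Set G)).subtype)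
    (hext : Cfsg.IsExtraspecial 2 ↥E) (hcent : Subgroup.centralizer (E : Set G) ≤ E) : Ctx E z := by
  classical
  haveI : Fact (Nat.Prime 2) := ⟨Nat.prime_two⟩
  have hEH : E ≤ Subgroup.centralizer ({z} : Set G) := hE ▸ Subgroup.map_subtype_le _
  have hcz : ∀ a ∈ E, a * z = z * a := fun a ha => Subgroup.mem_centralizer_singleton_iff.1 (hEH ha)
  have hzC : z ∈ Subgroup.centralizer (E : Set G) :=
    Subgroup.mem_centralizer_iff.2 fun a ha => hcz a ha
  have hzE : z ∈ E := hcent hzC
  have hz' : z ∈ (Subgroup.center ↥E).map E.subtype :=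
    ⟨⟨z, hzE⟩, Subgroup.mem_center_iff.2 fun a => Subtype.ext (hcz a a.2), rfl⟩
  have hcen : (Subgroup.center ↥E).map E.subtype = Subgroup.zpowers z := by
    refine (Subgroup.eq_of_le_of_card_ge (Subgroup.zpowers_le.2 hz') ?_).symm
    rw [Subgroup.card_map_of_injective E.subtype_injective, hext.2, Nat.card_zpowers, hz]
  refine ctx_of hext (fun a ha => ?_) ?_ hcen
  · exact ⟨⟨a, hcent ha⟩, Subgroup.mem_center_iff.2 fun b =>
      Subtype.ext (Subgroup.mem_centralizer_iff.1 ha b b.2), rfl⟩
  · rw [hcen]
    intro c hc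
    have hc' : Commute c z :=
      ((Subgroup.mem_centralizer_iff.1 hc z (Subgroup.mem_zpowers z)).symm : c * z = z * c)
    rw [hE]
    exact core_normalized z c hc'

/-- With no quotient of order two, transfers into abelian 2-groups vanish. -/
theorem transfer_eq_one (hres : Cfsg.pResidual 2 G = ⊤) {H : Subgroup G} {A : Type*} [CommGroup A]
    (hA : IsPGroup 2 A) (φ : H →* A) (g : G) : MonoidHom.transfer φ g = 1 := by
  haveI : Fact (Nat.Prime 2) := ⟨Nat.prime_two⟩
  have h := Lib.Fusion.pResidual_le_ker hA (MonoidHom.transfer φ)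
  rw [hres] at h
  exact MonoidHom.mem_ker.1 (h (Subgroup.mem_top g))

end Cfsg.Lib.Extra
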