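import Cfsg.Agent.Lib.Extra.Large
import Cfsg.Agent.Lib.Coprime.Action

/-!
# Extraspecial subgroups of an extraspecial 2-group
-/

set_option autoImplicit false
set_option linter.style.haveILetI false

namespace Cfsg.Lib.Extra

open Cfsg

variable {G : Type*} [Group G] [Finite G]

theorem Ctx.extraspecial_of {Q : Subgroup G} {z : G} (hX : Ctx Q z) {R : Subgroup G} (hR : R ≤ Q)
    (hna : ∃ a ∈ R, ∃ b ∈ R, ¬ Commute a b)
    (hcen : ∀ x ∈ R, (∀ a ∈ R, Commute x a) → x = 1 ∨ x = z) : Cfsg.IsExtraspecial 2 R := by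
  haveI : Fact (Nat.Prime 2) := ⟨Nat.prime_two⟩
  obtain ⟨a, ha, b, hb, hab⟩ := hna
  have hzab : a * b * a⁻¹ * b⁻¹ = z := (hX.comm a (hR ha) b (hR hb)).resolve_left fun h =>
    hab (mul_inv_eq_iff_eq_mul.1 (mul_inv_eq_one.1 h))
  have hzR : z ∈ R := hzab ▸ mul_mem (mul_mem (mul_mem ha hb) (inv_mem ha)) (inv_mem hb)
  let zR : R := ⟨z, hzR⟩
  have hzc : zR ∈ Subgroup.center R := Subgroup.mem_center_iff.2 fun q =>
    Subtype.ext (hX.central q (hR q.2)).symm.eq
  have hC2 : Nat.card (Subgroup.center R) = 2 := by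
    refine Nat.card_eq_two_iff.2 ⟨1, ⟨zR, hzc⟩, fun h => hX.ne_one (congrArg (fun u : Subgroup.center R =>
      ((u : R) : G)) h).symm, Set.eq_univ_iff_forall.2 fun u => ?_⟩
    rcases hcen (u : R) (u : R).2 (fun v hv =>
      (congrArg Subtype.val (Subgroup.mem_center_iff.1 u.2 ⟨v, hv⟩)).symm) with h | h
    · exact Or.inl (Subtype.ext (Subtype.ext h))
    · exact Or.inr (Subtype.ext (Subtype.ext h))
  have hp : IsPGroup 2 R := hX.two.to_le hR
  have hsmall : ∀ u : R, ((u : G) = 1 ∨ (u : G) = z) → u ∈ Subgroup.center R := fun u hu => by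
    rcases hu with h | h
    · rw [show u = 1 from Subtype.ext h]; exact one_mem _
    · rw [show u = zR from Subtype.ext h]; exact hzc
  have hcomm : commutator R ≤ Subgroup.center R := by
    rw [commutator_def, Subgroup.commutator_le]
    intro u _ v _
    exact hsmall _ (hX.comm u (hR u.2) v (hR v.2))
  have hne : commutator R ≠ ⊥ := fun h => by
    have h1 := Subgroup.commutator_mem_commutator (Subgroup.mem_top (⟨a, ha⟩ : R)) (Subgroup.mem_top ⟨b, hb⟩)
    rw [← commutator_def, h, Subgroup.mem_bot] at h1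
    exact hX.ne_one (hzab.symm.trans (congrArg Subtype.val h1))
  have heq : commutator R = Subgroup.center R := by
    refine Subgroup.eq_of_le_of_card_ge hcomm ?_
    rw [hC2]
    exact (Subgroup.one_lt_card_iff_ne_bot _).2 hne
  refine ⟨⟨hp, le_antisymm ?_ (heq ▸ Lib.PGroup.commutator_le_frattini hp), heq⟩, hC2⟩
  exact Lib.PGroup.frattini_le_of_commutator_le_of_pow_mem (p := 2) hcomm fun u =>
    hsmall _ (by simpa [pow_two] using hX.sq u (hR u.2))

end Cfsg.Lib.Extra
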