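import Cfsg.Agent.Lib.Extra.Large
import Cfsg.Agent.Lib.Extra.SubExtra
import Cfsg.Agent.Lib.Core.Layer
import Cfsg.Agent.Lib.Local.Sylow
import Cfsg.Agent.Lib.Local.TwoTransfer
import Cfsg.Prelude.Def_MonsterType

/-!
# Subgroups normalized by a large extraspecial 2-subgroup
-/

set_option autoImplicit false
set_option linter.style.haveILetI false

namespace Cfsg.Lib.Extra

open Cfsg

variable {G : Type*} [Group G] [Finite G]

/-- A 2-subgroup containing `Q` centralizes `z`. -/
theorem Ctx.central_of_le {Q : Subgroup G} {z : G} (hQ : Ctx Q z) {P : Subgroup G} (hP : IsPGroup 2 P)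
    (hQP : Q ≤ P) : ∀ p ∈ P, Commute z p := by
  haveI : Fact (Nat.Prime 2) := ⟨Nat.prime_two⟩
  haveI : Nontrivial P := ⟨⟨z, hQP hQ.mem⟩, 1, fun h => hQ.ne_one (congrArg Subtype.val h)⟩
  haveI := hP.center_nontrivial
  obtain ⟨c, hc⟩ := exists_ne (1 : Subgroup.center P)
  have hcm : ∀ p ∈ P, Commute ((c : P) : G) p := fun p hp =>
    (congrArg Subtype.val (Subgroup.mem_center_iff.1 c.2 ⟨p, hp⟩)).symm
  rcases hQ.cent _ fun a ha => hcm a (hQP ha) with h | h
  · exact absurd (Subtype.ext (Subtype.ext h)) hc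
  · intro p hp; rw [← h]; exact hcm p hp

/-- A 2-subgroup containing `Q` that normalizes `K` and meets it nontrivially puts `z` into `K`. -/
theorem Ctx.mem_of_meet {Q : Subgroup G} {z : G} (hQ : Ctx Q z) {P K : Subgroup G} (hP : IsPGroup 2 P)
    (hQP : Q ≤ P) (hPK : P ≤ Subgroup.normalizer (K : Set G)) (hne : P ⊓ K ≠ ⊥) : z ∈ K := by
  haveI : Fact (Nat.Prime 2) := ⟨Nat.prime_two⟩
  haveI : (K.subgroupOf P).Normal :=
    ⟨fun n hn g => (Subgroup.mem_normalizer_iff.1 (hPK g.2) (n : G)).1 hn⟩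
  have hne' : K.subgroupOf P ≠ ⊥ := fun h => hne (le_bot_iff.1 fun x hx => by
    have hm : (⟨x, hx.1⟩ : P) ∈ K.subgroupOf P := hx.2
    rw [h, Subgroup.mem_bot] at hm
    exact Subgroup.mem_bot.2 (congrArg Subtype.val hm))
  obtain ⟨c, ⟨hcK, hcZ⟩, hc1⟩ :=
    (Subgroup.bot_or_exists_ne_one _).resolve_left (PGroup.inf_center_ne_bot hP hne')
  rcases hQ.cent (c : G) fun a ha =>
    (congrArg Subtype.val (Subgroup.mem_center_iff.1 hcZ ⟨a, hQP ha⟩)).symm with h | h
  · exact absurd (Subtype.ext h) hc1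
  · exact h ▸ (Subgroup.mem_subgroupOf.1 hcK)

/-- A nontrivial subgroup normalized by `Q` contains `z`, provided `Q` normalizes no odd subgroup. -/
theorem Ctx.mem_of_normalized {Q : Subgroup G} {z : G} (hQ : Ctx Q z)
    (hodd : ∀ K : Subgroup G, Odd (Nat.card K) → Q ≤ Subgroup.normalizer (K : Set G) → K = ⊥)
    {K : Subgroup G} (hQK : Q ≤ Subgroup.normalizer (K : Set G)) (hne : K ≠ ⊥) : z ∈ K := by
  haveI : Fact (Nat.Prime 2) := ⟨Nat.prime_two⟩
  have h2 : 2 ∣ Nat.card K := by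
    by_contra h
    exact hne (hodd K (Nat.not_even_iff_odd.1 fun he => h (even_iff_two_dvd.1 he)) hQK)
  set X : Subgroup G := Q ⊔ K with hX
  obtain ⟨P, hP⟩ := (hQ.two.of_equiv (Subgroup.subgroupOfEquivOfLe (le_sup_left : Q ≤ X)).symm).exists_le_sylow
  haveI : (K.subgroupOf X).Normal :=
    (Subgroup.normal_subgroupOf_iff_le_normalizer le_sup_right).2 (sup_le hQK Subgroup.le_normalizer)
  obtain ⟨S, hS⟩ := Local.exists_sylow_inf P (K.subgroupOf X)
  have hS1 : (S : Subgroup (K.subgroupOf X)) ≠ ⊥ := S.ne_bot_of_dvd_card (by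
    rwa [Nat.card_congr (Subgroup.subgroupOfEquivOfLe (le_sup_right : K ≤ X)).toEquiv])
  refine hQ.mem_of_meet (P := (P : Subgroup X).map X.subtype) (P.2.map _) ?_ ?_ ?_
  · intro q hq
    exact ⟨⟨q, (le_sup_left : Q ≤ X) hq⟩, hP (show (⟨q, _⟩ : X) ∈ Q.subgroupOf X from hq), rfl⟩
  · refine (Subgroup.map_subtype_le _).trans ?_
    exact sup_le hQK Subgroup.le_normalizer
  · obtain ⟨s, hs, hs1⟩ := (Subgroup.bot_or_exists_ne_one _).resolve_left hS1
    rw [hS] at hs
    intro h
    have hm : ((s : X) : G) ∈ (P : Subgroup X).map X.subtype ⊓ K :=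
      ⟨⟨(s : X), hs, rfl⟩, s.2⟩
    rw [h, Subgroup.mem_bot] at hm
    exact hs1 (Subtype.ext (Subtype.ext hm))

/-- A group with an involution whose centralizer has order two is not a nonabelian simple group. -/
theorem not_simple_of_small_centralizer {L : Type*} [Group L] [Finite L] [IsSimpleGroup L] (R : Sylow 2 L)
    {z : L} (hz : z ≠ 1) (hzR : z ∈ (R : Subgroup L)) (hR : ∀ c ∈ (R : Subgroup L), c = 1 ∨ c = z) :
    IsMulCommutative L := by
  classical
  haveI : Fact (Nat.Prime 2) := ⟨Nat.prime_two⟩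
  have hz2 : z * z = 1 := by
    rcases hR _ (mul_mem hzR hzR) with h | h
    · exact h
    · exact absurd (mul_eq_left.1 h) hz
  have hcard : Nat.card (R : Subgroup L) = 2 := by
    refine Nat.card_eq_two_iff.2 ⟨1, ⟨z, hzR⟩, fun h => hz (congrArg Subtype.val h).symm, ?_⟩
    ext c
    simp only [Set.mem_insert_iff, Set.mem_singleton_iff, Set.mem_univ, iff_true]
    rcases hR c c.2 with h | h
    · exact Or.inl (Subtype.ext h)
    · exact Or.inr (Subtype.ext h)
  have hfix : ∀ n ∈ Subgroup.normalizer ((R : Subgroup L) : Set L), n * z * n⁻¹ = z := fun n hn =>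
    (hR _ ((Subgroup.mem_normalizer_iff.1 hn z).1 hzR)).resolve_left fun h => hz (conj_eq_one_iff.1 h)
  haveI : (⊥ : Subgroup (R : Subgroup L)).Normal := inferInstance
  obtain ⟨f, hf⟩ := Local.exists_hom_of_central_involution R hzR
    (Subgroup.mem_centralizer_iff.2 fun c hc => by rcases hR c hc with h | h <;> simp [h]) hz2 ⊥
    (by rw [Subgroup.index_bot, hcard]) (fun h => hz (congrArg Subtype.val (Subgroup.mem_bot.1 h))) hfix
  rcases (MonoidHom.normal_ker f).eq_bot_or_eq_top with h | h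
  · have hinj : Function.Injective f := (MonoidHom.ker_eq_bot_iff f).1 h
    haveI : IsCyclic (↥(R : Subgroup L) ⧸ (⊥ : Subgroup (R : Subgroup L))) :=
      isCyclic_of_prime_card (p := 2) (show (⊥ : Subgroup (R : Subgroup L)).index = 2 by
        rw [Subgroup.index_bot, hcard])
    letI : CommGroup (↥(R : Subgroup L) ⧸ (⊥ : Subgroup (R : Subgroup L))) := IsCyclic.commGroup
    exact ⟨⟨fun a b => hinj (by rw [map_mul, map_mul, mul_comm])⟩⟩
  · exact absurd (MonoidHom.mem_ker.1 (h ▸ Subgroup.mem_top z)) hf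

omit [Finite G] in
theorem isExtraspecial_congr {p : ℕ} [Fact p.Prime] {A B : Type*} [Group A] [Group B] [Finite A] [Finite B]
    (e : A ≃* B) (h : Cfsg.IsExtraspecial p A) : Cfsg.IsExtraspecial p B := by
  obtain ⟨⟨hp, hfr, hco⟩, hcard⟩ := h
  have hpB : IsPGroup p B := hp.of_equiv e
  have hcen : (Subgroup.center A).map e.toMonoidHom = Subgroup.center B := by
    ext b
    constructor
    · rintro ⟨a, ha, rfl⟩
      exact Subgroup.mem_center_iff.2 fun c => by
        have := congrArg e (Subgroup.mem_center_iff.1 ha (e.symm c))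
        simpa using this
    · intro hb
      refine ⟨e.symm b, Subgroup.mem_center_iff.2 fun a => ?_, e.apply_symm_apply b⟩
      have := congrArg e.symm (Subgroup.mem_center_iff.1 hb (e a))
      simpa using this
  refine ⟨⟨hpB, ?_, ?_⟩, ?_⟩
  · rw [← hcen, ← hfr]
    refine le_antisymm (fun b hb => ?_) (PGroup.map_frattini_le hp hpB e.toMonoidHom)
    exact ⟨e.symm b, PGroup.map_frattini_le hpB hp e.symm.toMonoidHom ⟨b, hb, rfl⟩,
      e.apply_symm_apply b⟩
  · rw [← hcen, ← hco, commutator_def, commutator_def, Subgroup.map_commutator,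
      Subgroup.map_top_of_surjective _ e.surjective]
  · rw [← hcen, Subgroup.card_map_of_injective (f := e.toMonoidHom) e.injective]; exact hcard

/-- An extraspecial generalized Fitting subgroup of the centralizer of an involution. -/
theorem of_fitting {z : G} (hz : orderOf z = 2) {Q : Subgroup G}
    (hQC : Q ≤ Subgroup.centralizer ({z} : Set G))
    (hF : (Cfsg.generalizedFittingSubgroup ↥(Subgroup.centralizer ({z} : Set G))).map
      (Subgroup.centralizer ({z} : Set G)).subtype = Q)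
    (hE : Cfsg.IsExtraspecial 2 ↥Q) :
    (Subgroup.center ↥Q).map Q.subtype = Subgroup.zpowers z ∧
      Subgroup.centralizer (Q : Set G) = (Subgroup.center ↥Q).map Q.subtype ∧
      Subgroup.centralizer (((Subgroup.center ↥Q).map Q.subtype : Subgroup G) : Set G) ≤
        Subgroup.normalizer (Q : Set G) ∧ Ctx Q z := by
  haveI : Fact (Nat.Prime 2) := ⟨Nat.prime_two⟩
  set C := Subgroup.centralizer ({z} : Set G) with hC
  have hmC : ∀ {g : G}, g ∈ C ↔ g * z = z * g := Subgroup.mem_centralizer_singleton_iff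
  have hzC : z ∈ C := hmC.2 rfl
  have hzZ : (⟨z, hzC⟩ : C) ∈ Subgroup.center C :=
    Subgroup.mem_center_iff.2 fun c => Subtype.ext (hmC.1 c.2)
  have hzQ : z ∈ Q := hF ▸ ⟨⟨z, hzC⟩,
    Core.fitting_le_generalizedFitting (Core.center_le_fittingSubgroup hzZ), rfl⟩
  have hzQc : (⟨z, hzQ⟩ : Q) ∈ Subgroup.center Q :=
    Subgroup.mem_center_iff.2 fun q => Subtype.ext (hmC.1 (hQC q.2))
  have hcen : (Subgroup.center ↥Q).map Q.subtype = Subgroup.zpowers z := by
    refine (Subgroup.eq_of_le_of_card_ge (Subgroup.zpowers_le.2 (Subgroup.mem_map_of_mem Q.subtype hzQc)) ?_).symm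
    rw [Nat.card_zpowers, Subgroup.card_map_of_injective Q.subtype_injective, hE.2]; exact hz.ge
  have hcC : Subgroup.centralizer (Q : Set G) = (Subgroup.center ↥Q).map Q.subtype := by
    refine le_antisymm (fun g hg => ?_) ?_
    · have hgC : g ∈ C := hmC.2 (Subgroup.mem_centralizer_iff.1 hg z hzQ).symm
      have hgF : (⟨g, hgC⟩ : C) ∈ Cfsg.generalizedFittingSubgroup C :=
        Core.centralizer_generalizedFitting_le (Subgroup.mem_centralizer_iff.2 fun c hc => Subtype.ext
          (Subgroup.mem_centralizer_iff.1 hg c (hF ▸ Subgroup.mem_map_of_mem C.subtype hc)))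
      have hgQ : g ∈ Q := hF ▸ Subgroup.mem_map_of_mem C.subtype hgF
      exact ⟨⟨g, hgQ⟩, Subgroup.mem_center_iff.2 fun q =>
        Subtype.ext (Subgroup.mem_centralizer_iff.1 hg q q.2), rfl⟩
    · rintro _ ⟨c, hc, rfl⟩
      exact Subgroup.mem_centralizer_iff.2 fun q hq =>
        congrArg Subtype.val (Subgroup.mem_center_iff.1 hc ⟨q, hq⟩)
  have hN : Subgroup.centralizer (((Subgroup.center ↥Q).map Q.subtype : Subgroup G) : Set G) ≤
      Subgroup.normalizer (Q : Set G) := by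
    intro g hg
    have hgC : g ∈ C := hmC.2
      (Subgroup.mem_centralizer_iff.1 hg z (Subgroup.mem_map_of_mem Q.subtype hzQc)).symm
    refine Subgroup.mem_normalizer_fintype fun q hq => ?_
    rw [← hF] at hq ⊢
    obtain ⟨q', hq', rfl⟩ := hq
    exact ⟨(⟨g, hgC⟩ : C) * q' * (⟨g, hgC⟩ : C)⁻¹,
      (inferInstance : (Cfsg.generalizedFittingSubgroup C).Normal).conj_mem _ hq' _, rfl⟩
  exact ⟨hcen, hcC, hN, ctx_of hE hcC.le hN hcen⟩

/-- In that situation a further conjugate of `z` in `Q` makes `Q` large. -/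
theorem large_of_fitting {z : G} (hz : orderOf z = 2) {Q : Subgroup G}
    (hQC : Q ≤ Subgroup.centralizer ({z} : Set G))
    (hF : (Cfsg.generalizedFittingSubgroup ↥(Subgroup.centralizer ({z} : Set G))).map
      (Subgroup.centralizer ({z} : Set G)).subtype = Q)
    (hE : Cfsg.IsExtraspecial 2 ↥Q) {g : G} (hg : g * z * g⁻¹ ∈ Q) (hne : g * z * g⁻¹ ≠ z) :
    Cfsg.IsLargeExtraspecial Q := by
  obtain ⟨-, hC, hN, hX⟩ := of_fitting hz hQC hF hE
  have hR := hX.conj g
  exact ⟨hE, hC, hN, fun K hK hQK => hX.odd_eq_bot hg hR.sq_z hne hR.ne_one hR.two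
    (hX.mem_symm hg) hR.norm hK hQK⟩

/-- `N(Q)` centralizes `z`. -/
theorem Ctx.normalizer_commute {Q : Subgroup G} {z : G} (hQ : Ctx Q z) {n : G}
    (hn : n ∈ Subgroup.normalizer (Q : Set G)) : Commute n z := by
  rcases hQ.cent (n * z * n⁻¹) fun a ha => by
      have ha' : n⁻¹ * a * n ∈ Q := by
        simpa using (Subgroup.mem_normalizer_iff.1 (inv_mem hn) a).1 ha
      have := (Commute.conj_iff n).2 (hQ.central _ ha')
      simpa [mul_assoc] using this with h | h
  · exact absurd (conj_eq_one_iff.1 h) hQ.ne_one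
  · exact mul_inv_eq_iff_eq_mul.1 h

/-- Elementwise data give a large extraspecial subgroup. -/
theorem Ctx.large {Q : Subgroup G} {z : G} (hX : Ctx Q z) (hna : ∃ a ∈ Q, ∃ b ∈ Q, ¬ Commute a b)
    (hodd : ∀ K : Subgroup G, Odd (Nat.card K) → Q ≤ Subgroup.normalizer (K : Set G) → K = ⊥) :
    Cfsg.IsLargeExtraspecial Q := by
  have hzc : z ∈ (Subgroup.center Q).map Q.subtype :=
    ⟨⟨z, hX.mem⟩, Subgroup.mem_center_iff.2 fun q => Subtype.ext (hX.central q q.2).symm.eq, rfl⟩
  refine ⟨hX.extraspecial_of le_rfl hna fun x _ h => hX.cent x h, le_antisymm (fun g hg => ?_) ?_,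
    fun c hc => hX.norm c (Subgroup.mem_centralizer_iff.1 hc z hzc).symm, hodd⟩
  · rcases hX.cent g fun a ha => (Subgroup.mem_centralizer_iff.1 hg a ha).symm with h | h <;> rw [h]
    exacts [one_mem _, hzc]
  · rintro _ ⟨c, hc, rfl⟩
    exact Subgroup.mem_centralizer_iff.2 fun q hq =>
      congrArg Subtype.val (Subgroup.mem_center_iff.1 hc ⟨q, hq⟩)

omit [Finite G] in
/-- An element commuting with `t` moves any element outside `⟨t, z⟩`. -/
theorem Ctx.exists_move_commute {Q : Subgroup G} {z : G} (hX : Ctx Q z) {t x : G} (ht : t ∈ Q)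
    (ht1 : t ≠ 1) (htz : t ≠ z) (hx : x ∈ Q) (hxt : Commute x t) (h1 : x ≠ 1) (h2 : x ≠ z) (h3 : x ≠ t)
    (h4 : x ≠ z * t) : ∃ a ∈ Q, Commute a t ∧ a * x * a⁻¹ = z * x := by
  by_contra hno
  push Not at hno
  rcases hX.double_centralizer ht ht1 htz hx hxt fun p hp hpt => by
      rcases hX.comm p hp x hx with h | h
      · exact (mul_inv_eq_iff_eq_mul.1 (mul_inv_eq_one.1 h)).symm
      · exact absurd (mul_inv_eq_iff_eq_mul.1 h) (hno p hp hpt) with h | h | h | h
  exacts [h1 h, h2 h, h3 h, h4 h]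

/-- An element of `Q` fixed by an odd group can be moved by an element fixed by that group. -/
theorem Ctx.exists_move_fixed {Q : Subgroup G} {z : G} (hX : Ctx Q z) {A : Subgroup G}
    (hA : Odd (Nat.card A)) (hAz : ∀ a ∈ A, Commute a z) {x : G} (hx : x ∈ Q)
    (hxA : ∀ a ∈ A, Commute a x) (h1 : x ≠ 1) (h2 : x ≠ z) :
    ∃ c ∈ Q, c ∈ Subgroup.centralizer (A : Set G) ∧ c * x * c⁻¹ = z * x := by
  haveI : Fact (Nat.Prime 2) := ⟨Nat.prime_two⟩
  obtain ⟨y, hy, hyx⟩ := hX.exists_move hx h1 h2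
  have hAQ : A ≤ Subgroup.normalizer (Q : Set G) := fun a ha => hX.norm a (hAz a ha)
  have hcop : (Nat.card A).Coprime (Nat.card Q) := by
    obtain ⟨k, hk⟩ := IsPGroup.iff_card.1 hX.two
    rw [hk]; exact (Nat.coprime_two_right.2 hA).pow_right k
  haveI := hX.two.isNilpotent
  have hAN : A ≤ Subgroup.normalizer ((Q ⊓ Subgroup.centralizer ({x} : Set G) : Subgroup G) : Set G) :=
    fun a ha => Subgroup.mem_normalizer_fintype fun p hp => by
      refine ⟨(Subgroup.mem_normalizer_iff.1 (hAQ ha) p).1 hp.1, Subgroup.mem_centralizer_singleton_iff.2 ?_⟩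
      have h := (Commute.conj_iff a).2 (Subgroup.mem_centralizer_singleton_iff.1 hp.2 : Commute p x)
      rwa [show a * x * a⁻¹ = x from mul_inv_eq_iff_eq_mul.2 (hxA a ha).eq] at h
  have hzx : Commute y z := (hX.central y hy).symm
  obtain ⟨n, hn, c, hc, hync⟩ := Lib.Coprime.exists_mul_centralizer_of_commutator_mem hAQ hcop
    (Or.inr inferInstance) (inf_le_left : Q ⊓ Subgroup.centralizer ({x} : Set G) ≤ Q) hAN hy
    fun a ha => by
      rw [commutatorElement_def, show y * a * y⁻¹ * a⁻¹ = y * (a * y⁻¹ * a⁻¹) by group]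
      refine ⟨mul_mem hy ((Subgroup.mem_normalizer_iff.1 (hAQ ha) _).1 (inv_mem hy)),
        Subgroup.mem_centralizer_singleton_iff.2 (mul_inv_eq_iff_eq_mul.1 ?_)⟩
      have e1 : y⁻¹ * x * y = z * x := by
        calc y⁻¹ * x * y = y⁻¹ * (z * (z * x)) * y := by rw [← mul_assoc z z, hX.sq_z, one_mul]
          _ = z * (y⁻¹ * (y * x * y⁻¹) * y) := by
            rw [hyx, ← mul_assoc y⁻¹, (hzx.inv_left).eq]; simp only [mul_assoc]
          _ = z * x := by group
      calc y * (a * y⁻¹ * a⁻¹) * x * (y * (a * y⁻¹ * a⁻¹))⁻¹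
          = y * (a * (y⁻¹ * (a⁻¹ * x * a) * y) * a⁻¹) * y⁻¹ := by group
        _ = y * (z * x) * y⁻¹ := by
          rw [show a⁻¹ * x * a = x by rw [mul_assoc, ← (hxA a ha).eq, inv_mul_cancel_left], e1,
            ((hAz a ha).mul_right (hxA a ha)).eq, mul_inv_cancel_right]
        _ = (y * z * y⁻¹) * (y * x * y⁻¹) := by group
        _ = x := by rw [hzx.eq, mul_inv_cancel_right, hyx, ← mul_assoc, hX.sq_z, one_mul]
  refine ⟨c, hc.1, hc.2, ?_⟩
  have hnx : Commute n x := Subgroup.mem_centralizer_singleton_iff.1 hn.2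
  have hnz : Commute n z := (hX.central n hn.1).symm
  calc c * x * c⁻¹ = n⁻¹ * (n * c * x * (n * c)⁻¹) * n := by group
    _ = n⁻¹ * (z * x) * n := by rw [← hync, hyx]
    _ = z * x := by rw [mul_assoc, ← (hnz.mul_right hnx).eq, inv_mul_cancel_left]

end Cfsg.Lib.Extra
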