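import Cfsg.Agent.Lib.Extra.OuterModel

/-!
# The outer automorphism groups of the two kinds of extraspecial two-groups
-/

set_option autoImplicit false

namespace Cfsg.Lib.Extra

open Module
open Cfsg.Lib.Extraspecial

/-- The marking of the elliptic model. -/
def minusMark (m : ℕ) : Fin (m + 1) → ZMod 2 := fun i => if i = 0 then 1 else 0

/-- `E` has an elementary abelian subgroup of the largest possible order. -/
def HasBig (E : Type*) [Group E] (n : ℕ) : Prop :=
  ∃ A : Subgroup E, Cfsg.IsElementaryAbelian 2 A ∧ Nat.card A = 2 ^ (n + 1)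

theorem hasBig_congr {A B : Type*} [Group A] [Group B] (e : A ≃* B) {n : ℕ} (h : HasBig A n) :
    HasBig B n := by
  obtain ⟨U, hU, hc⟩ := h
  refine ⟨U.map e.toMonoidHom, ⟨⟨⟨?_⟩⟩, ?_⟩, by rw [Subgroup.card_map_of_injective (f := e.toMonoidHom) e.injective, hc]⟩
  · rintro ⟨_, a, ha, rfl⟩ ⟨_, b, hb, rfl⟩
    refine Subtype.ext ?_
    show e a * e b = e b * e a
    rw [← map_mul, ← map_mul, show a * b = b * a from
      congrArg Subtype.val (hU.1.is_comm.comm ⟨a, ha⟩ ⟨b, hb⟩)]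
  · rintro _ ⟨a, ha, rfl⟩
    rw [← map_pow, hU.2 a ha, map_one]

theorem pairModel_extraspecial {n : ℕ} (hn : 1 ≤ n) (δ : Fin n → ZMod 2) :
    Cfsg.IsExtraspecial 2 (Cocycle (pairForm δ)) := by
  refine isExtraspecial (pairForm_nondeg δ) ?_
  by_contra h
  push Not at h
  have := pairForm_nondeg δ (fun _ => (1, 0)) (h _)
  simpa using congrFun this ⟨0, hn⟩

theorem card_pairModel {n : ℕ} (δ : Fin n → ZMod 2) :
    Nat.card (Cocycle (pairForm δ)) = 2 ^ (2 * n + 1) := by
  rw [card_cocycle, card_pairs_pow, pow_succ, mul_comm]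

theorem plus_hasBig (n : ℕ) : HasBig (Cocycle (pairForm (0 : Fin n → ZMod 2))) n := by
  obtain ⟨A, hA, hc⟩ := exists_elementary (β := pairForm (0 : Fin n → ZMod 2))
    (axis fun _ => True) (fun u hu => by
      rw [pairForm_apply]
      refine Finset.sum_eq_zero fun i _ => ?_
      simp [(hu i).1])
  refine ⟨A, hA, ?_⟩
  rw [hc, card_axis, Nat.card_congr (Equiv.subtypeUnivEquiv (p := fun _ : Fin n => True) fun _ => trivial),
    Nat.card_eq_fintype_card, Fintype.card_fin, pow_succ, mul_comm]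

theorem minus_not_hasBig (m : ℕ) : ¬ HasBig (Cocycle (pairForm (minusMark m))) (m + 1) := by
  haveI : Fact (Nat.Prime 2) := ⟨Nat.prime_two⟩
  rintro ⟨A, hA, hc⟩
  obtain ⟨W, hW, hle⟩ := exists_subspace hA
  rw [hc, Module.natCard_eq_pow_finrank (K := ZMod 2), Nat.card_zmod, ← pow_succ'] at hle
  have h1 := (Nat.pow_le_pow_iff_right (by norm_num)).1 hle
  obtain ⟨h2, h3⟩ := ts_bound _ W hW
  have h4 := h3 (by omega)
  rw [signSum, Fin.prod_univ_succ] at h4
  have e : ∀ i : Fin m, (if minusMark m i.succ = 0 then (2 : ℤ) else -2) = 2 :=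
    fun i => by simp [minusMark, Fin.succ_ne_zero]
  rw [Finset.prod_congr rfl fun i _ => e i, Finset.prod_const, Finset.card_univ,
    Fintype.card_fin, minusMark, if_pos rfl, if_neg one_ne_zero] at h4
  have : (0 : ℤ) < 2 ^ m := by positivity
  linarith

/-- Every extraspecial two-group is one of the two models. -/
theorem model_cases {E : Type*} [Group E] [Finite E] (hE : Cfsg.IsExtraspecial 2 E) (m : ℕ)
    (hcard : Nat.card E = 2 ^ (2 * (m + 1) + 1)) :
    Nonempty (E ≃* Cocycle (pairForm (0 : Fin (m + 1) → ZMod 2))) ∨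
      Nonempty (E ≃* Cocycle (pairForm (minusMark m))) := by
  haveI : Fact (Nat.Prime 2) := ⟨Nat.prime_two⟩
  have hlen : ∀ {l : ℕ}, 2 ^ (2 * l + 1) = 2 ^ (2 * (m + 1) + 1) → l = m + 1 := fun {l} h => by
    have := Nat.pow_right_injective le_rfl h
    omega
  obtain ⟨z, L, hz, hL, -, hc, hk⟩ := two_kinds hE
  obtain ⟨z1, L1, hz1, hL1, -, hc1, hk1⟩ :=
    two_kinds (pairModel_extraspecial (Nat.le_add_left 1 m) (0 : Fin (m + 1) → ZMod 2))
  obtain ⟨z2, L2, hz2, hL2, -, hc2, hk2⟩ :=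
    two_kinds (pairModel_extraspecial (Nat.le_add_left 1 m) (minusMark m))
  have l0 : L.length = m + 1 := hlen (hc.symm.trans hcard)
  have l1 : L1.length = m + 1 := hlen (hc1.symm.trans (card_pairModel _))
  have l2 : L2.length = m + 1 := hlen (hc2.symm.trans (card_pairModel _))
  have hne : ¬ Nonempty (Cocycle (pairForm (0 : Fin (m + 1) → ZMod 2)) ≃*
      Cocycle (pairForm (minusMark m))) :=
    fun ⟨e⟩ => minus_not_hasBig m (hasBig_congr e (plus_hasBig (m + 1)))
  rcases hk1 with ⟨h1, -⟩ | ⟨h1, -⟩ <;> rcases hk2 with ⟨h2, -⟩ | ⟨h2, -⟩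
  · exact absurd (equiv_DD hz1 hz2 hL1 hL2 (l1.trans l2.symm) h1 h2) hne
  · rcases hk with ⟨h, -⟩ | ⟨h, -⟩
    · exact Or.inl (equiv_DD hz hz1 hL hL1 (l0.trans l1.symm) h h1)
    · exact Or.inr (equiv_QQ hz hz2 hL hL2 (l0.trans l2.symm) h h2)
  · rcases hk with ⟨h, -⟩ | ⟨h, -⟩
    · exact Or.inr (equiv_DD hz hz2 hL hL2 (l0.trans l2.symm) h h2)
    · exact Or.inl (equiv_QQ hz hz1 hL hL1 (l0.trans l1.symm) h h1)
  · exact absurd (equiv_QQ hz1 hz2 hL1 hL2 (l1.trans l2.symm) h1 h2) hne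

/-- The coordinates of the hyperbolic model. -/
def plusCoords (n : ℕ) : (Fin n ⊕ Fin n → ZMod 2) ≃ₗ[ZMod 2] (Fin n → ZMod 2 × ZMod 2) where
  toFun x i := (x (.inl i), x (.inr i))
  invFun v := Sum.elim (fun i => (v i).1) (fun i => (v i).2)
  map_add' _ _ := rfl
  map_smul' _ _ := rfl
  left_inv x := funext fun i => by cases i <;> rfl
  right_inv _ := rfl

/-- The coordinates of the elliptic model. -/
def minusCoords (m : ℕ) :
    ((Fin m ⊕ Fin m) ⊕ Fin 2 → ZMod 2) ≃ₗ[ZMod 2] (Fin (m + 1) → ZMod 2 × ZMod 2) where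
  toFun x := Fin.cons (x (.inr 0), x (.inr 1)) fun i => (x (.inl (.inl i)), x (.inl (.inr i)))
  invFun v := Sum.elim (Sum.elim (fun i => (v i.succ).1) (fun i => (v i.succ).2))
    ![(v 0).1, (v 0).2]
  map_add' x y := by
    funext i
    refine Fin.cases ?_ (fun j => ?_) i <;> simp
  map_smul' c x := by
    funext i
    refine Fin.cases ?_ (fun j => ?_) i <;> simp
  left_inv x := funext fun i => by
    rcases i with (i | i) | i
    · simp
    · simp
    · fin_cases i <;> simp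
  right_inv v := by
    funext i
    refine Fin.cases ?_ (fun j => ?_) i <;> simp

theorem plus_form (n : ℕ) (x : Fin n ⊕ Fin n → ZMod 2) :
    Cfsg.quadFormPlus n (ZMod 2) x =
      pairForm (0 : Fin n → ZMod 2) (plusCoords n x) (plusCoords n x) := by
  rw [pairForm_apply]
  refine Finset.sum_congr rfl fun i _ => ?_
  rw [Pi.zero_apply, zero_mul, add_zero]
  rfl

theorem minus_form (m : ℕ) (x : (Fin m ⊕ Fin m) ⊕ Fin 2 → ZMod 2) :
    Cfsg.quadFormMinus m (ZMod 2) 1 1 x =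
      pairForm (minusMark m) (minusCoords m x) (minusCoords m x) := by
  rw [pairForm_apply, Fin.sum_univ_succ]
  simp only [Cfsg.quadFormMinus, minusCoords, minusMark, LinearEquiv.coe_mk, LinearMap.coe_mk,
    AddHom.coe_mk, Fin.cons_zero, Fin.cons_succ, Fin.succ_ne_zero, if_true, if_false, one_mul,
    zero_mul, add_zero]
  ring

/-- Outer automorphisms of extraspecial two-groups. -/
theorem out_extraspecial {E : Type*} [Group E] [Finite E] (hE : Cfsg.IsExtraspecial 2 E) (n : ℕ)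
    (hn : 1 ≤ n) (hcard : Nat.card E = 2 ^ (2 * n + 1)) :
    (HasBig E n →
      Nonempty (Cfsg.Out E ≃* Cfsg.isometryGroup (ZMod 2) (Cfsg.quadFormPlus n (ZMod 2)))) ∧
    (¬ HasBig E n →
      Nonempty (Cfsg.Out E ≃*
        Cfsg.isometryGroup (ZMod 2) (Cfsg.quadFormMinus (n - 1) (ZMod 2) 1 1))) := by
  obtain ⟨m, rfl⟩ : ∃ m, n = m + 1 := ⟨n - 1, by omega⟩
  constructor
  · intro h
    rcases model_cases hE m hcard with ⟨⟨e⟩⟩ | ⟨⟨e⟩⟩
    · obtain ⟨e1⟩ := out_congr e
      obtain ⟨e2⟩ := out_equiv (pairForm_nondeg (0 : Fin (m + 1) → ZMod 2))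
      obtain ⟨e3⟩ := qAut_equiv_isometry (plusCoords (m + 1)) (plus_form (m + 1))
      exact ⟨e1.trans (e2.trans e3)⟩
    · exact absurd (hasBig_congr e h) (minus_not_hasBig m)
  · intro h
    rcases model_cases hE m hcard with ⟨⟨e⟩⟩ | ⟨⟨e⟩⟩
    · exact absurd (hasBig_congr e.symm (plus_hasBig (m + 1))) h
    · obtain ⟨e1⟩ := out_congr e
      obtain ⟨e2⟩ := out_equiv (pairForm_nondeg (minusMark m))
      obtain ⟨e3⟩ := qAut_equiv_isometry (minusCoords m) (minus_form m)
      exact ⟨e1.trans (e2.trans e3)⟩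

end Cfsg.Lib.Extra
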