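import Cfsg.Agent.Lib.Extra.Large
import Mathlib.GroupTheory.GroupAction.SubMulAction

/-!
# An extraspecial group of order 32 with an automorphism of order 5

It has exactly ten noncentral involutions, no two of which commute unless congruent modulo the centre.
-/

set_option autoImplicit false
set_option linter.style.haveILetI false

namespace Cfsg.Lib.Extra

variable {G : Type*} [Group G] [Finite G] {Q : Subgroup G} {z f : G}

/-- An element of order 5 fixes only the centre. -/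
theorem Ctx.fixed_five (hQ : Ctx Q z) (hcard : Nat.card Q = 32) (hf : orderOf f = 5) (hfz : Commute f z)
    {x : G} (hx : x ∈ Q) (hfx : Commute f x) : x = 1 ∨ x = z := by
  classical
  haveI : Fact (Nat.Prime 5) := ⟨by norm_num⟩
  haveI : Fact (Nat.Prime 2) := ⟨Nat.prime_two⟩
  have hnorm : ∀ g : Subgroup.zpowers f, ∀ q : Q, (g : G) * q * (g : G)⁻¹ ∈ Q := fun g q => by
    have hg : Commute (g : G) z := by
      obtain ⟨i, hi⟩ := Subgroup.mem_zpowers_iff.1 g.2
      rw [← hi]; exact hfz.zpow_left i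
    exact (Subgroup.mem_normalizer_iff.1 (hQ.norm _ hg) q).1 q.2
  letI : MulAction (Subgroup.zpowers f) Q :=
    { smul := fun g q => ⟨(g : G) * q * (g : G)⁻¹, hnorm g q⟩
      one_smul := fun q => Subtype.ext (show (1 : G) * q * (1 : G)⁻¹ = q by simp)
      mul_smul := fun g h q => Subtype.ext
        (show ((g : G) * h) * q * ((g : G) * h)⁻¹ = g * ((h : G) * q * (h : G)⁻¹) * (g : G)⁻¹ by group) }
  have hP : IsPGroup 5 (Subgroup.zpowers f) := IsPGroup.of_card (n := 1) (by rw [Nat.card_zpowers, hf, pow_one])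
  let F : Subgroup G := Q ⊓ Subgroup.centralizer ({f} : Set G)
  have hF : ∀ {a : G}, a ∈ F ↔ a ∈ Q ∧ Commute a f := fun {a} => by
    simp only [F, Subgroup.mem_inf, Subgroup.mem_centralizer_singleton_iff]; rfl
  have hiff : ∀ q : Q, q ∈ MulAction.fixedPoints (Subgroup.zpowers f) Q ↔ (q : G) ∈ F := fun q => by
    rw [hF]
    constructor
    · intro h
      have h1 : f * (q : G) * f⁻¹ = q := congrArg Subtype.val (h ⟨f, Subgroup.mem_zpowers f⟩)
      exact ⟨q.2, (mul_inv_eq_iff_eq_mul.1 h1).symm⟩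
    · rintro ⟨-, h⟩ g
      obtain ⟨i, hi⟩ := Subgroup.mem_zpowers_iff.1 g.2
      refine Subtype.ext ?_
      show (g : G) * q * (g : G)⁻¹ = q
      rw [← hi, ← (h.zpow_right i).eq, mul_inv_cancel_right]
  have h1 := hP.card_modEq_card_fixedPoints Q
  have h2 : Nat.card (MulAction.fixedPoints (Subgroup.zpowers f) Q) = Nat.card F :=
    Nat.card_congr ⟨fun q => ⟨q.1, (hiff q.1).1 q.2⟩, fun a => ⟨⟨a, (hF.1 a.2).1⟩, (hiff _).2 a.2⟩,
      fun q => rfl, fun a => rfl⟩
  rw [h2, hcard] at h1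
  obtain ⟨i, hi⟩ := (hQ.two.to_le (inf_le_left : F ≤ Q)).exists_card_eq
  have hle : Nat.card F ≤ 32 := hcard ▸ Subgroup.card_le_of_le inf_le_left
  rw [hi] at h1 hle
  have hi5 : i ≤ 5 := (Nat.pow_le_pow_iff_right (by norm_num : 1 < 2)).1 (hle.trans_eq (by norm_num : 32 = 2 ^ 5))
  have hi15 : i = 1 ∨ i = 5 := by
    unfold Nat.ModEq at h1
    interval_cases i <;> simp_all
  rcases hi15 with rfl | rfl
  · have hsub : ({1, z} : Set G) ⊆ F := by
      rintro _ (rfl | rfl)
      exacts [one_mem _, hF.2 ⟨hQ.mem, hfz.symm⟩]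
    by_contra hne
    push Not at hne
    have h3 : ({1, z, x} : Set G) ⊆ F := by
      rintro _ (rfl | rfl | rfl)
      exacts [one_mem _, hF.2 ⟨hQ.mem, hfz.symm⟩, hF.2 ⟨hx, hfx.symm⟩]
    have h4 := Set.ncard_le_ncard h3
    rw [Set.ncard_eq_three.2 ⟨_, _, _, hQ.ne_one.symm, hne.1.symm, hne.2.symm, rfl⟩,
      ← Nat.card_coe_set_eq] at h4
    change 3 ≤ Nat.card F at h4
    have h5 : Nat.card ↥F = 2 := hi.trans (pow_one 2)
    omega
  · have hFQ : F = Q := Subgroup.eq_of_le_of_card_ge inf_le_left (by rw [hi, hcard]; norm_num)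
    rcases hQ.cent f (fun a ha => ((hF.1 (hFQ ▸ ha : a ∈ F)).2).symm) with h | h
    · rw [h, orderOf_one] at hf; norm_num at hf
    · rw [h, orderOf_eq_prime (p := 2) (by rw [pow_two, hQ.sq_z]) hQ.ne_one] at hf; norm_num at hf

/-- The noncentral involutions. -/
abbrev nci (Q : Subgroup G) (z : G) : Set G := {x | x ∈ Q ∧ x * x = 1 ∧ x ≠ 1 ∧ x ≠ z}

omit [Finite G] in
theorem Ctx.mul_z_mem_nci (hQ : Ctx Q z) {x : G} (hx : x ∈ nci Q z) : z * x ∈ nci Q z := by
  obtain ⟨hxQ, hx2, h1, h2⟩ := hx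
  refine ⟨mul_mem hQ.mem hxQ, ?_, fun h => h2 ?_, fun h => h1 (mul_eq_left.1 h)⟩
  · rw [(hQ.central x hxQ).symm.mul_mul_mul_comm, hQ.sq_z, hx2, one_mul]
  · rw [eq_inv_of_mul_eq_one_right h, hQ.inv_z]

/-- There are noncentral involutions. -/
theorem Ctx.nci_nonempty (hQ : Ctx Q z) (hcard : Nat.card Q = 32) : (nci Q z).Nonempty := by
  classical
  by_contra hemp
  rw [Set.not_nonempty_iff_eq_empty, Set.eq_empty_iff_forall_notMem] at hemp
  have hsq : ∀ x ∈ Q, x ≠ 1 → x ≠ z → x * x = z := fun x hx h1 h2 =>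
    (hQ.sq x hx).resolve_left fun h => hemp x ⟨hx, h, h1, h2⟩
  obtain ⟨x, hx, hx1, hxz⟩ : ∃ x ∈ Q, x ≠ 1 ∧ x ≠ z := by
    by_contra hcon
    push Not at hcon
    have h := Set.ncard_le_ncard (show (Q : Set G) ⊆ {1, z} from fun a ha => by
      by_cases h : a = 1
      · simp [h]
      · simp [hcon a ha h])
    rw [← Nat.card_coe_set_eq] at h
    change Nat.card Q ≤ _ at h
    have h2 : ({1, z} : Set G).ncard ≤ 2 := (Set.ncard_insert_le _ _).trans (by simp)
    omega
  obtain ⟨y, hy, hyx⟩ := hQ.exists_move hx hx1 hxz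
  obtain ⟨w, hw, hwx, hwne⟩ : ∃ w ∈ Q, Commute w x ∧ (w ≠ 1 ∧ w ≠ z ∧ w ≠ x ∧ w ≠ z * x) := by
    by_contra hcon
    push Not at hcon
    have hsub : (Q : Set G) ⊆ {1, z, x, z * x, y⁻¹ * 1, y⁻¹ * z, y⁻¹ * x, y⁻¹ * (z * x)} := by
      intro a ha
      have key : ∀ b ∈ Q, Commute b x → b = 1 ∨ b = z ∨ b = x ∨ b = z * x := fun b hb hbx => by
        by_cases e1 : b = 1; · exact Or.inl e1
        by_cases e2 : b = z; · exact Or.inr (Or.inl e2)
        by_cases e3 : b = x; · exact Or.inr (Or.inr (Or.inl e3))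
        exact Or.inr (Or.inr (Or.inr (hcon b hb hbx e1 e2 e3)))
      rcases hQ.commute_or hy hyx ha hx with h | h
      · rcases key a ha h with e | e | e | e <;> simp [e]
      · have := key (y * a) (mul_mem hy ha) h
        rw [← eq_inv_mul_iff_mul_eq, ← eq_inv_mul_iff_mul_eq, ← eq_inv_mul_iff_mul_eq,
          ← eq_inv_mul_iff_mul_eq] at this
        rcases this with e | e | e | e <;> simp [e]
    have h := Set.ncard_le_ncard hsub
    rw [← Nat.card_coe_set_eq] at h
    change Nat.card Q ≤ _ at h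
    have h8 : ({1, z, x, z * x, y⁻¹ * 1, y⁻¹ * z, y⁻¹ * x, y⁻¹ * (z * x)} : Set G).ncard ≤ 8 := by
      refine (Set.ncard_insert_le _ _).trans (Nat.succ_le_succ ?_)
      refine (Set.ncard_insert_le _ _).trans (Nat.succ_le_succ ?_)
      refine (Set.ncard_insert_le _ _).trans (Nat.succ_le_succ ?_)
      refine (Set.ncard_insert_le _ _).trans (Nat.succ_le_succ ?_)
      refine (Set.ncard_insert_le _ _).trans (Nat.succ_le_succ ?_)
      refine (Set.ncard_insert_le _ _).trans (Nat.succ_le_succ ?_)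
      refine (Set.ncard_insert_le _ _).trans (Nat.succ_le_succ ?_)
      simp
    omega
  have hxw : x * w * (x * w) = 1 := by
    calc x * w * (x * w) = x * (w * x) * w := by simp only [mul_assoc]
      _ = x * x * (w * w) := by rw [hwx.eq]; simp only [mul_assoc]
      _ = 1 := by rw [hsq x hx hx1 hxz, hsq w hw hwne.1 hwne.2.1, hQ.sq_z]
  have hxinv : x⁻¹ = z * x := by
    refine inv_eq_of_mul_eq_one_right ?_
    rw [← mul_assoc, ← (hQ.central x hx).eq, mul_assoc, hsq x hx hx1 hxz, hQ.sq_z]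
  refine hemp (x * w) ⟨mul_mem hx hw, hxw, fun h => hwne.2.2.2 ?_, fun h => hwne.2.2.1 ?_⟩
  · rw [eq_inv_of_mul_eq_one_right h, hxinv]
  · rw [eq_inv_mul_iff_mul_eq.2 h, hxinv, (hQ.central x hx).eq, mul_assoc, hQ.sq_z, mul_one]

/-- The number of noncentral involutions is a multiple of five. -/
theorem Ctx.five_dvd_nci (hQ : Ctx Q z) (hcard : Nat.card Q = 32) (hf : orderOf f = 5) (hfz : Commute f z) :
    5 ∣ (nci Q z).ncard := by
  classical
  haveI : Fact (Nat.Prime 5) := ⟨by norm_num⟩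
  have hnorm : ∀ g : Subgroup.zpowers f, ∀ x ∈ nci Q z, (g : G) * x * (g : G)⁻¹ ∈ nci Q z := by
    rintro g x ⟨hxQ, hx2, h1, h2⟩
    have hg : Commute (g : G) z := by
      obtain ⟨i, hi⟩ := Subgroup.mem_zpowers_iff.1 g.2
      rw [← hi]; exact hfz.zpow_left i
    refine ⟨(Subgroup.mem_normalizer_iff.1 (hQ.norm _ hg) x).1 hxQ, ?_, fun h => h1 (conj_eq_one_iff.1 h),
      fun h => h2 ?_⟩
    · rw [show (g : G) * x * (g : G)⁻¹ * ((g : G) * x * (g : G)⁻¹) = g * (x * x) * (g : G)⁻¹ by group, hx2]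
      simp
    · calc x = (g : G)⁻¹ * ((g : G) * x * (g : G)⁻¹) * g := by group
        _ = z := by rw [h, mul_assoc, ← hg.eq, inv_mul_cancel_left]
  letI : MulAction (Subgroup.zpowers f) (nci Q z) :=
    { smul := fun g x => ⟨(g : G) * (x : G) * (g : G)⁻¹, hnorm g x x.2⟩
      one_smul := fun x => Subtype.ext (show (1 : G) * (x : G) * (1 : G)⁻¹ = x by simp)
      mul_smul := fun g h x => Subtype.ext
        (show ((g : G) * h) * (x : G) * ((g : G) * h)⁻¹ = g * ((h : G) * (x : G) * (h : G)⁻¹) * (g : G)⁻¹ by group) }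
  have hP : IsPGroup 5 (Subgroup.zpowers f) := IsPGroup.of_card (n := 1) (by rw [Nat.card_zpowers, hf, pow_one])
  have h1 := hP.card_modEq_card_fixedPoints (nci Q z)
  haveI : IsEmpty (MulAction.fixedPoints (Subgroup.zpowers f) (nci Q z)) := ⟨fun ⟨x, hx⟩ => by
    have h : f * (x : G) * f⁻¹ = x := congrArg Subtype.val (hx ⟨f, Subgroup.mem_zpowers f⟩)
    rcases hQ.fixed_five hcard hf hfz x.2.1 (mul_inv_eq_iff_eq_mul.1 h) with h' | h'
    exacts [x.2.2.2.1 h', x.2.2.2.2 h']⟩
  rw [Nat.card_coe_set_eq, Nat.card_of_isEmpty] at h1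
  exact Nat.modEq_zero_iff_dvd.1 h1

/-- Commuting noncentral involutions are congruent modulo the centre. -/
theorem Ctx.nci_commute (hQ : Ctx Q z) (hcard : Nat.card Q = 32) (hf : orderOf f = 5) (hfz : Commute f z)
    {a b : G} (ha : a ∈ nci Q z) (hb : b ∈ nci Q z) (hab : Commute a b) : b = a ∨ b = z * a := by
  classical
  by_contra hcon
  push Not at hcon
  obtain ⟨haQ, ha2, ha1, haz⟩ := ha
  obtain ⟨hbQ, hb2, hb1, hbz⟩ := hb
  -- elements separating `a` and `b`
  have sep : ∀ {a b : G}, a ∈ Q → a ≠ 1 → a ≠ z → b ∈ Q → Commute b a → b ≠ 1 → b ≠ z → b ≠ a → b ≠ z * a →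
      ∃ p ∈ Q, Commute p a ∧ ¬ Commute p b := by
    intro a b haQ ha1 haz hbQ hba hb1 hbz hba' hbza
    by_contra h
    push Not at h
    rcases hQ.double_centralizer haQ ha1 haz hbQ hba (fun p hp hpa => (h p hp hpa).symm) with e | e | e | e
    exacts [hb1 e, hbz e, hba' e, hbza e]
  obtain ⟨p, hp, hpa, hpb⟩ := sep haQ ha1 haz hbQ hab.symm hb1 hbz hcon.1 hcon.2
  obtain ⟨r, hr, hrb, hra⟩ := sep hbQ hb1 hbz haQ hab ha1 haz hcon.1.symm (fun e => hcon.2 (by
    rw [e, ← mul_assoc, hQ.sq_z, one_mul]))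
  let T : Subgroup G := Q ⊓ Subgroup.centralizer ({a, b} : Set G)
  have hT : ∀ {x : G}, x ∈ T ↔ x ∈ Q ∧ Commute x a ∧ Commute x b := fun {x} => by
    simp only [T, Subgroup.mem_inf, Subgroup.mem_centralizer_iff, Set.mem_insert_iff, Set.mem_singleton_iff,
      forall_eq_or_imp, forall_eq]
    exact ⟨fun h => ⟨h.1, h.2.1.symm, h.2.2.symm⟩, fun h => ⟨h.1, h.2.1.symm, h.2.2.symm⟩⟩
  have sign : ∀ {x y : G}, x ∈ Q → y ∈ Q → ¬ Commute x y → ∀ {w : G}, w ∈ Q →
      (Commute (x * w) y ↔ ¬ Commute w y) := by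
    intro x y hx hy hxy w hw
    constructor
    · intro h hwy
      exact hxy (by simpa using h.mul_left hwy.inv_left)
    · intro hwy
      have key : ∀ u ∈ Q, ¬ Commute u y → u * y * u⁻¹ = z * y := fun u hu h =>
        mul_inv_eq_iff_eq_mul.1 ((hQ.comm u hu y hy).resolve_left fun h' =>
          h (mul_inv_eq_iff_eq_mul.1 (mul_inv_eq_one.1 h')))
      refine mul_inv_eq_iff_eq_mul.1 ?_
      calc x * w * y * (x * w)⁻¹ = x * (w * y * w⁻¹) * x⁻¹ := by group
        _ = x * z * y * x⁻¹ := by rw [key w hw hwy]; simp only [mul_assoc]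
        _ = z * (x * y * x⁻¹) := by rw [← (hQ.central x hx).eq]; simp only [mul_assoc]
        _ = y := by rw [key x hx hxy, ← mul_assoc, hQ.sq_z, one_mul]
  -- `T` has order at most eight
  have hTcard : Nat.card T ≤ 8 := by
    let F : (Bool × Bool) × T → Q := fun x =>
      ⟨(if x.1.1 then p else 1) * ((if x.1.2 then r else 1) * x.2), mul_mem (by cases x.1.1 <;> simp [hp])
        (mul_mem (by cases x.1.2 <;> simp [hr]) (hT.1 x.2.2).1)⟩
    have hF : Function.Injective F := by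
      rintro ⟨⟨i, j⟩, x⟩ ⟨⟨i', j'⟩, x'⟩ h
      have hG : (F ((i, j), x) : G) = F ((i', j'), x') := congrArg Subtype.val h
      have hb' : ∀ (i j : Bool) (x : T), (Commute ((if i then p else 1) * ((if j then r else 1) * (x : G))) b ↔
          i = false) := by
        intro i j x
        have hjx : Commute ((if j then r else 1) * (x : G)) b :=
          (Commute.mul_left (by cases j <;> simp [hrb]) (hT.1 x.2).2.2)
        cases i
        · simpa using hjx
        · have hm : (if j then r else 1) * (x : G) ∈ Q :=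
            mul_mem (by cases j <;> simp [hr]) (hT.1 x.2).1
          simp only [if_true, Bool.true_eq_false, iff_false]
          exact fun h => ((sign hp hbQ hpb hm).1 h) hjx
      have ha' : ∀ (i j : Bool) (x : T), (Commute ((if i then p else 1) * ((if j then r else 1) * (x : G))) a ↔
          j = false) := by
        intro i j x
        have hpi : Commute (if i then p else 1) a := by cases i <;> simp [hpa]
        have hjx : Commute ((if j then r else 1) * (x : G)) a ↔ j = false := by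
          cases j
          · simpa using (hT.1 x.2).2.1
          · simpa [(hT.1 x.2).2.1] using sign hr haQ hra (hT.1 x.2).1
        rw [← hjx]
        exact ⟨fun h => by
          have := hpi.inv_left.mul_left h
          rwa [inv_mul_cancel_left] at this, fun h => hpi.mul_left h⟩
      have hi : i = i' := by
        have h1 := hb' i j x
        have h2 := hb' i' j' x'
        simp only [F] at hG
        rw [hG] at h1
        have := h1.symm.trans h2
        cases i <;> cases i' <;> simp_all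
      have hj : j = j' := by
        have h1 := ha' i j x
        have h2 := ha' i' j' x'
        simp only [F] at hG
        rw [hG] at h1
        have := h1.symm.trans h2
        cases j <;> cases j' <;> simp_all
      subst hi hj
      simp only [F, mul_right_inj] at hG
      rw [Subtype.ext hG]
    have h1 := Nat.card_le_card_of_injective F hF
    rw [Nat.card_prod, Nat.card_prod, Nat.card_eq_fintype_card (α := Bool), Fintype.card_bool, hcard] at h1
    omega
  -- all its elements square to one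
  have hab1 : a * b ≠ 1 := fun h => hcon.1 ((eq_inv_of_mul_eq_one_right h).trans (inv_eq_of_mul_eq_one_right ha2))
  have habz : a * b ≠ z := fun h => hcon.2 (by
    rw [eq_inv_mul_iff_mul_eq.2 h, inv_eq_of_mul_eq_one_right ha2, (hQ.central a haQ).eq])
  have hsubT : ({1, z, a, z * a, b, z * b, a * b, z * (a * b)} : Set G) ⊆ T := by
    have hzT : z ∈ T := hT.2 ⟨hQ.mem, hQ.central a haQ, hQ.central b hbQ⟩
    have haT : a ∈ T := hT.2 ⟨haQ, Commute.refl a, hab⟩
    have hbT : b ∈ T := hT.2 ⟨hbQ, hab.symm, Commute.refl b⟩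
    rintro _ (rfl | rfl | rfl | rfl | rfl | rfl | rfl | rfl)
    exacts [one_mem _, hzT, haT, mul_mem hzT haT, hbT, mul_mem hzT hbT, mul_mem haT hbT,
      mul_mem hzT (mul_mem haT hbT)]
  have hzx1 : ∀ {x : G}, x ≠ z → z * x ≠ 1 := fun hx h => hx ((eq_inv_of_mul_eq_one_right h).trans hQ.inv_z)
  have hzxz : ∀ {x : G}, x ≠ 1 → z * x ≠ z := fun hx h => hx (mul_eq_left.1 h)
  have hzx : ∀ {x : G}, z * x ≠ x := fun h => hQ.ne_one (mul_eq_right.1 h)
  have hzswap : ∀ {x y : G}, x ≠ z * y → z * x ≠ y := fun hx h => hx (by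
    rw [← h, ← mul_assoc, hQ.sq_z, one_mul])
  have h8 : ({1, z, a, z * a, b, z * b, a * b, z * (a * b)} : Set G).ncard = 8 := by
    have h3 : a * b ≠ a := fun h => hb1 (mul_eq_left.1 h)
    have h4 : a * b ≠ b := fun h => ha1 (mul_eq_right.1 h)
    have h5 : a * b ≠ z * a := fun h => hbz (mul_left_cancel (h.trans (hQ.central a haQ).eq))
    have h6 : a * b ≠ z * b := fun h => haz (mul_right_cancel h)
    rw [Set.ncard_insert_of_notMem (by
        simp [hQ.ne_one.symm, ha1.symm, (hzx1 haz).symm, hb1.symm, (hzx1 hbz).symm, hab1.symm, (hzx1 habz).symm]),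
      Set.ncard_insert_of_notMem (by
        simp [haz.symm, (hzxz ha1).symm, hbz.symm, (hzxz hb1).symm, habz.symm, (hzxz hab1).symm]),
      Set.ncard_insert_of_notMem (by
        simp [hzx.symm, hcon.1.symm, (hzswap hcon.2).symm, h3.symm, (hzswap h5).symm]),
      Set.ncard_insert_of_notMem (by
        simp [hcon.2.symm, Ne.symm hcon.1, h5.symm, Ne.symm h3, hb1]),
      Set.ncard_insert_of_notMem (by simp [hzx.symm, h4.symm, (hzswap h6).symm]),
      Set.ncard_insert_of_notMem (by simp [h6.symm, Ne.symm h4, ha1]),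
      Set.ncard_pair hzx.symm]
  have hTeq : (T : Set G) = {1, z, a, z * a, b, z * b, a * b, z * (a * b)} := by
    refine (Set.eq_of_subset_of_ncard_le hsubT ?_).symm
    rw [h8, ← Nat.card_coe_set_eq]
    exact hTcard
  have hTsq : ∀ x ∈ T, x * x = 1 := by
    intro x hx
    rw [← SetLike.mem_coe, hTeq] at hx
    have hab2 : a * b * (a * b) = 1 := by rw [hab.symm.mul_mul_mul_comm, ha2, hb2, one_mul]
    have hz2 : ∀ {y : G}, y ∈ Q → y * y = 1 → z * y * (z * y) = 1 := fun hy h => by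
      rw [(hQ.central _ hy).symm.mul_mul_mul_comm, hQ.sq_z, h, one_mul]
    rcases hx with rfl | rfl | rfl | rfl | rfl | rfl | rfl | rfl
    exacts [one_mul 1, hQ.sq_z, ha2, hz2 haQ ha2, hb2, hz2 hbQ hb2, hab2, hz2 (mul_mem haQ hbQ) hab2]
  -- half of the remaining elements are involutions
  let S₁ : Set G := {x | x ∈ Q ∧ x ∉ T ∧ x * x = 1}
  let S₂ : Set G := {x | x ∈ Q ∧ x ∉ T ∧ x * x = z}
  let d : G → G := fun x => if Commute x a then b else a
  have hd : ∀ x ∈ Q, x ∉ T → d x ∈ T ∧ d (x * d x) = d x ∧ ¬ Commute x (d x) := by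
    intro x hx hxT
    by_cases h : Commute x a
    · have hdx : d x = b := if_pos h
      rw [hdx]
      exact ⟨hT.2 ⟨hbQ, hab.symm, Commute.refl b⟩, if_pos (h.mul_left hab.symm),
        fun hb' => hxT (hT.2 ⟨hx, h, hb'⟩)⟩
    · have hdx : d x = a := if_neg h
      rw [hdx]
      exact ⟨hT.2 ⟨haQ, Commute.refl a, hab⟩,
        if_neg fun h' => h (by simpa using h'.mul_left (Commute.refl a).inv_left), h⟩
  have hmap : ∀ x ∈ Q, x ∉ T → x * d x * (x * d x) = z * (x * x) := by
    intro x hx hxT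
    obtain ⟨hdT, -, hnc⟩ := hd x hx hxT
    have hdQ := (hT.1 hdT).1
    have hxd : x * d x * x⁻¹ = z * d x := mul_inv_eq_iff_eq_mul.1
      ((hQ.comm x hx _ hdQ).resolve_left fun h' => hnc (mul_inv_eq_iff_eq_mul.1 (mul_inv_eq_one.1 h')))
    calc x * d x * (x * d x) = x * d x * x⁻¹ * (x * x) * d x := by group
      _ = z * d x * ((x * x) * d x) := by rw [hxd]; simp only [mul_assoc]
      _ = z * d x * (d x * (x * x)) := by
          congr 1
          rcases hQ.sq x hx with h | h <;> rw [h]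
          · simp
          · exact (hQ.central _ hdQ).eq
      _ = z * (d x * d x) * (x * x) := by simp only [mul_assoc]
      _ = z * (x * x) := by rw [hTsq _ hdT, mul_one]
  have hnotT : ∀ x ∈ Q, x ∉ T → x * d x ∉ T := fun x hx hxT h =>
    hxT (by simpa using mul_mem h (inv_mem (hd x hx hxT).1))
  have hinvol : ∀ x ∈ Q, x ∉ T → x * d x * d (x * d x) = x := fun x hx hxT => by
    rw [(hd x hx hxT).2.1, mul_assoc, hTsq _ (hd x hx hxT).1, mul_one]
  have h12 : S₁.ncard = S₂.ncard := by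
    refine Set.ncard_congr (fun x _ => x * d x) ?_ ?_ ?_
    · rintro x ⟨hx, hxT, hx2⟩
      exact ⟨mul_mem hx (hT.1 (hd x hx hxT).1).1, hnotT x hx hxT, by rw [hmap x hx hxT, hx2, mul_one]⟩
    · rintro x y ⟨hx, hxT, -⟩ ⟨hy, hyT, -⟩ h
      rw [← hinvol x hx hxT, ← hinvol y hy hyT, h]
    · rintro y ⟨hy, hyT, hy2⟩
      exact ⟨y * d y, ⟨mul_mem hy (hT.1 (hd y hy hyT).1).1, hnotT y hy hyT, by
        rw [hmap y hy hyT, hy2, hQ.sq_z]⟩, hinvol y hy hyT⟩
  have hdisj : Disjoint S₁ S₂ :=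
    Set.disjoint_left.2 fun x h1 h2 => hQ.ne_one (h2.2.2.symm.trans h1.2.2)
  have hun : (T : Set G) ∪ (S₁ ∪ S₂) = (Q : Set G) := by
    ext x
    constructor
    · rintro (h | h | h)
      exacts [(hT.1 h).1, h.1, h.1]
    · intro hx
      by_cases hxT : x ∈ T
      · exact Or.inl hxT
      · exact Or.inr ((hQ.sq x hx).imp (fun h => ⟨hx, hxT, h⟩) fun h => ⟨hx, hxT, h⟩)
  have hd1 : Disjoint (T : Set G) (S₁ ∪ S₂) :=
    Set.disjoint_left.2 fun x h1 h2 => h2.elim (fun h => h.2.1 h1) fun h => h.2.1 h1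
  have hsum := Set.ncard_union_eq hd1 (Set.toFinite _) (Set.toFinite _)
  rw [hun, Set.ncard_union_eq hdisj (Set.toFinite _) (Set.toFinite _), hTeq, h8,
    ← Nat.card_coe_set_eq] at hsum
  change Nat.card Q = _ at hsum
  rw [hcard, h12] at hsum
  have hnci : nci Q z ∪ ({1, z} : Set G) = (T : Set G) ∪ S₁ := by
    ext x
    constructor
    · rintro (⟨hx, hx2, -, -⟩ | rfl | rfl)
      · by_cases hxT : x ∈ T
        exacts [Or.inl hxT, Or.inr ⟨hx, hxT, hx2⟩]
      · exact Or.inl (one_mem T)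
      · exact Or.inl (hT.2 ⟨hQ.mem, hQ.central a haQ, hQ.central b hbQ⟩)
    · rintro (h | h)
      · by_cases h1 : x = 1; · exact Or.inr (Or.inl h1)
        by_cases h2 : x = z; · exact Or.inr (Or.inr h2)
        exact Or.inl ⟨(hT.1 h).1, hTsq x h, h1, h2⟩
      · exact Or.inl ⟨h.1, h.2.2, fun e => h.2.1 (e ▸ one_mem T),
          fun e => h.2.1 (e ▸ hT.2 ⟨hQ.mem, hQ.central a haQ, hQ.central b hbQ⟩)⟩
  have hd2 : Disjoint (nci Q z) ({1, z} : Set G) :=
    Set.disjoint_left.2 fun x h1 h2 => h2.elim h1.2.2.1 h1.2.2.2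
  have hd3 : Disjoint (T : Set G) S₁ := Set.disjoint_left.2 fun x h1 h2 => h2.2.1 h1
  have hcount := congrArg Set.ncard hnci
  rw [Set.ncard_union_eq hd2 (Set.toFinite _) (Set.toFinite _),
    Set.ncard_union_eq hd3 (Set.toFinite _) (Set.toFinite _), hTeq, h8, Set.ncard_pair hQ.ne_one.symm] at hcount
  have := hQ.five_dvd_nci hcard hf hfz
  omega

/-- There are exactly ten noncentral involutions. -/
theorem Ctx.ncard_nci (hQ : Ctx Q z) (hcard : Nat.card Q = 32) (hf : orderOf f = 5) (hfz : Commute f z) :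
    (nci Q z).ncard = 10 := by
  classical
  obtain ⟨u, hu⟩ := hQ.nci_nonempty hcard
  have hne : (nci Q z).ncard ≠ 0 := fun h => by
    rw [Set.ncard_eq_zero] at h
    rw [h] at hu
    exact hu
  have h5 := hQ.five_dvd_nci hcard hf hfz
  -- at most eighteen
  obtain ⟨y, hy, hyu⟩ := hQ.exists_move hu.1 hu.2.2.1 hu.2.2.2
  let C : Set G := {x | x ∈ Q ∧ Commute x u}
  let D : Set G := {x | x ∈ Q ∧ ¬ Commute x u}
  have hCD : C.ncard = D.ncard := by
    refine Set.ncard_congr (fun x _ => y * x) ?_ ?_ ?_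
    · rintro x ⟨hx, hxu⟩
      exact ⟨mul_mem hy hx, fun h => hQ.ne_one (mul_eq_right.1 (hyu.symm.trans (by
        rw [(show Commute y u by simpa using h.mul_left hxu.inv_left).eq, mul_inv_cancel_right])))⟩
    · rintro x x' - - h
      exact mul_left_cancel h
    · rintro x ⟨hx, hxu⟩
      refine ⟨y⁻¹ * x, ⟨mul_mem (inv_mem hy) hx, ?_⟩, mul_inv_cancel_left y x⟩
      rcases hQ.commute_or hy hyu (mul_mem (inv_mem hy) hx) hu.1 with h | h
      · exact h
      · rw [mul_inv_cancel_left] at h; exact absurd h hxu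
  have hQCD : (Q : Set G) = C ∪ D := by
    ext x
    exact ⟨fun hx => (em (Commute x u)).imp (fun h => ⟨hx, h⟩) fun h => ⟨hx, h⟩,
      fun h => h.elim And.left And.left⟩
  have h32 := congrArg Set.ncard hQCD
  rw [Set.ncard_union_eq (Set.disjoint_left.2 fun x h1 h2 => h2.2 h1.2) (Set.toFinite _) (Set.toFinite _),
    ← Nat.card_coe_set_eq, hCD] at h32
  change Nat.card Q = _ at h32
  have hsub : nci Q z ⊆ ({u, z * u} : Set G) ∪ D := fun x hx => by
    by_cases h : Commute x u
    · exact Or.inl (by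
        rcases hQ.nci_commute hcard hf hfz hu hx h.symm with e | e <;> simp [e])
    · exact Or.inr ⟨hx.1, h⟩
  have hle := (Set.ncard_le_ncard hsub).trans (Set.ncard_union_le _ _)
  have h2 : ({u, z * u} : Set G).ncard ≤ 2 := (Set.ncard_insert_le _ _).trans (by simp)
  -- evenness
  have heven : 2 ∣ (nci Q z).ncard := by
    haveI : Fact (Nat.Prime 2) := ⟨Nat.prime_two⟩
    letI : MulAction (Subgroup.zpowers z) (nci Q z) :=
      { smul := fun g x => ⟨(g : G) * (x : G), by
          obtain ⟨i, hi⟩ := Subgroup.mem_zpowers_iff.1 g.2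
          rw [← hi]
          have h2 : z ^ (2 : ℤ) = 1 := by rw [zpow_two, hQ.sq_z]
          rcases Int.even_or_odd' i with ⟨j, rfl | rfl⟩
          · rw [zpow_mul, h2, one_zpow, one_mul]; exact x.2
          · rw [zpow_add_one, zpow_mul, h2, one_zpow, one_mul]; exact hQ.mul_z_mem_nci x.2⟩
        one_smul := fun x => Subtype.ext (one_mul (x : G))
        mul_smul := fun g h x => Subtype.ext (mul_assoc (g : G) h x) }
    have hP : IsPGroup 2 (Subgroup.zpowers z) :=
      hQ.two.to_le (Subgroup.zpowers_le.2 hQ.mem)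
    have h1 := hP.card_modEq_card_fixedPoints (nci Q z)
    haveI : IsEmpty (MulAction.fixedPoints (Subgroup.zpowers z) (nci Q z)) := ⟨fun ⟨x, hx⟩ => by
      have h : z * (x : G) = x := congrArg Subtype.val (hx ⟨z, Subgroup.mem_zpowers z⟩)
      exact hQ.ne_one (mul_eq_right.1 h)⟩
    rw [Nat.card_coe_set_eq, Nat.card_of_isEmpty] at h1
    exact Nat.modEq_zero_iff_dvd.1 h1
  omega

end Cfsg.Lib.Extra
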