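import Cfsg.Agent.Lib.Extra.LargeFourLocal
import Cfsg.Agent.Lib.Extra.LargeTwoCore

/-!
# The abelianization of the centralizer of the centre of a large extraspecial 2-subgroup

A homomorphism from `C(z)` onto an abelian 2-group has image of exponent two when the group has no
quotient of order two: the parity of the transfer at an element of order at least four is computed
over the orbits of `Q` on the cosets of `C(z)`.
-/

set_option autoImplicit false
set_option linter.style.haveILetI false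

namespace Cfsg.Lib.Extra

open Subgroup MulAction
open scoped commutatorElement

variable {G : Type*} [Group G] [Finite G]

/-- The transfer is the product over the fixed cosets when the other cycles contribute nothing. -/
theorem transfer_fixed {H : Subgroup G} {B : Type*} [CommGroup B] (ψ : H →* B) {t : G}
    [Fintype (G ⧸ H)]
    (hcyc : ∀ (n : ℕ) (a : G) (h : a⁻¹ * t ^ n * a ∈ H), n ∣ orderOf t → n ≠ 1 → ψ ⟨_, h⟩ = 1) :
    ∃ f : G ⧸ H → B, MonoidHom.transfer ψ t = ∏ c, f c ∧
      (∀ c, t • c ≠ c → f c = 1) ∧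
      ∀ (a : G) (h : a⁻¹ * t * a ∈ H), f a = ψ ⟨a⁻¹ * t * a, h⟩ := by
  classical
  have hmem : ∀ a : G, t • (a : G ⧸ H) = (a : G ⧸ H) → a⁻¹ * t * a ∈ H := by
    intro a ha
    rw [MulAction.Quotient.smul_coe, smul_eq_mul] at ha
    have := inv_mem (QuotientGroup.eq.mp ha.symm)
    have h2 := inv_mem this
    simpa [mul_assoc] using h2
  let f : G ⧸ H → B := fun c =>
    if h : t • c = c then ψ ⟨c.out⁻¹ * t * c.out, hmem _ (by rw [QuotientGroup.out_eq']; exact h)⟩ else 1
  have hfix : ∀ c, f c ≠ 1 → t • c = c := fun c hc => by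
    by_contra h
    exact hc (dif_neg h)
  refine ⟨f, ?_, fun c hc => dif_neg hc, ?_⟩
  · rw [MonoidHom.transfer_eq_prod_quotient_orbitRel_zpowers_quot]
    have hterm : ∀ q : Quotient (orbitRel (zpowers t) (G ⧸ H)),
        ψ ⟨q.out.out⁻¹ * t ^ Function.minimalPeriod (t • ·) q.out * q.out.out,
          QuotientGroup.out_conj_pow_minimalPeriod_mem H t q.out⟩ = f q.out := by
      intro q
      by_cases hfx : t • q.out = q.out
      · have h1 : Function.minimalPeriod (fun c : G ⧸ H => t • c) q.out = 1 :=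
          Function.minimalPeriod_eq_one_iff_isFixedPt.mpr hfx
        simp only [f, dif_pos hfx, h1, pow_one]
      · simp only [f, dif_neg hfx]
        refine hcyc _ _ _ ?_ fun h => hfx (Function.minimalPeriod_eq_one_iff_isFixedPt.mp h)
        refine Function.IsPeriodicPt.minimalPeriod_dvd ?_
        show (t • ·)^[orderOf t] q.out = q.out
        rw [smul_iterate]
        show t ^ orderOf t • q.out = q.out
        rw [pow_orderOf_eq_one, one_smul]
    rw [Finset.prod_congr rfl (fun q _ => hterm q)]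
    refine Finset.prod_bij_ne_one (fun q _ _ => q.out) (fun _ _ _ => Finset.mem_univ _)
      (fun q₁ _ _ q₂ _ _ h => Quotient.out_injective h) ?_ (fun _ _ _ => rfl)
    intro c _ hc
    have hout : (⟦c⟧ : Quotient (orbitRel (zpowers t) (G ⧸ H))).out = c := by
      obtain ⟨⟨u, k, rfl⟩, hu⟩ := Quotient.mk_out (s := orbitRel (zpowers t) (G ⧸ H)) c
      rw [← hu]
      show t ^ k • c = c
      exact mem_stabilizer_iff.mp
        ((MulAction.stabilizer G c).zpow_mem (mem_stabilizer_iff.mpr (hfix c hc)) k)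
    exact ⟨⟦c⟧, Finset.mem_univ _, by rw [hout]; exact hc, hout⟩
  · intro a h
    have ha : t • (a : G ⧸ H) = (a : G ⧸ H) := by
      rw [MulAction.Quotient.smul_coe, smul_eq_mul, QuotientGroup.eq]
      have := inv_mem h
      simpa [mul_assoc] using this
    simp only [f, dif_pos ha]
    obtain ⟨s, hs⟩ := QuotientGroup.mk_out_eq_mul H a
    have he : (⟨(QuotientGroup.mk a : G ⧸ H).out⁻¹ * t * (QuotientGroup.mk a : G ⧸ H).out,
        hmem _ (by rw [QuotientGroup.out_eq']; exact ha)⟩ : H) = s⁻¹ * ⟨a⁻¹ * t * a, h⟩ * s := by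
      apply Subtype.ext
      simp only [hs, Subgroup.coe_mul, Subgroup.coe_inv]
      group
    rw [he, map_mul, map_mul, map_inv, mul_comm, mul_inv_cancel_left]

variable {Q : Subgroup G} {z : G}

set_option maxHeartbeats 800000 in
/-- A homomorphism from `C(z)` onto an abelian 2-group has image of exponent at most two. -/
theorem Ctx.sq_eq_one_of_surjective (hQ : Ctx Q z) (hcard : 16 ≤ Nat.card Q)
    (hres : Cfsg.pResidual 2 G = ⊤) {A : Type*} [CommGroup A] [Finite A] (hA : IsPGroup 2 A)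
    (φ : Subgroup.centralizer ({z} : Set G) →* A) (hφ : Function.Surjective φ) (a₀ : A) : a₀ ^ 2 = 1 := by
  classical
  by_contra ha₀
  haveI : Fact (Nat.Prime 2) := ⟨Nat.prime_two⟩
  have hmH : ∀ {g : G}, g ∈ Subgroup.centralizer ({z} : Set G) ↔ g * z = z * g :=
    Subgroup.mem_centralizer_singleton_iff
  have hQH := hQ.le_centralizer'
  have hφQ : ∀ x (hx : x ∈ Q), φ ⟨x, hQH hx⟩ = 1 := fun x hx =>
    hQ.map_eq_one hcard φ (transfer_eq_one hres hA φ) hx
  -- the odd elements: those outside a maximal subgroup containing the elements of order two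
  obtain ⟨M, hMc, hMle⟩ : ∃ M : Subgroup A, IsCoatom M ∧ (powMonoidHom 2 : A →* A).ker ≤ M :=
    (IsCoatomic.eq_top_or_exists_le_coatom (powMonoidHom 2 : A →* A).ker).resolve_left fun h =>
      ha₀ (MonoidHom.mem_ker.1 (h ▸ Subgroup.mem_top a₀ : a₀ ∈ (powMonoidHom 2 : A →* A).ker))
  have hMidx : M.index = 2 := Cfsg.Lib.PGroup.index_of_isCoatom hA hMc
  have hsq1 : ∀ x : A, x ∉ M → x ^ 2 ≠ 1 := fun x hx h => hx (hMle (MonoidHom.mem_ker.2 h))
  have hmm : ∀ x y : A, x ∉ M → y ∉ M → x * y ∈ M := fun x y hx hy =>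
    (Subgroup.mul_mem_iff_of_index_two hMidx).2 (iff_of_false hx hy)
  let ψ : Subgroup.centralizer ({z} : Set G) →* A ⧸ M := (QuotientGroup.mk' M).comp φ
  have hψ1 : ∀ x, ψ x = 1 ↔ φ x ∈ M := fun x => QuotientGroup.eq_one_iff _
  have hB : ∀ q : A ⧸ M, q * q = 1 := fun q => by
    induction q using QuotientGroup.induction_on with
    | _ x =>
    rw [← QuotientGroup.mk_mul, QuotientGroup.eq_one_iff]
    exact Subgroup.mul_self_mem_of_index_two hMidx x
  -- an odd element of least order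
  letI : Fintype A := Fintype.ofFinite A
  obtain ⟨⟨t, htH⟩, ht, hmin⟩ : ∃ x, φ x ∉ M ∧ ∀ y, φ y ∉ M → orderOf (x : G) ≤ orderOf (y : G) := by
    obtain ⟨x, hx, hx'⟩ := Finset.exists_min_image
      ((Finset.univ : Finset A).filter (fun a => a ∉ M) |>.biUnion fun a =>
        (Set.toFinite {x : Subgroup.centralizer ({z} : Set G) | φ x = a}).toFinset)
      (fun x => orderOf (x : G)) (by
        obtain ⟨a, ha⟩ : ∃ a, a ∉ M := by
          by_contra h
          push Not at h
          exact hMc.1 (eq_top_iff.2 fun a _ => h a)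
        obtain ⟨x, rfl⟩ := hφ a
        exact ⟨x, Finset.mem_biUnion.2 ⟨φ x, by simpa using ha, by simp⟩⟩)
    simp only [Finset.mem_biUnion, Finset.mem_filter, Finset.mem_univ, true_and,
      Set.Finite.mem_toFinset, Set.mem_setOf_eq] at hx hx'
    obtain ⟨a, ha, rfl⟩ := hx
    exact ⟨x, ha, fun y hy => hx' y ⟨_, hy, rfl⟩⟩
  have htz : Commute t z := hmH.1 htH
  have hsmall : ∀ (g : G) (hg : g ∈ Subgroup.centralizer ({z} : Set G)),
      orderOf g < orderOf t → ψ ⟨g, hg⟩ = 1 := fun g hg h => (hψ1 _).2 (by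
    by_contra hc
    exact absurd (hmin ⟨g, hg⟩ hc) (not_le.2 h))
  -- its order is a power of two, at least four
  obtain ⟨k, m, hm, hk⟩ := Nat.exists_eq_two_pow_mul_odd (orderOf_pos t).ne'
  have hm1 : m = 1 := by
    by_contra hne
    have hm0 : 0 < m := hm.pos
    have h1 : φ (⟨t, htH⟩ ^ m) ∉ M := by
      intro hc
      rw [map_pow] at hc
      obtain ⟨j, rfl⟩ := hm
      rw [pow_succ, pow_mul] at hc
      refine ht ((Subgroup.mul_mem_cancel_left M (pow_mem ?_ j)).1 hc)
      rw [pow_two]; exact Subgroup.mul_self_mem_of_index_two hMidx _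
    have h2 := hmin _ h1
    have h3 : orderOf (((⟨t, htH⟩ : Subgroup.centralizer ({z} : Set G)) ^ m : Subgroup.centralizer ({z} : Set G)) : G) = 2 ^ k := by
      show orderOf (t ^ m) = 2 ^ k
      rw [orderOf_pow' _ hm0.ne', hk, Nat.gcd_mul_left_left, Nat.mul_div_cancel _ hm0]
    rw [h3] at h2
    change orderOf t ≤ 2 ^ k at h2
    rw [hk] at h2
    have : 2 ^ k * 2 ≤ 2 ^ k * m := Nat.mul_le_mul_left _ (by omega)
    have := Nat.two_pow_pos k
    omega
  subst hm1
  rw [mul_one] at hk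
  have hord4 : ∀ (g : G) (hg : g ∈ Subgroup.centralizer ({z} : Set G)), φ ⟨g, hg⟩ ∉ M → g * g ≠ 1 := by
    intro g hg h hc
    refine hsq1 _ h ?_
    rw [pow_two, ← map_mul, ← map_one φ]
    exact congrArg φ (Subtype.ext hc)
  have ht4 : 4 ≤ orderOf t := by
    rw [hk]
    rcases k with _ | _ | k
    · exfalso
      rw [pow_zero, orderOf_eq_one_iff] at hk
      exact hord4 t htH ht (by rw [hk, one_mul])
    · exfalso
      refine hord4 t htH ht ?_
      rw [← pow_two, ← pow_one 2, ← hk, pow_orderOf_eq_one]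
    · calc (4 : ℕ) = 2 ^ 2 := by norm_num
        _ ≤ _ := Nat.pow_le_pow_right (by norm_num) (by omega)
  letI := (Subgroup.centralizer ({z} : Set G)).fintypeQuotientOfFiniteIndex
  obtain ⟨f, hVf, hf1, hfrep⟩ := transfer_fixed ψ (t := t) (by
    intro n a h hdvd hn
    refine hsmall _ h ?_
    have hn0 : n ≠ 0 := fun h0 => by
      rw [h0, zero_dvd_iff] at hdvd
      exact (orderOf_pos t).ne' hdvd
    have e : orderOf (a⁻¹ * t ^ n * a) = orderOf (t ^ n) := by
      have := MulEquiv.orderOf_eq (MulAut.conj a⁻¹) (t ^ n)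
      simpa using this
    rw [e, orderOf_pow_of_dvd hn0 hdvd]
    exact Nat.div_lt_self (orderOf_pos t) (by omega))
  have hB2 : IsPGroup 2 (A ⧸ M) := hA.to_quotient M
  have key := transfer_eq_one hres hB2 ψ t
  rw [hVf] at key
  -- orbits of `Q`
  have htQ : ∀ x ∈ Q, t⁻¹ * x * t ∈ Q := fun x hx => by
    have := (Subgroup.mem_normalizer_iff.1 (hQ.norm t⁻¹ htz.inv_left) x).1 hx
    rwa [inv_inv] at this
  have hzfix : ∀ (x : G), x ∈ Q → ∀ c : G ⧸ Subgroup.centralizer ({z} : Set G),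
      z • c = c → z • x • c = x • c := fun x hx c hc => by
    rw [smul_smul, (hQ.central x hx).eq, ← smul_smul, hc]
  letI : ∀ c : G ⧸ Subgroup.centralizer ({z} : Set G), Fintype (orbit Q c) := fun c => Fintype.ofFinite _
  let O := fun c : G ⧸ Subgroup.centralizer ({z} : Set G) => orbit Q c
  have hone : (((1 : G) : G ⧸ Subgroup.centralizer ({z} : Set G))) ∈
      fixedPoints Q (G ⧸ Subgroup.centralizer ({z} : Set G)) := fun w => by
    show (w : G) • ((1 : G) : G ⧸ Subgroup.centralizer ({z} : Set G)) = _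
    rw [MulAction.Quotient.smul_coe, smul_eq_mul, mul_one, QuotientGroup.eq, mul_one]
    exact inv_mem (hQH w.2)
  rw [← Finset.prod_fiberwise_of_maps_to (g := O)
    (t := (Finset.univ : Finset (G ⧸ Subgroup.centralizer ({z} : Set G))).image O)
    (fun c _ => Finset.mem_image_of_mem _ (Finset.mem_univ c)),
    Finset.prod_eq_single (O ((1 : G) : G ⧸ Subgroup.centralizer ({z} : Set G)))] at key
  · -- the coset of `1` alone contributes
    have hset : (Finset.univ.filter fun c => O c = O ((1 : G) : G ⧸ Subgroup.centralizer ({z} : Set G))) =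
        {((1 : G) : G ⧸ Subgroup.centralizer ({z} : Set G))} := by
      ext c
      simp only [Finset.mem_filter, Finset.mem_univ, true_and, Finset.mem_singleton, O]
      refine ⟨fun h => ?_, fun h => by rw [h]⟩
      obtain ⟨u, hu⟩ : c ∈ orbit Q ((1 : G) : G ⧸ Subgroup.centralizer ({z} : Set G)) := h ▸ mem_orbit_self c
      rw [← hu]; exact hone u
    rw [hset, Finset.prod_singleton, hfrep 1 (by simpa using htH), hψ1] at key
    exact ht (by simpa using key)
  swap
  · intro h
    exact absurd (Finset.mem_image_of_mem _ (Finset.mem_univ _)) h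
  intro o ho hne
  obtain ⟨c₁, -, rfl⟩ := Finset.mem_image.1 ho
  set S := Finset.univ.filter fun c => O c = O c₁ with hS
  by_cases hex : ∃ c ∈ S, t • c = c
  swap
  · push Not at hex
    exact Finset.prod_eq_one fun c hc => hf1 c (hex c hc)
  obtain ⟨c₀, hc₀S, hc₀t⟩ := hex
  have hS0 : ∀ c, c ∈ S ↔ c ∈ orbit Q c₀ := fun c => by
    have h0 : O c₀ = O c₁ := (Finset.mem_filter.1 hc₀S).2
    simp only [hS, Finset.mem_filter, Finset.mem_univ, true_and]
    rw [← h0]
    exact orbit_eq_iff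
  obtain ⟨a, rfl⟩ := QuotientGroup.mk_surjective c₀
  have fix_iff : ∀ g : G, g • (a : G ⧸ Subgroup.centralizer ({z} : Set G)) = a ↔
      a⁻¹ * g * a ∈ Subgroup.centralizer ({z} : Set G) := fun g => by
    rw [MulAction.Quotient.smul_coe, smul_eq_mul, QuotientGroup.eq, ← inv_mem_iff]
    simp [mul_assoc]
  have htmem := (fix_iff t).1 hc₀t
  by_cases hzc : z • (a : G ⧸ Subgroup.centralizer ({z} : Set G)) = a
  swap
  · -- `z` pairs the fixed cosets
    refine Finset.prod_involution (fun c _ => z • c) ?_ ?_ ?_ ?_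
    · intro c hc
      by_cases hct : t • c = c
      · obtain ⟨b, rfl⟩ := QuotientGroup.mk_surjective c
        have hb : b⁻¹ * t * b ∈ Subgroup.centralizer ({z} : Set G) := by
          rw [MulAction.Quotient.smul_coe, smul_eq_mul, QuotientGroup.eq, ← inv_mem_iff] at hct
          simpa [mul_assoc] using hct
        have e : (z * b)⁻¹ * t * (z * b) = b⁻¹ * t * b := by
          calc (z * b)⁻¹ * t * (z * b) = b⁻¹ * (z⁻¹ * (t * z)) * b := by group
            _ = _ := by rw [htz.eq, inv_mul_cancel_left]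
        rw [MulAction.Quotient.smul_coe, smul_eq_mul, hfrep b hb, hfrep (z * b) (e ▸ hb)]
        simp only [e]
        exact hB _
      · rw [hf1 c hct, hf1 (z • c), one_mul]
        rw [smul_smul, htz.eq, ← smul_smul]
        exact fun h => hct (smul_left_cancel _ h)
    · intro c hc _ h
      obtain ⟨u, rfl⟩ := (hS0 c).1 hc
      refine hzc (smul_left_cancel (u : G) ?_)
      rw [smul_smul, ← (hQ.central u u.2).eq, ← smul_smul]
      exact h
    · intro c hc
      exact (hS0 _).2 (by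
        obtain ⟨u, hu⟩ := (hS0 c).1 hc
        exact ⟨⟨z, hQ.mem⟩ * u, (mul_smul (⟨z, hQ.mem⟩ : Q) u _).trans (congrArg (z • ·) hu)⟩)
    · intro c _
      rw [smul_smul, hQ.sq_z, one_smul]
  -- now `z` fixes the whole orbit
  have hzmem := (fix_iff z).1 hzc
  have hzψ : ψ ⟨_, hzmem⟩ = 1 := hsmall _ hzmem (by
    have e : orderOf (a⁻¹ * z * a) = orderOf z := by
      have := MulEquiv.orderOf_eq (MulAut.conj a⁻¹) z
      simpa using this
    rw [e, orderOf_eq_prime (p := 2) (by rw [pow_two, hQ.sq_z]) hQ.ne_one]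
    omega)
  set δ : G → G := fun x => t⁻¹ * x⁻¹ * t * x with hδdef
  have hδQ : ∀ x ∈ Q, δ x ∈ Q := fun x hx => mul_mem (htQ _ (inv_mem hx)) hx
  have htmul : ∀ x, x⁻¹ * t * x = t * δ x := fun x => by rw [hδdef]; group
  have hδfix : ∀ x, t • x • (a : G ⧸ Subgroup.centralizer ({z} : Set G)) = x • (a : G ⧸ _) ↔
      δ x • (a : G ⧸ Subgroup.centralizer ({z} : Set G)) = a := fun x => by
    constructor
    · intro h
      refine smul_left_cancel t (Eq.trans ?_ hc₀t.symm)
      rw [smul_smul, ← htmul, ← smul_smul, ← smul_smul, h, inv_smul_smul]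
    · intro h
      have e1 : t * x = x * (t * δ x) := by rw [← htmul]; group
      rw [smul_smul, e1, ← smul_smul, ← smul_smul, h, hc₀t]
  have hz2fix : ∀ g, (g = 1 ∨ g = z) → g • (a : G ⧸ Subgroup.centralizer ({z} : Set G)) = a := by
    rintro g (rfl | rfl)
    exacts [one_smul _ _, hzc]
  have hδmul : ∀ x ∈ Q, ∀ y ∈ Q, ∃ g, (g = 1 ∨ g = z) ∧ δ (x * y) = g * δ x * δ y := by
    intro x hx y hy
    refine ⟨(t⁻¹ * y⁻¹ * t) * δ x * (t⁻¹ * y⁻¹ * t)⁻¹ * (δ x)⁻¹,
      hQ.comm _ (htQ _ (inv_mem hy)) _ (hδQ x hx), ?_⟩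
    simp only [hδdef]; group
  by_cases he1 : ∃ e ∈ Q, e • (a : G ⧸ Subgroup.centralizer ({z} : Set G)) ≠ a ∧
      ∃ hd : a⁻¹ * δ e * a ∈ Subgroup.centralizer ({z} : Set G), ψ ⟨_, hd⟩ = 1
  · -- an element of `Q` pairs the fixed cosets
    obtain ⟨e, he, hemove, hde, hψde⟩ := he1
    have hdfix : δ e • (a : G ⧸ Subgroup.centralizer ({z} : Set G)) = a := (fix_iff _).2 hde
    refine Finset.prod_involution (fun c _ => e • c) ?_ ?_ ?_ ?_
    · intro c hc
      obtain ⟨⟨u, hu⟩, rfl⟩ := (hS0 c).1 hc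
      show f (u • (a : G ⧸ _)) * f (e • u • (a : G ⧸ _)) = 1
      obtain ⟨g, hg, hδ⟩ := hδmul e he u hu
      have hiff : t • (e * u) • (a : G ⧸ Subgroup.centralizer ({z} : Set G)) = (e * u) • (a : G ⧸ _) ↔
          t • u • (a : G ⧸ Subgroup.centralizer ({z} : Set G)) = u • (a : G ⧸ _) := by
        rw [hδfix, hδfix, hδ]
        constructor
        · intro h
          have h1 : (g * δ e)⁻¹ • (a : G ⧸ Subgroup.centralizer ({z} : Set G)) = a := by
            rw [inv_smul_eq_iff, mul_smul, hdfix, hz2fix g hg]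
          calc δ u • (a : G ⧸ Subgroup.centralizer ({z} : Set G))
              = (g * δ e)⁻¹ • (g * δ e * δ u) • (a : G ⧸ _) := by rw [smul_smul, inv_mul_cancel_left]
            _ = _ := by rw [h, h1]
        · intro h
          rw [mul_smul, mul_smul, h, hdfix, hz2fix g hg]
      by_cases hut : t • u • (a : G ⧸ Subgroup.centralizer ({z} : Set G)) = u • (a : G ⧸ _)
      · have hgmem := (fix_iff g).1 (hz2fix g hg)
        have hgψ : ψ ⟨_, hgmem⟩ = 1 := by
          rcases hg with rfl | rfl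
          · rw [← map_one ψ]
            exact congrArg ψ (Subtype.ext (by simp))
          · exact hzψ
        have hdu := (fix_iff _).1 ((hδfix u).1 hut)
        have hdeu : a⁻¹ * δ (e * u) * a ∈ Subgroup.centralizer ({z} : Set G) :=
          (fix_iff _).1 ((hδfix _).1 (hiff.2 hut))
        have hval : ∀ x, ∀ hd : a⁻¹ * δ x * a ∈ Subgroup.centralizer ({z} : Set G),
            f (x • (a : G ⧸ Subgroup.centralizer ({z} : Set G))) = ψ ⟨_, htmem⟩ * ψ ⟨_, hd⟩ := by
          intro x hd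
          have e' : (x * a)⁻¹ * t * (x * a) = a⁻¹ * t * a * (a⁻¹ * δ x * a) := by
            rw [show (x * a)⁻¹ * t * (x * a) = a⁻¹ * (x⁻¹ * t * x) * a by group, htmul]; group
          rw [MulAction.Quotient.smul_coe, smul_eq_mul, hfrep (x * a) (e' ▸ mul_mem htmem hd), ← map_mul]
          exact congrArg ψ (Subtype.ext e')
        rw [smul_smul, hval u hdu, hval _ hdeu]
        have e2 : (⟨_, hdeu⟩ : Subgroup.centralizer ({z} : Set G)) =
            ⟨_, hgmem⟩ * ⟨_, hde⟩ * ⟨_, hdu⟩ := by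
          refine Subtype.ext ?_
          show a⁻¹ * δ (e * u) * a = a⁻¹ * g * a * (a⁻¹ * δ e * a) * (a⁻¹ * δ u * a)
          rw [hδ]; group
        rw [e2, map_mul, map_mul, hgψ, hψde, one_mul, one_mul]
        exact hB _
      · rw [hf1 _ hut, smul_smul, hf1 _ fun h => hut (hiff.1 h), one_mul]
    · intro c hc _ h
      obtain ⟨⟨u, hu⟩, rfl⟩ := (hS0 c).1 hc
      change e • u • (a : G ⧸ Subgroup.centralizer ({z} : Set G)) = u • (a : G ⧸ _) at h
      refine hemove ?_
      obtain ⟨g, hg, hcomm⟩ : ∃ g, (g = 1 ∨ g = z) ∧ e * u = u * e * g :=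
        ⟨e⁻¹ * u⁻¹ * e * u, by
          have := hQ.comm _ (inv_mem he) _ (inv_mem hu)
          simpa [mul_assoc] using this, by group⟩
      refine smul_left_cancel u ?_
      rw [smul_smul, hcomm, ← smul_smul, hz2fix g hg, ← smul_smul] at h
      exact h
    · intro c hc
      exact (hS0 _).2 (by
        obtain ⟨u, hu⟩ := (hS0 c).1 hc
        exact ⟨⟨e, he⟩ * u, (mul_smul (⟨e, he⟩ : Q) u _).trans (congrArg (e • ·) hu)⟩)
    · intro c hc
      obtain ⟨⟨u, hu⟩, rfl⟩ := (hS0 c).1 hc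
      show e • e • u • (a : G ⧸ Subgroup.centralizer ({z} : Set G)) = u • (a : G ⧸ _)
      rw [smul_smul]
      rcases hQ.sq e he with h | h <;> rw [h]
      · rw [one_smul]
      · exact hzfix u hu _ hzc
  -- the bad configuration
  exfalso
  push Not at he1
  -- a second fixed coset in the orbit
  obtain ⟨e, he, hemove, hde⟩ : ∃ e ∈ Q, e • (a : G ⧸ Subgroup.centralizer ({z} : Set G)) ≠ a ∧
      a⁻¹ * δ e * a ∈ Subgroup.centralizer ({z} : Set G) := by
    let X : SubMulAction (zpowers t) (G ⧸ Subgroup.centralizer ({z} : Set G)) :=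
      { carrier := orbit Q (a : G ⧸ Subgroup.centralizer ({z} : Set G))
        smul_mem' := by
          rintro ⟨g, hg⟩ _ ⟨⟨u, hu⟩, rfl⟩
          have hgz : Commute g z := hmH.1 (Subgroup.zpowers_le.2 htH hg)
          have hgu : g * u * g⁻¹ ∈ Q := (Subgroup.mem_normalizer_iff.1 (hQ.norm g hgz) u).1 hu
          have hga : g • (a : G ⧸ Subgroup.centralizer ({z} : Set G)) = a :=
            mem_stabilizer_iff.1 (Subgroup.zpowers_le.2 (mem_stabilizer_iff.2 hc₀t) hg)
          refine ⟨⟨g * u * g⁻¹, hgu⟩, ?_⟩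
          show (g * u * g⁻¹) • (a : G ⧸ Subgroup.centralizer ({z} : Set G)) = g • u • (a : G ⧸ _)
          rw [smul_smul]
          conv_lhs => rw [← hga, smul_smul, inv_mul_cancel_right] }
    have hP : IsPGroup 2 (zpowers t) := IsPGroup.of_card (n := k) (by rw [Nat.card_zpowers, hk])
    have h1 := hP.card_modEq_card_fixedPoints X
    obtain ⟨j, hj⟩ := hQ.two.card_orbit (a : G ⧸ Subgroup.centralizer ({z} : Set G))
    have hX : Nat.card X = 2 ^ j := hj
    have hj0 : j ≠ 0 := by
      rintro rfl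
      have hs : Subsingleton (orbit Q (a : G ⧸ Subgroup.centralizer ({z} : Set G))) :=
        (Nat.card_eq_one_iff_unique.1 hj).1
      have hfixa : ∀ u : Q, u • (a : G ⧸ Subgroup.centralizer ({z} : Set G)) = a := fun u =>
        congrArg Subtype.val (hs.elim ⟨_, mem_orbit _ u⟩ ⟨_, mem_orbit_self _⟩)
      -- a coset fixed by `Q` is the coset of `1`
      refine hne ?_
      have h0 : O (a : G ⧸ Subgroup.centralizer ({z} : Set G)) = O c₁ := (Finset.mem_filter.1 hc₀S).2
      rw [← h0]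
      refine congrArg O ?_
      rcases hQ.cent (a * z * a⁻¹) (fun w hw => by
        have h := hmH.1 ((fix_iff w).1 (hfixa ⟨w, hw⟩))
        have h2 := (Commute.conj_iff a).2 (show Commute (a⁻¹ * w * a) z from h)
        rw [show a * (a⁻¹ * w * a) * a⁻¹ = w by group] at h2
        exact h2.symm) with h | h
      · exact absurd (conj_eq_one_iff.1 h) hQ.ne_one
      · rw [QuotientGroup.eq, mul_one]
        exact inv_mem (hmH.2 (mul_inv_eq_iff_eq_mul.1 h))
    rw [hX] at h1
    have h2 : Nat.card (fixedPoints (zpowers t) X) % 2 = 0 := by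
      rw [← h1, Nat.pow_mod]
      simp [hj0]
    have h3 : ∃ x : fixedPoints (zpowers t) X, (x : X).1 ≠ a := by
      by_contra hcon
      push Not at hcon
      have hu : Nat.card (fixedPoints (zpowers t) X) = 1 := Nat.card_eq_one_iff_unique.2
        ⟨⟨fun x y => Subtype.ext (Subtype.ext ((hcon x).trans (hcon y).symm))⟩,
          ⟨⟨⟨_, mem_orbit_self _⟩, fun ⟨g, hg⟩ => Subtype.ext
            (mem_stabilizer_iff.1 (Subgroup.zpowers_le.2 (mem_stabilizer_iff.2 hc₀t) hg))⟩⟩⟩
      omega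
    obtain ⟨⟨⟨_, ⟨u, hu⟩, rfl⟩, hfix⟩, hne'⟩ := h3
    refine ⟨u, hu, hne', (fix_iff _).1 ((hδfix u).1 ?_)⟩
    exact congrArg Subtype.val (hfix ⟨t, Subgroup.mem_zpowers t⟩)
  have hψde : ψ ⟨_, hde⟩ ≠ 1 := he1 e he hemove hde
  have hodd : φ ⟨_, hde⟩ ∉ M := fun h => hψde ((hψ1 _).2 h)
  have hconj : orderOf (a⁻¹ * δ e * a) = orderOf (δ e) := by
    have := MulEquiv.orderOf_eq (MulAut.conj a⁻¹) (δ e)
    simpa using this
  have hc2 : δ e * δ e = z := by
    refine (hQ.sq _ (hδQ e he)).resolve_left fun h => hord4 _ hde hodd ?_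
    calc a⁻¹ * δ e * a * (a⁻¹ * δ e * a) = a⁻¹ * (δ e * δ e) * a := by group
      _ = 1 := by rw [h]; simp
  have ht4' : t ^ 4 = 1 := by
    have h1 := hmin ⟨_, hde⟩ hodd
    change orderOf t ≤ orderOf (a⁻¹ * δ e * a) at h1
    rw [hconj] at h1
    have h2 : orderOf (δ e) ∣ 4 := orderOf_dvd_of_pow_eq_one (by
      rw [show (4 : ℕ) = 2 * 2 from rfl, pow_mul, pow_two (δ e), hc2, pow_two, hQ.sq_z])
    have h3 : orderOf t = 4 := le_antisymm (h1.trans (Nat.le_of_dvd (by norm_num) h2)) ht4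
    rw [← h3, pow_orderOf_eq_one]
  have hw : ∀ g : G, Commute g (a * z * a⁻¹) ↔
      g • (a : G ⧸ Subgroup.centralizer ({z} : Set G)) = a := fun g => by
    rw [fix_iff, hmH]
    constructor
    · intro h
      have h2 := (Commute.conj_iff a⁻¹).2 h
      rw [inv_inv, show a⁻¹ * (a * z * a⁻¹) * a = z by group] at h2
      exact h2.eq
    · intro h
      have h2 := (Commute.conj_iff a).2 (show Commute (a⁻¹ * g * a) z from h)
      rwa [show a * (a⁻¹ * g * a) * a⁻¹ = g by group] at h2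
  refine hQ.no_bad hcard htz ht4' (w := a * z * a⁻¹) ?_ ((hw z).2 hzc).symm ((hw t).2 hc₀t).symm ?_ he
    (fun h => hemove ((hw e).1 h)) ((hw _).2 ((fix_iff _).2 hde)) hc2 ?_
  · calc a * z * a⁻¹ * (a * z * a⁻¹) = a * (z * z) * a⁻¹ := by group
      _ = 1 := by rw [hQ.sq_z]; simp
  · intro u hu v hv huw hvw
    rcases hQ.comm u hu v hv with h | h
    · exact mul_inv_eq_iff_eq_mul.1 (mul_inv_eq_one.1 h)
    exfalso
    have hφz : φ ⟨_, hzmem⟩ = 1 := by
      have e' : (⟨_, hzmem⟩ : Subgroup.centralizer ({z} : Set G)) =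
          ⁅(⟨_, (fix_iff u).1 ((hw u).1 huw)⟩ : Subgroup.centralizer ({z} : Set G)),
            ⟨_, (fix_iff v).1 ((hw v).1 hvw)⟩⁆ := by
        apply Subtype.ext
        show a⁻¹ * z * a = a⁻¹ * u * a * (a⁻¹ * v * a) * (a⁻¹ * u * a)⁻¹ * (a⁻¹ * v * a)⁻¹
        rw [← h]; group
      rw [e', map_commutatorElement]
      exact commutatorElement_eq_one_iff_mul_comm.2 (mul_comm _ _)
    refine hsq1 _ hodd ?_
    rw [pow_two, ← map_mul, ← hφz]
    refine congrArg φ (Subtype.ext ?_)
    show a⁻¹ * δ e * a * (a⁻¹ * δ e * a) = a⁻¹ * z * a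
    rw [← hc2]; group
  · intro x hx hxw
    by_contra hcon
    push Not at hcon
    have hdx := (fix_iff _).1 ((hw _).1 hxw)
    have hψx : ψ ⟨_, hdx⟩ ≠ 1 := he1 x hx (fun h => hcon.1 ((hw x).2 h)) hdx
    obtain ⟨g, hg, hδ⟩ := hδmul e he x hx
    have hdex : a⁻¹ * δ (e * x) * a ∈ Subgroup.centralizer ({z} : Set G) := by
      rw [← fix_iff, hδ, mul_smul, mul_smul, (fix_iff _).2 hdx, (fix_iff _).2 hde, hz2fix g hg]
    refine he1 (e * x) (mul_mem he hx) (fun h => hcon.2 ((hw _).2 h)) hdex ?_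
    have e2 : (⟨_, hdex⟩ : Subgroup.centralizer ({z} : Set G)) =
        ⟨_, (fix_iff g).1 (hz2fix g hg)⟩ * ⟨_, hde⟩ * ⟨_, hdx⟩ := by
      refine Subtype.ext ?_
      show a⁻¹ * δ (e * x) * a = a⁻¹ * g * a * (a⁻¹ * δ e * a) * (a⁻¹ * δ x * a)
      rw [hδ]; group
    have hgψ : ψ ⟨_, (fix_iff g).1 (hz2fix g hg)⟩ = 1 := by
      rcases hg with rfl | rfl
      · rw [← map_one ψ]
        exact congrArg ψ (Subtype.ext (by simp))
      · exact hzψ
    rw [e2, map_mul, map_mul, hgψ, one_mul, ← map_mul, hψ1, map_mul]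
    exact hmm _ _ hodd fun h => hψx ((hψ1 _).2 h)

end Cfsg.Lib.Extra
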