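import Cfsg.Agent.Lib.Extra.LargeUnfused
import Cfsg.Agent.Lib.Extra.LargeFour

/-!
# The central involution of a large extraspecial 2-subgroup of width at least three is fused into it
when the centralizer has a subgroup of index two

Otherwise the transfer of an element of least order outside the subgroup of index two is computed
over the orbits of `Q` on the cosets of `C(z)`: every orbit but the trivial one contributes nothing.
-/

set_option autoImplicit false
set_option linter.style.haveILetI false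
set_option linter.unusedSectionVars false

namespace Cfsg.Lib.Extra

open Cfsg Subgroup MulAction
open scoped commutatorElement

/-- A product over a set with two commuting free involutions. -/
theorem prod_four {X A : Type*} [DecidableEq X] [CommGroup A] (f : X → A) (σ τ : X → X) :
    ∀ s : Finset X, (∀ x ∈ s, σ x ∈ s ∧ τ x ∈ s ∧ σ (σ x) = x ∧ τ (τ x) = x ∧ σ (τ x) = τ (σ x) ∧
      σ x ≠ x ∧ τ x ≠ x ∧ σ (τ x) ≠ x ∧ f x * f (σ x) * (f (τ x) * f (σ (τ x))) = 1) → ∏ x ∈ s, f x = 1 := by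
  intro s
  induction s using Finset.strongInduction with
  | _ s ih =>
  intro hs
  rcases s.eq_empty_or_nonempty with rfl | ⟨x, hx⟩
  · simp
  obtain ⟨h1, h2, hss, htt, hst, n1, n2, n3, hprod⟩ := hs x hx
  have h3 : σ (τ x) ∈ s := (hs _ h2).1
  have m1 : τ x ≠ σ x := fun e => n3 (by rw [e, hss])
  have m2 : σ (τ x) ≠ σ x := fun e => n2 (by
    have := congrArg σ e
    rwa [(hs _ h2).2.2.1, hss] at this)
  have m3 : σ (τ x) ≠ τ x := (hs _ h2).2.2.2.2.2.1
  let b : Finset X := {x, σ x, τ x, σ (τ x)}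
  have hb : b ⊆ s := by
    intro y hy
    simp only [b, Finset.mem_insert, Finset.mem_singleton] at hy
    rcases hy with rfl | rfl | rfl | rfl <;> assumption
  have hprodb : ∏ y ∈ b, f y = 1 := by
    simp only [b]
    rw [Finset.prod_insert (by simp [n1.symm, n2.symm, n3.symm]),
      Finset.prod_insert (by simp [m1.symm, m2.symm]), Finset.prod_insert (by simp [m3.symm]),
      Finset.prod_singleton, ← mul_assoc, hprod]
  have hclosed : ∀ y ∈ b, σ y ∈ b ∧ τ y ∈ b := by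
    intro y hy
    have e1 : σ (σ (τ x)) = τ x := (hs _ h2).2.2.1
    have e2 : τ (σ (τ x)) = σ x := by rw [hst, (hs _ h1).2.2.2.1]
    simp only [b, Finset.mem_insert, Finset.mem_singleton] at hy ⊢
    rcases hy with rfl | rfl | rfl | rfl <;> simp [hss, htt, hst.symm, e1, e2]
  have hcompl : ∀ y ∈ s \ b, σ y ∈ s \ b ∧ τ y ∈ s \ b := by
    intro y hy
    rw [Finset.mem_sdiff] at hy
    refine ⟨Finset.mem_sdiff.2 ⟨(hs y hy.1).1, fun h => hy.2 ?_⟩, Finset.mem_sdiff.2 ⟨(hs y hy.1).2.1, fun h => hy.2 ?_⟩⟩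
    · have := (hclosed _ h).1
      rwa [(hs y hy.1).2.2.1] at this
    · have := (hclosed _ h).2
      rwa [(hs y hy.1).2.2.2.1] at this
  rw [← Finset.prod_sdiff hb, hprodb, mul_one]
  refine ih _ (Finset.sdiff_ssubset hb ⟨x, by simp [b]⟩) fun y hy => ?_
  obtain ⟨-, -, r⟩ := hs y (Finset.mem_sdiff.1 hy).1
  exact ⟨(hcompl y hy).1, (hcompl y hy).2, r⟩

/-- A subgroup covered by two cosets of a smaller one. -/
theorem card_le_double {G : Type*} [Group G] [Finite G] {C K : Subgroup G} (hK : K ≤ C) {c₀ : G}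
    (hc₀ : c₀ ∈ C) (h : ∀ c ∈ C, c ∈ K ∨ c₀ * c ∈ K) : Nat.card C ≤ 2 * Nat.card K := by
  let g : K ⊕ K → C := Sum.elim (fun k => ⟨k, hK k.2⟩) fun k => ⟨c₀⁻¹ * k, mul_mem (inv_mem hc₀) (hK k.2)⟩
  have hg : Function.Surjective g := fun c => by
    rcases h c c.2 with h1 | h1
    · exact ⟨Sum.inl ⟨c, h1⟩, rfl⟩
    · exact ⟨Sum.inr ⟨_, h1⟩, Subtype.ext (inv_mul_cancel_left c₀ (c : G))⟩
  exact (Nat.card_le_card_of_surjective g hg).trans (by rw [Nat.card_sum, two_mul])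

variable {G : Type*} [Group G] [Finite G] {Q : Subgroup G} {z : G}

/-- The product over one nontrivial orbit. -/
theorem Unf.orbit_prod (hU : Unf Q z) (hcard : 128 ≤ Nat.card Q) {A : Type*} [CommGroup A]
    (hA : Nat.card A = 2) (φ : Subgroup.centralizer ({z} : Set G) →* A)
    (hφQ : ∀ x (hx : x ∈ Q), φ ⟨x, hU.ctx.le_centralizer' hx⟩ = 1) {t : G} (htz : Commute t z)
    {k : ℕ} (hk : orderOf t = 2 ^ k) (hk1 : 1 ≤ k)
    (hsmall : ∀ (g : G) (hg : g ∈ Subgroup.centralizer ({z} : Set G)),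
      orderOf g < orderOf t → φ ⟨g, hg⟩ = 1)
    (f : G ⧸ Subgroup.centralizer ({z} : Set G) → A) (hf1 : ∀ c, t • c ≠ c → f c = 1)
    (hfrep : ∀ (a : G) (h : a⁻¹ * t * a ∈ Subgroup.centralizer ({z} : Set G)), f a = φ ⟨a⁻¹ * t * a, h⟩)
    {a : G} (hat : a⁻¹ * t * a ∈ Subgroup.centralizer ({z} : Set G)) (hne : a * z * a⁻¹ ≠ z)
    (S : Finset (G ⧸ Subgroup.centralizer ({z} : Set G)))
    (hS : ∀ c, c ∈ S ↔ ∃ u ∈ Q, u • (a : G ⧸ Subgroup.centralizer ({z} : Set G)) = c) :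
    ∏ c ∈ S, f c = 1 := by
  classical
  have hQ := hU.ctx
  have hmH : ∀ {g : G}, g ∈ Subgroup.centralizer ({z} : Set G) ↔ Commute g z :=
    Subgroup.mem_centralizer_singleton_iff
  set w := a * z * a⁻¹ with hw
  have hcj : ∀ {g : G}, a⁻¹ * g * a ∈ Subgroup.centralizer ({z} : Set G) ↔ Commute g w := fun {g} => by
    rw [hmH, ← Commute.conj_iff a, show a * (a⁻¹ * g * a) * a⁻¹ = g by group]
  have htw : Commute t w := hcj.1 hat
  let θ : Subgroup.centralizer ({w} : Set G) →* A := MonoidHom.mk'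
    (fun g => φ ⟨a⁻¹ * (g : G) * a, hcj.2 (Subgroup.mem_centralizer_singleton_iff.1 g.2)⟩) fun g g' => by
      rw [← map_mul]
      refine congrArg φ (Subtype.ext ?_)
      simp only [Subgroup.coe_mul]; group
  have hθmem : ∀ {g : G}, Commute g w → g ∈ Subgroup.centralizer ({w} : Set G) := fun h =>
    Subgroup.mem_centralizer_singleton_iff.2 h.eq
  -- a total version of the character
  let Θ : G → A := fun g => if h : Commute g w then θ ⟨g, hθmem h⟩ else 1
  have hΘmul : ∀ {g g' : G}, Commute g w → Commute g' w → Θ (g * g') = Θ g * Θ g' := fun {g g'} h h' => by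
    simp only [Θ, dif_pos h, dif_pos h', dif_pos (h.mul_left h')]
    exact map_mul θ ⟨g, hθmem h⟩ ⟨g', hθmem h'⟩
  have hΘone : Θ 1 = 1 := by
    simp only [Θ, dif_pos (Commute.one_left w)]
    exact map_one θ
  have hA1 : ∀ x : A, x * x = 1 := fun x => (two_cases hA x 1).1
  obtain ⟨δ, hδdef⟩ : ∃ δ : G → G, ∀ x, δ x = t⁻¹ * x⁻¹ * t * x := ⟨_, fun _ => rfl⟩
  have htQ : ∀ x ∈ Q, t⁻¹ * x * t ∈ Q := fun x hx =>
    (Subgroup.mem_normalizer_iff''.1 (hQ.norm t htz) x).1 hx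
  have hδQ : ∀ x ∈ Q, δ x ∈ Q := fun x hx => by rw [hδdef]; exact mul_mem (htQ _ (inv_mem hx)) hx
  have htmul : ∀ x, x⁻¹ * t * x = t * δ x := fun x => by simp only [hδdef]; group
  have hδmul : ∀ g u : G, δ (g * u) = δ u * (u⁻¹ * δ g * u) := fun g u => by simp only [hδdef]; group
  have hfix : ∀ g : G, g • (a : G ⧸ Subgroup.centralizer ({z} : Set G)) = a ↔ Commute g w := fun g => by
    rw [MulAction.Quotient.smul_coe, smul_eq_mul, QuotientGroup.eq, ← inv_mem_iff, ← hcj]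
    simp [mul_assoc]
  have hval : ∀ u : G, Commute (δ u) w → f (u • (a : G ⧸ Subgroup.centralizer ({z} : Set G))) = Θ t * Θ (δ u) := by
    intro u hu
    have e : (u * a)⁻¹ * t * (u * a) = a⁻¹ * (t * δ u) * a := by
      rw [show (u * a)⁻¹ * t * (u * a) = a⁻¹ * (u⁻¹ * t * u) * a by group, htmul]
    have hm : (u * a)⁻¹ * t * (u * a) ∈ Subgroup.centralizer ({z} : Set G) := e ▸ hcj.2 (htw.mul_left hu)
    rw [MulAction.Quotient.smul_coe, smul_eq_mul, hfrep _ hm, ← hΘmul htw hu]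
    simp only [Θ, dif_pos (htw.mul_left hu)]
    exact congrArg φ (Subtype.ext e)
  have hnfix : ∀ u : G, ¬ Commute (δ u) w → f (u • (a : G ⧸ Subgroup.centralizer ({z} : Set G))) = 1 := by
    intro u hu
    refine hf1 _ fun h => hu ?_
    have h1 : (u⁻¹ * t * u) • (a : G ⧸ Subgroup.centralizer ({z} : Set G)) = a := by
      rw [mul_smul, mul_smul, h, inv_smul_smul]
    rw [htmul, hfix] at h1
    simpa using htw.inv_left.mul_left h1
  have hmulS : ∀ {g}, g ∈ Q → ∀ c ∈ S, g • c ∈ S := fun {g} hg c hc => by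
    obtain ⟨u, hu, rfl⟩ := (hS c).1 hc
    exact (hS _).2 ⟨g * u, mul_mem hg hu, mul_smul g u _⟩
  have hsame : ∀ {g u : G}, Commute (u⁻¹ * g * u) w →
      g • u • (a : G ⧸ Subgroup.centralizer ({z} : Set G)) = u • (a : G ⧸ Subgroup.centralizer ({z} : Set G)) := by
    intro g u h
    rw [smul_smul, show g * u = u * (u⁻¹ * g * u) by group, mul_smul, (hfix _).2 h]
  have hdiff : ∀ {g u : G}, ¬ Commute (u⁻¹ * g * u) w →
      g • u • (a : G ⧸ Subgroup.centralizer ({z} : Set G)) ≠ u • (a : G ⧸ Subgroup.centralizer ({z} : Set G)) := by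
    intro g u h e
    refine h ((hfix _).1 (smul_left_cancel u ?_))
    rw [smul_smul, show u * (u⁻¹ * g * u) = g * u by group, mul_smul, e]
  have hshift : ∀ {g u : G}, Commute (u⁻¹ * δ g * u) w → (Commute (δ (g * u)) w ↔ Commute (δ u) w) := by
    intro g u h
    rw [hδmul]
    exact ⟨fun h' => by
      have := h'.mul_left h.inv_left
      rwa [mul_inv_cancel_right] at this, fun h' => h'.mul_left h⟩
  -- a single pairing
  have pair : ∀ g ∈ Q, (∀ u ∈ Q, ¬ Commute (u⁻¹ * g * u) w) → (∀ u ∈ Q, Commute (u⁻¹ * (g * g) * u) w) →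
      (∀ u ∈ Q, Commute (u⁻¹ * δ g * u) w ∧ Θ (u⁻¹ * δ g * u) = 1) → ∏ c ∈ S, f c = 1 := by
    intro g hg h1 h2 h3
    refine Finset.prod_involution (fun c _ => g • c) ?_ ?_ (fun c hc => hmulS hg c hc) ?_
    · intro c hc
      obtain ⟨u, hu, rfl⟩ := (hS c).1 hc
      show f (u • (a : G ⧸ Subgroup.centralizer ({z} : Set G))) *
        f (g • u • (a : G ⧸ Subgroup.centralizer ({z} : Set G))) = 1
      rw [smul_smul]
      by_cases hd : Commute (δ u) w
      · rw [hval u hd, hval _ ((hshift (h3 u hu).1).2 hd), hδmul, hΘmul hd (h3 u hu).1, (h3 u hu).2, mul_one]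
        exact hA1 _
      · rw [hnfix u hd, hnfix _ (fun h => hd ((hshift (h3 u hu).1).1 h)), one_mul]
    · intro c hc _
      obtain ⟨u, hu, rfl⟩ := (hS c).1 hc
      exact hdiff (h1 u hu)
    · intro c hc
      obtain ⟨u, hu, rfl⟩ := (hS c).1 hc
      show g • g • u • (a : G ⧸ Subgroup.centralizer ({z} : Set G)) = u • (a : G ⧸ Subgroup.centralizer ({z} : Set G))
      rw [smul_smul g g]
      exact hsame (h2 u hu)
  have hzconj : ∀ u ∈ Q, u⁻¹ * z * u = z := fun u hu => by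
    rw [mul_assoc, (hQ.central u hu).eq, inv_mul_cancel_left]
  by_cases hzw : Commute z w
  swap
  · refine pair z hQ.mem (fun u hu => by rwa [hzconj u hu]) (fun u hu => ?_) (fun u hu => ?_)
    · rw [hQ.sq_z]; simp [Commute.one_left]
    · have e : δ z = 1 := by
        simp only [hδdef]; rw [mul_assoc _ t z, htz.eq, hQ.inv_z]
        calc t⁻¹ * z * (z * t) = t⁻¹ * (z * z) * t := by group
          _ = 1 := by rw [hQ.sq_z]; simp
      rw [e]
      simp [hΘone]
  have hzΘ : ∀ {v}, v ∈ Q → Commute v w → ∀ u ∈ Q, Θ z = 1 → Θ (u⁻¹ * v * u) = Θ v := by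
    intro v hv hvw u hu hz1
    rcases hQ.conj_cases' hu hv with e | e <;> rw [e]
    rw [hΘmul hzw hvw, hz1, one_mul]
  have hcw : ∀ {v}, v ∈ Q → ∀ u ∈ Q, (Commute (u⁻¹ * v * u) w ↔ Commute v w) := by
    intro v hv u hu
    rcases hQ.conj_cases' hu hv with e | e <;> rw [e]
    exact ⟨fun h => by simpa using hzw.inv_left.mul_left h, fun h => hzw.mul_left h⟩
  have hsqw : ∀ {v}, v ∈ Q → Commute (v * v) w := fun hv => hQ.commute_sq hv w hzw
  by_cases hWC : ∃ v ∈ Q, Commute v t ∧ ¬ Commute v w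
  · obtain ⟨v, hv, hvt, hvw⟩ := hWC
    refine pair v hv (fun u hu => by rwa [hcw hv u hu]) (fun u hu => (hcw (mul_mem hv hv) u hu).2 (hsqw hv))
      (fun u hu => ?_)
    have e : δ v = 1 := by
      simp only [hδdef]
      rw [mul_assoc _ t v, ← hvt.eq]; group
    rw [e]
    simp [hΘone]
  push Not at hWC
  have hsqrt : ∀ {v}, v ∈ Q → Commute v w → v * v = z → Θ v = 1 := by
    intro v hv hvw hv2
    simp only [Θ, dif_pos hvw]
    exact hU.map_sqrt_eq_one hA φ hφQ hne hzw hv hv2 (hcj.2 hvw)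
  obtain ⟨s, hs, hsw⟩ : ∃ s ∈ Q, ¬ Commute s w := by
    by_contra hcon
    push Not at hcon
    rcases hQ.cent w fun q hq => (hcon q hq).symm with e | e
    · exact hQ.ne_one (conj_eq_one_iff.1 e)
    · exact hne e
  rcases Nat.lt_or_ge k 2 with hk2 | hk2
  swap
  · -- elements of order at least four
    have ht4 : 4 ≤ orderOf t := by
      rw [hk]
      calc (4 : ℕ) = 2 ^ 2 := by norm_num
        _ ≤ _ := Nat.pow_le_pow_right (by norm_num) hk2
    haveI : Fact (Nat.Prime 2) := ⟨Nat.prime_two⟩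
    obtain ⟨g, hg, hgw, hdg⟩ : ∃ g ∈ Q, ¬ Commute g w ∧ Commute (δ g) w := by
      by_contra hcon
      push Not at hcon
      have hall : ∀ i, δ^[i] s ∈ Q ∧ ¬ Commute (δ^[i] s) w := by
        intro i
        induction i with
        | zero => exact ⟨hs, hsw⟩
        | succ i ih =>
          rw [Function.iterate_succ_apply']
          exact ⟨hδQ _ ih.1, hcon _ ih.1 ih.2⟩
      let P : Subgroup G := Q ⊔ Subgroup.zpowers t
      have hP : IsPGroup 2 P := IsPGroup.to_sup_of_normal_left' hQ.two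
        (IsPGroup.of_card (n := k) (by rw [Nat.card_zpowers, hk]))
        (Subgroup.zpowers_le.2 (hQ.norm t htz))
      haveI := hP.isNilpotent
      obtain ⟨j, hj⟩ := Subgroup.nilpotent_iff_lowerCentralSeries.1 (inferInstance : Group.IsNilpotent P)
      let tP : P := ⟨t, Subgroup.mem_sup_right (Subgroup.mem_zpowers t)⟩
      have hit : ∀ i, (⟨δ^[i] s, Subgroup.mem_sup_left (hall i).1⟩ : P) ∈
          Subgroup.lowerCentralSeries (⊤ : Subgroup P) i := by
        intro i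
        induction i with
        | zero => simp
        | succ i ih =>
          have h1 := Subgroup.commutator_mem_commutator (Subgroup.mem_top tP⁻¹) (inv_mem ih)
          rw [Subgroup.commutator_comm] at h1
          have e : (⟨δ^[i + 1] s, Subgroup.mem_sup_left (hall (i + 1)).1⟩ : P) =
              ⁅tP⁻¹, (⟨δ^[i] s, Subgroup.mem_sup_left (hall i).1⟩ : P)⁻¹⁆ := by
            refine Subtype.ext ?_
            show δ^[i + 1] s = _
            rw [Function.iterate_succ_apply']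
            simp [hδdef, tP, commutatorElement_def, mul_assoc]
          rw [e]
          exact h1
      have h0 := hit j
      rw [hj, Subgroup.mem_bot] at h0
      exact (hall j).2 (by rw [show δ^[j] s = 1 from congrArg Subtype.val h0]; exact Commute.one_left w)
    refine pair g hg (fun u hu => by rwa [hcw hg u hu]) (fun u hu => (hcw (mul_mem hg hg) u hu).2 (hsqw hg))
      (fun u hu => ?_)
    have hd := (hcw (hδQ g hg) u hu).2 hdg
    refine ⟨hd, ?_⟩
    have hdQ : u⁻¹ * δ g * u ∈ Q := mul_mem (mul_mem (inv_mem hu) (hδQ g hg)) hu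
    rcases hQ.sq _ hdQ with e | e
    · simp only [Θ, dif_pos hd]
      refine hsmall _ _ (lt_of_le_of_lt (b := 2) (Nat.le_of_dvd (by norm_num) (orderOf_dvd_of_pow_eq_one ?_)) (by omega))
      show (a⁻¹ * (u⁻¹ * δ g * u) * a) ^ 2 = 1
      calc (a⁻¹ * (u⁻¹ * δ g * u) * a) ^ 2 = a⁻¹ * ((u⁻¹ * δ g * u) * (u⁻¹ * δ g * u)) * a := by
            rw [pow_two]; group
        _ = 1 := by rw [e]; simp
    · exact hsqrt hdQ hd e
  -- involutions
  have ht2 : t * t = 1 := by
    rw [← pow_two, ← orderOf_dvd_iff_pow_eq_one, hk, show k = 1 by omega, pow_one]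
  have hti : t⁻¹ = t := inv_eq_of_mul_eq_one_right ht2
  have hinv : ∀ x, t * δ x * t = (δ x)⁻¹ := fun x => by
    simp only [hδdef, hti, mul_inv_rev, inv_inv]
    calc t * (t * x⁻¹ * t * x) * t = (t * t) * x⁻¹ * t * x * t := by group
      _ = _ := by rw [ht2]; group
  have hcomm_of : ∀ {v}, t * v * t = v⁻¹ → v * v = 1 → Commute v t := fun {v} h h' => by
    rw [inv_eq_of_mul_eq_one_right h'] at h
    show v * t = t * v
    calc v * t = t * v * t * t := by rw [h]
      _ = _ := by rw [mul_assoc _ t t, ht2, mul_one]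
  have hbad : ∀ x ∈ Q, ¬ Commute (δ x) w → δ x * δ x = z ∧ δ (δ x) = z := by
    intro x hx hxw
    have h1 : δ x * δ x = z := (hQ.sq _ (hδQ x hx)).resolve_left fun e =>
      hxw (hWC _ (hδQ x hx) (hcomm_of (hinv x) e))
    refine ⟨h1, ?_⟩
    rw [hδdef (δ x), hti]
    calc t * (δ x)⁻¹ * t * δ x = (t * δ x * t)⁻¹ * δ x := by
          rw [show (t * δ x * t)⁻¹ = t⁻¹ * (δ x)⁻¹ * t⁻¹ by group, hti]
      _ = z := by rw [hinv, inv_inv, h1]
  have hprod : ∀ x ∈ Q, ∀ y ∈ Q, ¬ Commute (δ x) w → ¬ Commute (δ y) w → Commute (δ (x * y)) w := by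
    intro x hx y hy hxw hyw
    rw [hδmul]
    set e := δ y
    have heQ : e ∈ Q := hδQ y hy
    have he2 : e * e = z := (hbad y hy hyw).1
    set e₁ := y⁻¹ * δ x * y
    have he1Q : e₁ ∈ Q := mul_mem (mul_mem (inv_mem hy) (hδQ x hx)) hy
    have ht' : e * t * e⁻¹ = t * z := by
      calc e * t * e⁻¹ = (t * t) * e * t * e⁻¹ := by rw [ht2, one_mul]
        _ = t * (t * e * t) * e⁻¹ := by group
        _ = t * (e * e)⁻¹ := by rw [show t * e * t = e⁻¹ from hinv y]; group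
        _ = _ := by rw [he2, hQ.inv_z]
    have hcommx : Commute e (δ x) := by
      refine mul_inv_eq_iff_eq_mul.1 ?_
      have e0 : e * δ x * e⁻¹ = (e * t * e⁻¹)⁻¹ * (e * x * e⁻¹)⁻¹ * (e * t * e⁻¹) * (e * x * e⁻¹) := by
        simp only [hδdef]; group
      rw [e0, ht']
      rcases hQ.conj_cases heQ hx with e' | e' <;> rw [e'] <;> simp only [hδdef, mul_inv_rev, hQ.inv_z]
      · calc z * t⁻¹ * x⁻¹ * (t * z) * x = z * (t⁻¹ * x⁻¹ * t) * (z * x) := by group
          _ = z * (t⁻¹ * x⁻¹ * t) * (x * z) := by rw [(hQ.central x hx).eq]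
          _ = z * (t⁻¹ * x⁻¹ * t * x) * z := by group
          _ = (t⁻¹ * x⁻¹ * t * x) * (z * z) := by
              rw [← hδdef x, (hQ.central _ (hδQ x hx)).eq, mul_assoc]
          _ = _ := by rw [hQ.sq_z, mul_one]
      · calc z * t⁻¹ * (x⁻¹ * z) * (t * z) * (z * x) = z * t⁻¹ * x⁻¹ * (z * t) * (z * z) * x := by group
          _ = z * t⁻¹ * x⁻¹ * (t * z) * (z * z) * x := by rw [htz.eq]
          _ = z * (t⁻¹ * x⁻¹ * t) * (z * x) := by rw [hQ.sq_z]; group
          _ = z * (t⁻¹ * x⁻¹ * t) * (x * z) := by rw [(hQ.central x hx).eq]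
          _ = z * (t⁻¹ * x⁻¹ * t * x) * z := by group
          _ = (t⁻¹ * x⁻¹ * t * x) * (z * z) := by
              rw [← hδdef x, (hQ.central _ (hδQ x hx)).eq, mul_assoc]
          _ = _ := by rw [hQ.sq_z, mul_one]
    have hcomm1 : Commute e e₁ := by
      rcases hQ.conj_cases' hy (hδQ x hx) with e' | e' <;> simp only [e₁, e']
      · exact hcommx
      · exact (hQ.central e heQ).symm.mul_right hcommx
    have hinv1 : t * e₁ * t = e₁⁻¹ := by
      rcases hQ.conj_cases' hy (hδQ x hx) with e' | e' <;> simp only [e₁, e']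
      · exact hinv x
      · calc t * (z * δ x) * t = z * (t * δ x * t) := by
              rw [← mul_assoc t z, htz.eq]; simp only [mul_assoc]
          _ = _ := by
            rw [hinv, mul_inv_rev, hQ.inv_z, (hQ.central _ (inv_mem (hδQ x hx))).eq]
    have he12 : e₁ * e₁ = z := by
      calc e₁ * e₁ = y⁻¹ * (δ x * δ x) * y := by simp only [e₁]; group
        _ = _ := by rw [(hbad x hx hxw).1, hzconj y hy]
    refine hWC _ (mul_mem heQ he1Q) (hcomm_of ?_ ?_)
    · calc t * (e * e₁) * t = t * e * (1 * e₁) * t := by group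
        _ = t * e * ((t * t) * e₁) * t := by rw [ht2]
        _ = (t * e * t) * (t * e₁ * t) := by group
        _ = _ := by rw [hinv, hinv1, ← mul_inv_rev, hcomm1.eq]
    · rw [mul_assoc, ← mul_assoc e₁ e, ← hcomm1.eq, mul_assoc e e₁ e₁, ← mul_assoc e e, he2, he12, hQ.sq_z]
  have hw2 : w * w = 1 := by
    calc w * w = a * (z * z) * a⁻¹ := by rw [hw]; group
      _ = 1 := by rw [hQ.sq_z]; simp
  have hwQ : w ∉ Q := fun h => hne (hU.uniq a h)
  by_cases hz1 : Θ z = 1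
  · -- the character is trivial at `z`
    by_cases hbig : ∃ x ∈ Q, ¬ Commute (δ x) w
    · obtain ⟨x, hx, hxw⟩ := hbig
      refine pair (δ x) (hδQ x hx) (fun u hu => by rwa [hcw (hδQ x hx) u hu])
        (fun u hu => (hcw (mul_mem (hδQ x hx) (hδQ x hx)) u hu).2 (hsqw (hδQ x hx))) (fun u hu => ?_)
      rw [(hbad x hx hxw).2, hzconj u hu]
      exact ⟨hzw, hz1⟩
    push Not at hbig
    obtain ⟨r, hr, hrw, hsrw⟩ : ∃ r ∈ Q, ¬ Commute r w ∧ ¬ Commute (s * r) w := by
      by_contra hcon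
      push Not at hcon
      exact hwQ (hQ.mem_of_hyperplane hzw.symm hw2 hs hsw fun p hp => (Classical.em (Commute p w)).imp_right (hcon p hp))
    have main : ∀ g ∈ Q, ¬ Commute g w → Θ (δ g) = 1 → ∏ c ∈ S, f c = 1 := fun g hg hgw hg1 =>
      pair g hg (fun u hu => by rwa [hcw hg u hu]) (fun u hu => (hcw (mul_mem hg hg) u hu).2 (hsqw hg))
        (fun u hu => ⟨(hcw (hδQ g hg) u hu).2 (hbig g hg), by rw [hzΘ (hδQ g hg) (hbig g hg) u hu hz1, hg1]⟩)
    by_cases h1 : Θ (δ s) = 1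
    · exact main s hs hsw h1
    by_cases h2 : Θ (δ r) = 1
    · exact main r hr hrw h2
    refine main (s * r) (mul_mem hs hr) hsrw ?_
    rw [hδmul, hΘmul (hbig r hr) ((hcw (hδQ s hs) r hr).2 (hbig s hs)), hzΘ (hδQ s hs) (hbig s hs) r hr hz1]
    exact (two_cases hA _ _).2 h2 h1
  -- the centralizer of `w` in `Q` is elementary abelian of index at least eight
  have helem : ∀ v ∈ Q, Commute v w → v * v = 1 := fun v hv hvw => (hQ.sq v hv).resolve_right fun e => by
    refine hz1 ?_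
    rw [← e, hΘmul hvw hvw]
    exact hA1 _
  have habel : ∀ v ∈ Q, Commute v w → ∀ v' ∈ Q, Commute v' w → Commute v v' := by
    intro v hv hvw v' hv' hvw'
    show v * v' = v' * v
    calc v * v' = (v * v')⁻¹ := (inv_eq_of_mul_eq_one_right (helem _ (mul_mem hv hv') (hvw.mul_left hvw'))).symm
      _ = v' * v := by
        rw [mul_inv_rev, inv_eq_of_mul_eq_one_right (helem v hv hvw), inv_eq_of_mul_eq_one_right (helem v' hv' hvw')]
  let C : Subgroup G := Q ⊓ Subgroup.centralizer ({w} : Set G)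
  have hmC : ∀ {p : G}, p ∈ C ↔ p ∈ Q ∧ Commute p w := fun {p} => by
    simp only [C, Subgroup.mem_inf, Subgroup.mem_centralizer_singleton_iff]; rfl
  have hthree : ∀ g₁ ∈ Q, ¬ Commute g₁ w → ∃ r₁ ∈ Q, ∃ r₂ ∈ Q, ¬ Commute r₁ w ∧ ¬ Commute (g₁ * r₁) w ∧
      ¬ Commute r₂ w ∧ ¬ Commute (g₁ * r₂) w ∧ ¬ Commute (r₁ * r₂) w ∧ ¬ Commute (g₁ * (r₁ * r₂)) w := by
    intro g₁ hg₁ hg₁w
    obtain ⟨r₁, hr₁, hn1, hn2⟩ : ∃ r ∈ Q, ¬ Commute r w ∧ ¬ Commute (g₁ * r) w := by
      by_contra hcon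
      push Not at hcon
      exact hwQ (hQ.mem_of_hyperplane hzw.symm hw2 hg₁ hg₁w fun p hp => (Classical.em (Commute p w)).imp_right (hcon p hp))
    refine ⟨r₁, hr₁, ?_⟩
    by_contra hcon
    push Not at hcon
    have hcover : ∀ x ∈ Q, x ∈ C ∨ g₁ * x ∈ C ∨ r₁ * x ∈ C ∨ g₁ * (r₁ * x) ∈ C := by
      intro x hx
      by_cases c1 : Commute x w
      · exact Or.inl (hmC.2 ⟨hx, c1⟩)
      by_cases c2 : Commute (g₁ * x) w
      · exact Or.inr (Or.inl (hmC.2 ⟨mul_mem hg₁ hx, c2⟩))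
      by_cases c3 : Commute (r₁ * x) w
      · exact Or.inr (Or.inr (Or.inl (hmC.2 ⟨mul_mem hr₁ hx, c3⟩)))
      exact Or.inr (Or.inr (Or.inr (hmC.2 ⟨mul_mem hg₁ (mul_mem hr₁ hx), hcon x hx hn1 hn2 c1 c2 c3⟩)))
    have hQC : Nat.card Q ≤ 4 * Nat.card C := by
      let g : C × Fin 4 → Q := fun p => ⟨![1, g₁⁻¹, r₁⁻¹, r₁⁻¹ * g₁⁻¹] p.2 * (p.1 : G),
        mul_mem (by
          obtain ⟨c, i⟩ := p
          fin_cases i
          · exact one_mem Q
          · exact inv_mem hg₁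
          · exact inv_mem hr₁
          · exact mul_mem (inv_mem hr₁) (inv_mem hg₁)) (hmC.1 p.1.2).1⟩
      have hg : Function.Surjective g := fun x => by
        rcases hcover x x.2 with h | h | h | h
        · exact ⟨(⟨x, h⟩, 0), Subtype.ext (by simp [g])⟩
        · exact ⟨(⟨_, h⟩, 1), Subtype.ext (by simp [g])⟩
        · exact ⟨(⟨_, h⟩, 2), Subtype.ext (by simp [g])⟩
        · exact ⟨(⟨_, h⟩, 3), Subtype.ext (by simp [g, mul_assoc])⟩
      have := Nat.card_le_card_of_surjective g hg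
      rw [Nat.card_prod, Nat.card_fin] at this
      omega
    have hdouble : ∀ (K : Subgroup G), K ≤ Q → ∀ g ∈ Q, Nat.card K ≤ 2 * Nat.card ↥(K ⊓ Subgroup.centralizer ({g} : Set G)) := by
      intro K hK g hg
      by_cases hc : ∃ c ∈ K, ¬ Commute c g
      · obtain ⟨c₀, hc₀, hc₀g⟩ := hc
        refine card_le_double inf_le_left hc₀ fun c hc' => ?_
        by_cases hcg : Commute c g
        · exact Or.inl ⟨hc', Subgroup.mem_centralizer_singleton_iff.2 hcg.eq⟩
        · exact Or.inr ⟨mul_mem hc₀ hc', Subgroup.mem_centralizer_singleton_iff.2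
            (hQ.commute_mul_of_not (hK hc₀) (hK hc') hg hc₀g hcg).eq⟩
      · push Not at hc
        rw [inf_eq_left.2 fun c hc' => Subgroup.mem_centralizer_singleton_iff.2 (hc c hc').eq]
        omega
    have h1 := hdouble C inf_le_left g₁ hg₁
    have h2 := hdouble (C ⊓ Subgroup.centralizer ({g₁} : Set G)) (inf_le_left.trans inf_le_left) r₁ hr₁
    have h3 : Nat.card ↥(C ⊓ Subgroup.centralizer ({g₁} : Set G) ⊓ Subgroup.centralizer ({r₁} : Set G)) ≤ 2 := by
      have hsub : ((C ⊓ Subgroup.centralizer ({g₁} : Set G) ⊓ Subgroup.centralizer ({r₁} : Set G) : Subgroup G) : Set G) ⊆ {1, z} := by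
        rintro c ⟨⟨hc, hcg⟩, hcr⟩
        obtain ⟨hcQ, hcw'⟩ := hmC.1 hc
        have k1 : Commute c g₁ := Subgroup.mem_centralizer_singleton_iff.1 hcg
        have k2 : Commute c r₁ := Subgroup.mem_centralizer_singleton_iff.1 hcr
        have kC : ∀ x ∈ C, Commute c x := fun x hx => habel c hcQ hcw' x (hmC.1 hx).1 (hmC.1 hx).2
        refine (hQ.cent c fun x hx => ?_)
        rcases hcover x hx with h | h | h | h
        · exact kC _ h
        · simpa using k1.inv_right.mul_right (kC _ h)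
        · simpa using k2.inv_right.mul_right (kC _ h)
        · simpa [mul_assoc] using (k1.mul_right k2).inv_right.mul_right (kC _ h)
      calc _ = Set.ncard ((C ⊓ Subgroup.centralizer ({g₁} : Set G) ⊓ Subgroup.centralizer ({r₁} : Set G) : Subgroup G) : Set G) := rfl
        _ ≤ ({1, z} : Set G).ncard := Set.ncard_le_ncard hsub (Set.toFinite _)
        _ ≤ 2 := (Set.ncard_insert_le _ _).trans (by simp)
    omega
  -- a pair of elements
  have four : ∀ g₁ ∈ Q, ∀ g₂ ∈ Q, ¬ Commute g₁ w → ¬ Commute g₂ w → ¬ Commute (g₁ * g₂) w →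
      Commute (δ g₁) w → Commute (δ g₂) w → Commute (δ g₁) g₂ → ∏ c ∈ S, f c = 1 := by
    intro g₁ hg₁ g₂ hg₂ n1 n2 n3 d1 d2 hc
    refine prod_four f (g₁ • ·) (g₂ • ·) S fun c hcS => ?_
    obtain ⟨u, hu, rfl⟩ := (hS c).1 hcS
    have q1 := (hcw (hδQ g₁ hg₁) u hu).2 d1
    have q2 := (hcw (hδQ g₂ hg₂) u hu).2 d2
    refine ⟨hmulS hg₁ _ hcS, hmulS hg₂ _ hcS, ?_, ?_, ?_, hdiff (by rwa [hcw hg₁ u hu]),
      hdiff (by rwa [hcw hg₂ u hu]), ?_, ?_⟩
    · rw [smul_smul g₁ g₁]; exact hsame ((hcw (mul_mem hg₁ hg₁) u hu).2 (hsqw hg₁))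
    · rw [smul_smul g₂ g₂]; exact hsame ((hcw (mul_mem hg₂ hg₂) u hu).2 (hsqw hg₂))
    · show g₁ • g₂ • u • (a : G ⧸ Subgroup.centralizer ({z} : Set G)) = g₂ • g₁ • u • _
      rw [smul_smul g₁, smul_smul g₂, show g₁ * g₂ = (g₂ * g₁) * ((g₂ * g₁)⁻¹ * (g₁ * g₂)) by group,
        mul_smul (g₂ * g₁)]
      congr 1
      refine hsame ?_
      refine (hcw (mul_mem (inv_mem (mul_mem hg₂ hg₁)) (mul_mem hg₁ hg₂)) u hu).2 ?_
      rcases hQ.comm _ (inv_mem hg₁) _ (inv_mem hg₂) with e | e <;>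
        rw [show (g₂ * g₁)⁻¹ * (g₁ * g₂) = g₁⁻¹ * g₂⁻¹ * g₁⁻¹⁻¹ * g₂⁻¹⁻¹ by group, e]
      · exact Commute.one_left w
      · exact hzw
    · show g₁ • g₂ • u • (a : G ⧸ Subgroup.centralizer ({z} : Set G)) ≠ u • _
      rw [smul_smul g₁ g₂]
      exact hdiff (by rwa [hcw (mul_mem hg₁ hg₂) u hu])
    · show f (u • (a : G ⧸ Subgroup.centralizer ({z} : Set G))) * f (g₁ • u • _) *
        (f (g₂ • u • _) * f (g₁ • g₂ • u • _)) = 1
      simp only [smul_smul]
      have q12 : Commute ((g₂ * u)⁻¹ * δ g₁ * (g₂ * u)) w :=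
        (hcw (hδQ g₁ hg₁) (g₂ * u) (mul_mem hg₂ hu)).2 d1
      by_cases hd : Commute (δ u) w
      · have h2 := (hshift q2).2 hd
        rw [hval u hd, hval _ ((hshift q1).2 hd), hval _ h2, hval _ ((hshift q12).2 h2)]
        rw [hδmul g₁ (g₂ * u), hΘmul h2 q12, hδmul g₁ u, hΘmul hd q1, hδmul g₂ u, hΘmul hd q2]
        have e : (g₂ * u)⁻¹ * δ g₁ * (g₂ * u) = u⁻¹ * δ g₁ * u := by
          calc (g₂ * u)⁻¹ * δ g₁ * (g₂ * u) = u⁻¹ * (g₂⁻¹ * (δ g₁ * g₂)) * u := by group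
            _ = _ := by rw [hc.eq, inv_mul_cancel_left]
        rw [e]
        set p := Θ t * Θ (δ u)
        set q := Θ (u⁻¹ * δ g₁ * u)
        set r := Θ (u⁻¹ * δ g₂ * u)
        calc Θ t * Θ (δ u) * (Θ t * (Θ (δ u) * q)) * (Θ t * (Θ (δ u) * r) * (Θ t * (Θ (δ u) * r * q)))
            = (p * p) * (p * p) * (q * q) * (r * r) := by simp only [p]; ac_rfl
          _ = 1 := by simp [hA1]
      · have h2 : ¬ Commute (δ (g₂ * u)) w := fun h => hd ((hshift q2).1 h)
        rw [hnfix u hd, hnfix _ (fun h => hd ((hshift q1).1 h)), hnfix _ h2, hnfix _ fun h => h2 ((hshift q12).1 h)]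
        simp
  by_cases hbig : ∃ x ∈ Q, ¬ Commute (δ x) w
  · obtain ⟨x, hx, hxw⟩ := hbig
    obtain ⟨r₁, hr₁, r₂, hr₂, n1, n2, n3, n4, n5, n6⟩ := hthree (δ x) (hδQ x hx) hxw
    have hd1 : Commute (δ (δ x)) w := by rw [(hbad x hx hxw).2]; exact hzw
    have hcz : ∀ g ∈ Q, Commute (δ (δ x)) g := fun g hg => by rw [(hbad x hx hxw).2]; exact hQ.central g hg
    by_cases c1 : Commute (δ r₁) w
    · exact four _ (hδQ x hx) r₁ hr₁ hxw n1 n2 hd1 c1 (hcz r₁ hr₁)
    by_cases c2 : Commute (δ r₂) w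
    · exact four _ (hδQ x hx) r₂ hr₂ hxw n3 n4 hd1 c2 (hcz r₂ hr₂)
    exact four _ (hδQ x hx) _ (mul_mem hr₁ hr₂) hxw n5 n6 hd1 (hprod r₁ hr₁ r₂ hr₂ c1 c2)
      (hcz _ (mul_mem hr₁ hr₂))
  push Not at hbig
  obtain ⟨r₁, hr₁, r₂, hr₂, n1, n2, n3, n4, n5, n6⟩ := hthree s hs hsw
  by_cases c1 : Commute (δ s) r₁
  · exact four s hs r₁ hr₁ hsw n1 n2 (hbig s hs) (hbig r₁ hr₁) c1
  by_cases c2 : Commute (δ s) r₂
  · exact four s hs r₂ hr₂ hsw n3 n4 (hbig s hs) (hbig r₂ hr₂) c2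
  exact four s hs _ (mul_mem hr₁ hr₂) hsw n5 n6 (hbig s hs) (hbig _ (mul_mem hr₁ hr₂))
    (hQ.commute_mul_of_not hr₁ hr₂ (hδQ s hs) (fun h => c1 h.symm) (fun h => c2 h.symm)).symm

/-- If `C(z)` has a subgroup of index two, `z` is fused into `Q`. -/
theorem Ctx.exists_fused (hQ : Ctx Q z) (hcard : 128 ≤ Nat.card Q) (hres : Cfsg.pResidual 2 G = ⊤)
    {A : Type*} [CommGroup A] (hA : Nat.card A = 2)
    (φ : Subgroup.centralizer ({z} : Set G) →* A) (hφ : Function.Surjective φ) :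
    ∃ g : G, g * z * g⁻¹ ∈ Q ∧ g * z * g⁻¹ ≠ z := by
  classical
  by_contra hcon
  push Not at hcon
  have hU : Unf Q z := ⟨hQ, hcon⟩
  haveI : Fact (Nat.Prime 2) := ⟨Nat.prime_two⟩
  haveI : Finite A := Nat.finite_of_card_ne_zero (by omega)
  have hA2 : IsPGroup 2 A := IsPGroup.of_card (n := 1) (by rw [hA, pow_one])
  have hφQ : ∀ x (hx : x ∈ Q), φ ⟨x, hQ.le_centralizer' hx⟩ = 1 := fun x hx =>
    hQ.map_eq_one (by omega) φ (transfer_eq_one hres hA2 φ) hx
  letI := Fintype.ofFinite (Subgroup.centralizer ({z} : Set G))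
  haveI : Nontrivial A := Finite.one_lt_card_iff_nontrivial.1 (by omega)
  obtain ⟨⟨t, htH⟩, ht, hmin⟩ : ∃ x, φ x ≠ 1 ∧ ∀ y, φ y ≠ 1 → orderOf (x : G) ≤ orderOf (y : G) := by
    obtain ⟨x, hx, hx'⟩ := Finset.exists_min_image
      (Finset.univ.filter fun x => φ x ≠ 1) (fun x => orderOf (x : G)) (by
        obtain ⟨b, hb⟩ := exists_ne (1 : A)
        obtain ⟨x, rfl⟩ := hφ b
        exact ⟨x, by simp [hb]⟩)
    exact ⟨x, (Finset.mem_filter.1 hx).2, fun y hy => hx' y (by simp [hy])⟩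
  have hmH : ∀ {g : G}, g ∈ Subgroup.centralizer ({z} : Set G) ↔ Commute g z :=
    Subgroup.mem_centralizer_singleton_iff
  have hsmall : ∀ (g : G) (hg : g ∈ Subgroup.centralizer ({z} : Set G)),
      orderOf g < orderOf t → φ ⟨g, hg⟩ = 1 := fun g hg h => by
    by_contra hc
    exact absurd (hmin ⟨g, hg⟩ hc) (not_le.2 h)
  obtain ⟨k, m, hm, hk⟩ := Nat.exists_eq_two_pow_mul_odd (orderOf_pos t).ne'
  have hm1 : m = 1 := by
    by_contra hne
    have hm0 : 0 < m := hm.pos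
    have h1 : φ (⟨t, htH⟩ ^ m) ≠ 1 := by
      obtain ⟨j, rfl⟩ := hm
      rw [map_pow, pow_succ, pow_mul, pow_two, (two_cases hA _ 1).1, one_pow, one_mul]
      exact ht
    have h2 := hmin _ h1
    change orderOf t ≤ orderOf (t ^ m) at h2
    rw [orderOf_pow' _ hm0.ne', hk, Nat.gcd_mul_left_left, Nat.mul_div_cancel _ hm0] at h2
    have : 2 ^ k * 2 ≤ 2 ^ k * m := Nat.mul_le_mul_left _ (by omega)
    have := Nat.two_pow_pos k
    omega
  subst hm1
  rw [mul_one] at hk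
  have hk1 : 1 ≤ k := by
    by_contra h
    rw [show k = 0 by omega, pow_zero, orderOf_eq_one_iff] at hk
    subst hk
    exact ht (map_one φ)
  letI := (Subgroup.centralizer ({z} : Set G)).fintypeQuotientOfFiniteIndex
  obtain ⟨f, hVf, hf1, hfrep⟩ := transfer_fixed φ (t := t) (by
    intro n a h hdvd hn
    refine hsmall _ h ?_
    have hn0 : n ≠ 0 := fun h0 => by
      rw [h0, zero_dvd_iff] at hdvd
      exact (orderOf_pos t).ne' hdvd
    have e : orderOf (a⁻¹ * t ^ n * a) = orderOf (t ^ n) := by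
      have := MulEquiv.orderOf_eq (MulAut.conj a⁻¹) (t ^ n)
      simpa using this
    rw [e, orderOf_pow_of_dvd hn0 hdvd]
    exact Nat.div_lt_self (orderOf_pos t) (by omega))
  have key := transfer_eq_one hres hA2 φ t
  rw [hVf] at key
  letI : ∀ c : G ⧸ Subgroup.centralizer ({z} : Set G), Fintype (orbit Q c) := fun c => Fintype.ofFinite _
  let O := fun c : G ⧸ Subgroup.centralizer ({z} : Set G) => orbit Q c
  have hQH := hQ.le_centralizer'
  have hone : ∀ w : Q, w • (((1 : G) : G ⧸ Subgroup.centralizer ({z} : Set G))) = ((1 : G) : G ⧸ _) := fun w => by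
    show (w : G) • ((1 : G) : G ⧸ Subgroup.centralizer ({z} : Set G)) = _
    rw [MulAction.Quotient.smul_coe, smul_eq_mul, mul_one, QuotientGroup.eq, mul_one]
    exact inv_mem (hQH w.2)
  rw [← Finset.prod_fiberwise_of_maps_to (g := O)
    (t := (Finset.univ : Finset (G ⧸ Subgroup.centralizer ({z} : Set G))).image O)
    (fun c _ => Finset.mem_image_of_mem _ (Finset.mem_univ c)),
    Finset.prod_eq_single (O ((1 : G) : G ⧸ Subgroup.centralizer ({z} : Set G)))] at key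
  · have hset : (Finset.univ.filter fun c => O c = O ((1 : G) : G ⧸ Subgroup.centralizer ({z} : Set G))) =
        {((1 : G) : G ⧸ Subgroup.centralizer ({z} : Set G))} := by
      ext c
      simp only [Finset.mem_filter, Finset.mem_univ, true_and, Finset.mem_singleton, O]
      refine ⟨fun h => ?_, fun h => by rw [h]⟩
      obtain ⟨u, hu⟩ : c ∈ orbit Q ((1 : G) : G ⧸ Subgroup.centralizer ({z} : Set G)) := h ▸ mem_orbit_self c
      rw [← hu]; exact hone u
    rw [hset, Finset.prod_singleton, hfrep 1 (by simpa using htH)] at key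
    exact ht (by simpa using key)
  swap
  · intro h
    exact absurd (Finset.mem_image_of_mem _ (Finset.mem_univ _)) h
  intro o ho hne
  obtain ⟨c₁, -, rfl⟩ := Finset.mem_image.1 ho
  by_cases hex : ∃ c, O c = O c₁ ∧ t • c = c
  swap
  · push Not at hex
    exact Finset.prod_eq_one fun c hc => hf1 c (hex c (Finset.mem_filter.1 hc).2)
  obtain ⟨c₀, hc₀, hc₀t⟩ := hex
  obtain ⟨a, rfl⟩ := QuotientGroup.mk_surjective c₀
  have hat : a⁻¹ * t * a ∈ Subgroup.centralizer ({z} : Set G) := by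
    rw [MulAction.Quotient.smul_coe, smul_eq_mul, QuotientGroup.eq, ← inv_mem_iff] at hc₀t
    simpa [mul_assoc] using hc₀t
  refine hU.orbit_prod hcard hA φ hφQ (hmH.1 htH) hk hk1 hsmall f hf1 hfrep hat (fun e => hne ?_) _ fun c => ?_
  · rw [← hc₀]
    refine congrArg O ?_
    rw [QuotientGroup.eq, mul_one]
    exact inv_mem (hmH.2 (mul_inv_eq_iff_eq_mul.1 e))
  · simp only [Finset.mem_filter, Finset.mem_univ, true_and]
    rw [← hc₀]
    refine orbit_eq_iff.trans ⟨fun ⟨⟨u, hu⟩, e⟩ => ⟨u, hu, e⟩, fun ⟨u, hu, e⟩ => ⟨⟨u, hu⟩, e⟩⟩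

end Cfsg.Lib.Extra
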