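import Cfsg.Agent.Lib.Extra.Large

/-!
# Singular subgroups for an extraspecial 2-subgroup normal in an involution centralizer
-/

set_option autoImplicit false
set_option linter.style.haveILetI false

namespace Cfsg.Lib.Extra

open Cfsg
open scoped Pointwise

variable {G : Type*} [Group G] [Finite G]

theorem conj_core_le (b g : G) :
    ((Cfsg.pCore 2 (Subgroup.centralizer ({b} : Set G))).map (Subgroup.centralizer ({b} : Set G)).subtype).map
        (MulAut.conj g).toMonoidHom ≤
      (Cfsg.pCore 2 (Subgroup.centralizer ({g * b * g⁻¹} : Set G))).map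
        (Subgroup.centralizer ({g * b * g⁻¹} : Set G)).subtype := by
  set W := (Cfsg.pCore 2 (Subgroup.centralizer ({b} : Set G))).map (Subgroup.centralizer ({b} : Set G)).subtype
    with hW
  have hle : W.map (MulAut.conj g).toMonoidHom ≤ Subgroup.centralizer ({g * b * g⁻¹} : Set G) := by
    rintro _ ⟨w, hw, rfl⟩
    obtain ⟨v, -, rfl⟩ := hw
    exact Subgroup.mem_centralizer_singleton_iff.2
      ((Commute.conj_iff g).2 (Subgroup.mem_centralizer_singleton_iff.1 v.2)).eq
  intro a ha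
  refine ⟨⟨a, hle ha⟩, ?_, rfl⟩
  refine Lib.Core.le_pCore' ((Subgroup.normal_subgroupOf_iff_le_normalizer hle).2 fun c hc => ?_)
    ((((Lib.Core.pCore_isPGroup 2 _).map _).map _).of_equiv (Subgroup.subgroupOfEquivOfLe hle).symm) ?_
  · refine Subgroup.mem_normalizer_fintype ?_
    rintro _ ⟨w, hw, rfl⟩
    have h1 : Commute (g⁻¹ * c * g) b := by
      simpa [mul_assoc] using (Commute.conj_iff g⁻¹).2
        (show Commute c (g * b * g⁻¹) from Subgroup.mem_centralizer_singleton_iff.1 hc)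
    refine ⟨g⁻¹ * c * g * w * (g⁻¹ * c * g)⁻¹,
      (Subgroup.mem_normalizer_iff.1 (core_normalized b _ h1) w).1 hw, ?_⟩
    show g * (g⁻¹ * c * g * w * (g⁻¹ * c * g)⁻¹) * g⁻¹ = c * (g * w * g⁻¹) * c⁻¹
    group
  · exact ha

theorem core_conj (b g : G) :
    (Cfsg.pCore 2 (Subgroup.centralizer ({g * b * g⁻¹} : Set G))).map
        (Subgroup.centralizer ({g * b * g⁻¹} : Set G)).subtype =
      ((Cfsg.pCore 2 (Subgroup.centralizer ({b} : Set G))).map (Subgroup.centralizer ({b} : Set G)).subtype).map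
        (MulAut.conj g).toMonoidHom := by
  refine le_antisymm (fun a ha => ?_) (conj_core_le b g)
  have h := conj_core_le (g * b * g⁻¹) g⁻¹
  rw [show g⁻¹ * (g * b * g⁻¹) * g⁻¹⁻¹ = b by group] at h
  refine ⟨g⁻¹ * a * g⁻¹⁻¹, h ⟨a, ha, rfl⟩, ?_⟩
  show g * (g⁻¹ * a * g⁻¹⁻¹) * g⁻¹ = a
  group

/-- The common hypotheses give the elementwise data at `z`. -/
theorem ctx_core {Q : G → Subgroup G}
    (hQ : ∀ x : G, Q x = (Cfsg.pCore 2 ↥(Subgroup.centralizer ({x} : Set G))).map (Subgroup.centralizer ({x} : Set G)).subtype)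
    {z : G} (hz : orderOf z = 2) (hE : Cfsg.IsExtraspecial 2 ↥(Q z))
    (hC : Subgroup.centralizer ((Q z : Subgroup G) : Set G) ≤ Q z) : Ctx (Q z) z := by
  haveI : Fact (Nat.Prime 2) := ⟨Nat.prime_two⟩
  have hle : Q z ≤ Subgroup.centralizer ({z} : Set G) := by rw [hQ z]; exact Subgroup.map_subtype_le _
  have hzQ : z ∈ Q z := hC (Subgroup.mem_centralizer_iff.2 fun q hq =>
    Subgroup.mem_centralizer_singleton_iff.1 (hle hq))
  have hzc : z ∈ (Subgroup.center (Q z)).map (Q z).subtype := ⟨⟨z, hzQ⟩, Subgroup.mem_center_iff.2 fun q =>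
    Subtype.ext (Subgroup.mem_centralizer_singleton_iff.1 (hle q.2)), rfl⟩
  have hz' : (Subgroup.center (Q z)).map (Q z).subtype = Subgroup.zpowers z := by
    refine (Subgroup.eq_of_le_of_card_ge (Subgroup.zpowers_le.2 hzc) ?_).symm
    rw [Nat.card_zpowers, hz, Subgroup.card_map_of_injective (Q z).subtype_injective, hE.2]
  refine ctx_of hE (fun c hc => ⟨⟨c, hC hc⟩, Subgroup.mem_center_iff.2 fun q => Subtype.ext
      (Subgroup.mem_centralizer_iff.1 hc q q.2), rfl⟩) (fun c hc => ?_) hz'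
  rw [hQ z]
  exact core_normalized z c (Subgroup.mem_centralizer_iff.1 hc z hzc).symm

/-- The elementwise data at every member of a singular subgroup. -/
theorem ctx_singular {Q : G → Subgroup G}
    (hQ : ∀ x : G, Q x = (Cfsg.pCore 2 ↥(Subgroup.centralizer ({x} : Set G))).map (Subgroup.centralizer ({x} : Set G)).subtype)
    {z : G} (hz : orderOf z = 2) (hE : Cfsg.IsExtraspecial 2 ↥(Q z))
    (hC : Subgroup.centralizer ((Q z : Subgroup G) : Set G) ≤ Q z) {U : Subgroup G}
    (hS : ∀ u ∈ U, u ≠ 1 → ∃ g : G, g * z * g⁻¹ = u) : ∀ u ∈ U, u ≠ 1 → Ctx (Q u) u := by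
  intro u hu hu1
  obtain ⟨g, rfl⟩ := hS u hu hu1
  rw [hQ, core_conj, ← hQ]
  exact (ctx_core hQ hz hE hC).conj g

namespace Ctx

variable {Q : Subgroup G} {z : G}

omit [Finite G] in
theorem mem_pair (hQ : Ctx Q z) {x w : G} {R P : Subgroup G} (hR : Ctx R x) (hzR : z ∈ R) (hx : x ∈ Q) (hxz : x ≠ z)
    (hP : ∀ y : G, y * x * y⁻¹ = z * x → ∀ e ∈ R, y * e * y⁻¹ ∈ P) (hwQ : w ∈ Q) (hwR : w ∈ R) : w ∈ P := by
  obtain ⟨y, hy, hyx⟩ := hQ.exists_move hx hR.ne_one hxz
  have h1 : y⁻¹ * w * y ∈ R := by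
    rcases hQ.comm y⁻¹ (inv_mem hy) w hwQ with h | h <;>
      rw [show y⁻¹ * w * y = y⁻¹ * w * y⁻¹⁻¹ * w⁻¹ * w by group, h]
    · exact mul_mem (one_mem R) hwR
    · exact mul_mem hzR hwR
  have := hP y hyx _ h1
  rwa [show y * (y⁻¹ * w * y) * y⁻¹ = w by group] at this

omit [Finite G] in
/-- Centralizing the centralizer of a set in `Q` forces membership in the span of the set and the centre. -/
theorem mem_of_double (hQ : Ctx Q z) (S : Finset G) (hS : ∀ s ∈ S, s ∈ Q) : ∀ x ∈ Q,
    (∀ q ∈ Q, (∀ s ∈ S, Commute q s) → Commute x q) → x ∈ Subgroup.closure (insert z (S : Set G)) := by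
  classical
  induction S using Finset.induction_on with
  | empty =>
    intro x _ h
    rcases hQ.cent x fun q hq => h q hq (by simp) with rfl | rfl
    · exact one_mem _
    · exact Subgroup.subset_closure (Set.mem_insert _ _)
  | insert s S hs ih =>
    intro x hx h
    have hsQ : s ∈ Q := hS s (Finset.mem_insert_self s S)
    have hmono : Subgroup.closure (insert z (S : Set G)) ≤ Subgroup.closure (insert z ((insert s S : Finset G) : Set G)) :=
      Subgroup.closure_mono (Set.insert_subset_insert (by simp))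
    by_cases hall : ∀ q ∈ Q, (∀ t ∈ S, Commute q t) → Commute q s
    · exact hmono (ih (fun t ht => hS t (Finset.mem_insert_of_mem ht)) x hx fun q hq hqS => h q hq fun t ht => by
        rcases Finset.mem_insert.1 ht with rfl | ht
        exacts [hall q hq hqS, hqS t ht])
    push Not at hall
    obtain ⟨y, hy, hyS, hys⟩ := hall
    have hys' : y * s * y⁻¹ = z * s := by
      rcases hQ.comm y hy s hsQ with e | e
      · exact absurd (mul_inv_eq_iff_eq_mul.1 (mul_inv_eq_one.1 e)) hys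
      · exact mul_inv_eq_iff_eq_mul.1 e
    have hext : ∀ v ∈ Q, (∀ q ∈ Q, (∀ t ∈ insert s S, Commute q t) → Commute v q) → Commute v y →
        v ∈ Subgroup.closure (insert z (S : Set G)) := by
      intro v hv hvc hvy
      refine ih (fun t ht => hS t (Finset.mem_insert_of_mem ht)) v hv fun q hq hqS => ?_
      rcases hQ.commute_or hy hys' hq hsQ with e | e
      · exact hvc q hq fun t ht => by
          rcases Finset.mem_insert.1 ht with rfl | ht
          exacts [e, hqS t ht]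
      · have h2 := hvy.inv_right.mul_right (hvc _ (mul_mem hy hq) fun t ht => by
          rcases Finset.mem_insert.1 ht with rfl | ht
          exacts [e, (hyS t ht).mul_left (hqS t ht)])
        rwa [inv_mul_cancel_left] at h2
    rcases hQ.comm y hy x hx with e | e
    · exact hmono (hext x hx h (mul_inv_eq_iff_eq_mul.1 (mul_inv_eq_one.1 e)).symm)
    · have hxs : Commute (x * s) y := Commute.symm (mul_inv_eq_iff_eq_mul.1 (by
        calc y * (x * s) * y⁻¹ = (y * x * y⁻¹) * (y * s * y⁻¹) := by group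
          _ = z * (x * z) * s := by rw [mul_inv_eq_iff_eq_mul.1 e, hys']; simp only [mul_assoc]
          _ = x * s := by rw [← (hQ.central x hx).eq, ← mul_assoc z z, hQ.sq_z, one_mul]))
      have h3 := hmono (hext (x * s) (mul_mem hx hsQ) (fun q hq hqS =>
        (h q hq hqS).mul_left (hqS s (Finset.mem_insert_self s S)).symm) hxs)
      have h4 := mul_mem h3 (inv_mem (Subgroup.subset_closure (k := insert z ((insert s S : Finset G) : Set G))
        (show s ∈ _ by simp)))
      rwa [mul_inv_cancel_right] at h4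

/-- An element moving `x` while centralizing a subgroup through the centre. -/
theorem exists_move_fixing (hQ : Ctx Q z) {A : Subgroup G} (hA : A ≤ Q) (hzA : z ∈ A) {x : G} (hx : x ∈ Q)
    (hxA : x ∉ A) : ∃ q ∈ Q, (∀ a ∈ A, Commute q a) ∧ q * x * q⁻¹ = z * x := by
  classical
  haveI : Fintype A := Fintype.ofFinite A
  by_contra hcon
  push Not at hcon
  let S : Finset G := Finset.univ.image (fun a : A => (a : G))
  have h := hQ.mem_of_double S (fun s hs => by
    obtain ⟨a, -, rfl⟩ := Finset.mem_image.1 hs; exact hA a.2) x hx fun q hq hqS => by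
      rcases hQ.comm q hq x hx with e | e
      · exact (mul_inv_eq_iff_eq_mul.1 (mul_inv_eq_one.1 e)).symm
      · exact absurd (mul_inv_eq_iff_eq_mul.1 e) (hcon q hq fun a ha =>
          hqS a (Finset.mem_image.2 ⟨⟨a, ha⟩, Finset.mem_univ _, rfl⟩))
  refine hxA (((Subgroup.closure_le A).2 ?_) h)
  rintro w (rfl | hw)
  · exact hzA
  · obtain ⟨a, -, rfl⟩ := Finset.mem_image.1 hw; exact a.2

end Ctx

section Singular

variable {Q : G → Subgroup G} {U : Subgroup G} (hctx : ∀ u ∈ U, u ≠ 1 → Ctx (Q u) u)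
  (hO : ∀ u ∈ U, ∀ v ∈ U, u ≠ 1 → v ≠ 1 → v ∈ Q u)

include hctx hO

omit [Finite G] in
theorem mem_of_singular {u v : G} (hu : u ∈ U) (hv : v ∈ U) (hu1 : u ≠ 1) : v ∈ Q u := by
  by_cases h : v = 1
  · rw [h]; exact one_mem _
  · exact hO u hu v hv hu1 h

omit [Finite G] in
theorem comm_singular {u g v : G} (hu : u ∈ U) (hu1 : u ≠ 1) (hg : g ∈ Q u) (hv : v ∈ Q u) :
    g * v * g⁻¹ * v⁻¹ ∈ U := by
  rcases (hctx u hu hu1).comm g hg v hv with h | h <;> rw [h]
  exacts [one_mem U, hu]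

/-- Elements of the join normalize `U` and act trivially on the intersection modulo `U`. -/
theorem join_acts {g : G} (hg : g ∈ ⨆ u ∈ ((U : Set G) \ {1}), Q u) :
    g ∈ Subgroup.normalizer (U : Set G) ∧
      ∀ x ∈ (⨅ u ∈ ((U : Set G) \ {1}), Q u), g * x * g⁻¹ * x⁻¹ ∈ U := by
  let S : Subgroup G :=
    { carrier := {g | g ∈ Subgroup.normalizer (U : Set G) ∧
        ∀ x ∈ (⨅ u ∈ ((U : Set G) \ {1}), Q u), g * x * g⁻¹ * x⁻¹ ∈ U}
      one_mem' := ⟨one_mem _, fun x _ => by simp⟩
      mul_mem' := fun {a b} ha hb => ⟨mul_mem ha.1 hb.1, fun x hx => by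
        have := mul_mem ((Subgroup.mem_normalizer_iff.1 ha.1 _).1 (hb.2 x hx)) (ha.2 x hx)
        simpa [mul_assoc] using this⟩
      inv_mem' := fun {a} ha => ⟨inv_mem ha.1, fun x hx => by
        have := (Subgroup.mem_normalizer_iff.1 (inv_mem ha.1) _).1 (inv_mem (ha.2 x hx))
        simpa [mul_assoc] using this⟩ }
  refine (iSup₂_le (a := S) (fun u hu => fun g hg => ?_) : _ ≤ S) hg
  refine ⟨Subgroup.mem_normalizer_fintype fun v hv => ?_, fun x hx =>
    comm_singular hctx hO hu.1 hu.2 hg ((iInf₂_le u hu : _ ≤ Q u) hx)⟩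
  have := mul_mem (comm_singular hctx hO hu.1 hu.2 hg (mem_of_singular hctx hO hu.1 hv hu.2)) hv
  rwa [inv_mul_cancel_right] at this

/-- An element fixing `W` and moving `s` to `u * s`. -/
theorem exists_transvection {W : Subgroup G} (hW : W ≤ U) {u : G} (hu : u ∈ U) (hu1 : u ≠ 1) {s : G}
    (hs : s ∈ Q u) (hsW : s ∉ W ⊔ Subgroup.zpowers u) :
    ∃ g ∈ ⨆ u ∈ ((U : Set G) \ {1}), Q u, (∀ w ∈ W, Commute g w) ∧ g * s * g⁻¹ = u * s := by
  have hle : W ⊔ Subgroup.zpowers u ≤ Q u := sup_le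
    (fun w hw => mem_of_singular hctx hO hu (hW hw) hu1) (Subgroup.zpowers_le.2 (hctx u hu hu1).mem)
  obtain ⟨q, hq, hqc, hqs⟩ := (hctx u hu hu1).exists_move_fixing hle
    (Subgroup.mem_sup_right (Subgroup.mem_zpowers u)) hs hsW
  exact ⟨q, (le_iSup₂ (f := fun u _ => Q u) u ⟨hu, hu1⟩) hq, fun w hw => hqc w (Subgroup.mem_sup_left hw), hqs⟩

/-- The join induces every automorphism of `U`. -/
theorem join_induces (hU2 : ∀ u ∈ U, u * u = 1) : ∀ φ : U ≃* U, ∃ g ∈ ⨆ u ∈ ((U : Set G) \ {1}), Q u,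
    ∀ u : U, g * (u : G) * g⁻¹ = ((φ u : U) : G) := by
  classical
  suffices h : ∀ n : ℕ, ∀ W : Subgroup G, W ≤ U → Nat.card U - Nat.card W = n → ∀ φ : U ≃* U,
      (∀ w : U, (w : G) ∈ W → φ w = w) → ∃ g ∈ ⨆ u ∈ ((U : Set G) \ {1}), Q u,
        ∀ u : U, g * (u : G) * g⁻¹ = ((φ u : U) : G) from fun φ =>
    h _ ⊥ bot_le rfl φ fun w hw => by
      rw [show w = 1 from Subtype.ext (Subgroup.mem_bot.1 hw)]; exact map_one φ
  intro n
  induction n using Nat.strong_induction_on with
  | _ n ih =>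
  intro W hW hn φ hfix
  by_cases hWU : W = U
  · exact ⟨1, one_mem _, fun u => by rw [hfix u (hWU ▸ u.2)]; simp⟩
  obtain ⟨s, hs, hsW⟩ : ∃ s ∈ U, s ∉ W := by
    by_contra h
    push Not at h
    exact hWU (le_antisymm hW h)
  set t := ((φ ⟨s, hs⟩ : U) : G) with ht
  have htU : t ∈ U := (φ _).2
  have htW : t ∉ W := fun h => hsW (by
    have h1 := hfix (φ ⟨s, hs⟩) h
    have h2 : φ ⟨s, hs⟩ = ⟨s, hs⟩ := φ.injective h1
    rw [ht, h2] at h
    exact h)
  obtain ⟨g, hg, hgW, hgs⟩ : ∃ g ∈ ⨆ u ∈ ((U : Set G) \ {1}), Q u, (∀ w ∈ W, Commute g w) ∧ g * s * g⁻¹ = t := by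
    by_cases hu : t * s = 1
    · exact ⟨1, one_mem _, fun w _ => Commute.one_left w, by
        rw [one_mul, inv_one, mul_one, eq_inv_of_mul_eq_one_left hu, inv_eq_of_mul_eq_one_right (hU2 s hs)]⟩
    obtain ⟨g, h1, h2, h3⟩ := exists_transvection hctx hO hW (mul_mem htU hs) hu (s := s)
      (mem_of_singular hctx hO (mul_mem htU hs) hs hu) (fun h => by
        have hle : W ⊔ Subgroup.zpowers (t * s) ≤ Subgroup.normalizer (W : Set G) := by
          refine sup_le Subgroup.le_normalizer (Subgroup.zpowers_le.2 ?_)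
          refine Subgroup.mem_normalizer_fintype fun w hw => ?_
          have hcom : Commute (t * s) w := by
            have h4 := hU2 _ (mul_mem (mul_mem htU hs) (hW hw))
            have h5 := inv_eq_of_mul_eq_one_right h4
            rw [_root_.mul_inv_rev, inv_eq_of_mul_eq_one_right (hU2 w (hW hw)),
              inv_eq_of_mul_eq_one_right (hU2 _ (mul_mem htU hs))] at h5
            exact h5.symm
          rw [hcom.eq, mul_inv_cancel_right]; exact hw
        have h' : s ∈ (W : Set G) * (Subgroup.zpowers (t * s) : Set G) := by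
          rw [← Subgroup.coe_mul_of_right_le_normalizer_left W _ (le_sup_right.trans hle)]
          exact h
        obtain ⟨w, hw, k, hk, e⟩ := h'
        obtain ⟨m, hm⟩ := Subgroup.mem_zpowers_iff.1 hk
        have hk' : k = 1 ∨ k = t * s := by
          rw [← hm, ← zpow_mod_orderOf]
          have h2 : orderOf (t * s) = 2 := orderOf_eq_prime (by rw [pow_two]; exact hU2 _ (mul_mem htU hs)) hu
          rw [h2]
          rcases Int.emod_two_eq m with e' | e' <;> norm_num [e']
        rcases hk' with rfl | rfl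
        · exact hsW (e ▸ by simpa using hw)
        · refine htW ?_
          have : w * t = 1 := mul_right_cancel (b := s) (by
            rw [one_mul]; simpa [mul_assoc] using e)
          rw [eq_inv_of_mul_eq_one_right this]; exact inv_mem hw)
    exact ⟨g, h1, h2, h3.trans (by rw [mul_assoc, hU2 s hs, mul_one])⟩
  have hgN := (join_acts hctx hO hg).1
  let c : U ≃* U := Subgroup.normalizerMonoidHom (H := U) ⟨g, hgN⟩
  have hc : ∀ v : U, ((c v : U) : G) = g * v * g⁻¹ := fun v => rfl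
  let W' := W ⊔ Subgroup.zpowers s
  have hW' : W' ≤ U := sup_le hW (Subgroup.zpowers_le.2 hs)
  obtain ⟨k, hk, hke⟩ := ih (Nat.card U - Nat.card W') (by
      have h1 : W < W' := lt_of_le_of_ne le_sup_left fun h => hsW (h.symm ▸ Subgroup.mem_sup_right (Subgroup.mem_zpowers s))
      have h2 : Nat.card W < Nat.card W' := by
        refine lt_of_le_of_ne (Subgroup.card_le_of_le h1.le) fun e => h1.ne ?_
        exact Subgroup.eq_of_le_of_card_ge h1.le e.ge
      have h3 : Nat.card W' ≤ Nat.card U := Subgroup.card_le_of_le hW'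
      omega) W' hW' rfl (φ.trans c.symm) fun w hw => by
    show c.symm (φ w) = w
    rw [MulEquiv.symm_apply_eq]
    have key : W' ≤ (φ.toMonoidHom.eqLocus c.toMonoidHom).map U.subtype := by
      refine sup_le (fun v hv => ?_) (Subgroup.zpowers_le.2 ⟨⟨s, hs⟩, Subtype.ext ?_, rfl⟩)
      · refine ⟨⟨v, hW hv⟩, Subtype.ext ?_, rfl⟩
        show ((φ ⟨v, hW hv⟩ : U) : G) = g * v * g⁻¹
        rw [hfix ⟨v, hW hv⟩ hv, (hgW v hv).eq, mul_inv_cancel_right]
      · exact hgs.symm
    obtain ⟨v, hv, hve⟩ := key hw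
    rw [← show v = w from Subtype.ext hve]
    exact hv
  refine ⟨g * k, mul_mem hg hk, fun v => ?_⟩
  have h1 : φ v = c ((φ.trans c.symm) v) := (c.apply_symm_apply (φ v)).symm
  rw [h1, hc, ← hke v]
  group

/-- The intersection is already cut out by generators. -/
theorem inter_eq (hU2 : ∀ u ∈ U, u * u = 1) (heqv : ∀ a g : G, ∀ e ∈ Q a, g * e * g⁻¹ ∈ Q (g * a * g⁻¹))
    {T : Set G} (hT : Subgroup.closure T = U) (hT1 : (1 : G) ∉ T) :
    (⨅ u ∈ ((U : Set G) \ {1}), Q u) = ⨅ t ∈ T, Q t := by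
  have hTU : T ⊆ U := hT ▸ Subgroup.subset_closure
  refine le_antisymm (le_iInf₂ fun t ht => iInf₂_le t (show t ∈ (U : Set G) \ {1} from ⟨hTU ht, fun h => hT1 (h ▸ ht)⟩)) ?_
  intro w hw
  simp only [Subgroup.mem_iInf] at hw ⊢
  intro u hu
  have hu' : u ∈ Subgroup.closure T := hT.symm ▸ hu.1
  suffices h : u ∈ U ∧ (u = 1 ∨ w ∈ Q u) from h.2.resolve_left hu.2
  clear hu
  induction hu' using Subgroup.closure_induction with
  | mem t ht => exact ⟨hTU ht, Or.inr (hw t ht)⟩
  | one => exact ⟨one_mem U, Or.inl rfl⟩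
  | inv a _ ha => rw [inv_eq_of_mul_eq_one_right (hU2 a ha.1)]; exact ha
  | mul a b _ _ ha hb =>
    refine ⟨mul_mem ha.1 hb.1, ?_⟩
    by_cases ha1 : a = 1
    · rw [ha1, one_mul]; exact hb.2
    by_cases hb1 : b = 1
    · rw [hb1, mul_one]; exact ha.2
    by_cases hab : b = a
    · left; rw [hab]; exact hU2 a ha.1
    refine Or.inr ((hctx a ha.1 ha1).mem_pair (hctx b hb.1 hb1) (mem_of_singular hctx hO hb.1 ha.1 hb1)
      (mem_of_singular hctx hO ha.1 hb.1 ha1) hab (fun y hy e he => hy ▸ heqv b y e he)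
      (ha.2.resolve_left ha1) (hb.2.resolve_left hb1))

end Singular

theorem heqv_of {Q : G → Subgroup G}
    (hQ : ∀ x : G, Q x = (Cfsg.pCore 2 ↥(Subgroup.centralizer ({x} : Set G))).map (Subgroup.centralizer ({x} : Set G)).subtype)
    (a g e : G) (he : e ∈ Q a) : g * e * g⁻¹ ∈ Q (g * a * g⁻¹) := by
  rw [hQ] at he ⊢
  exact conj_core_le a g ⟨e, he, rfl⟩

end Cfsg.Lib.Extra
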