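import Cfsg.Agent.Lib.Extra.LargeFourLocal
import Cfsg.Agent.Lib.Extra.LargeTwoCore
import Cfsg.Agent.Lib.Extra.Singular

/-!
# A large extraspecial 2-subgroup whose central involution is not fused into it

If no conjugate of `z` other than `z` lies in `Q`, and `y ∈ Q` squares to `z` and centralizes the
conjugate `w = a z a⁻¹ ≠ z`, then every homomorphism from `C(z)` to a group of order two takes the
value one at `a⁻¹ y a`.
-/

set_option autoImplicit false
set_option linter.style.haveILetI false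
set_option linter.unusedSectionVars false

namespace Cfsg.Lib.Extra

open Cfsg
open scoped commutatorElement

variable {G : Type*} [Group G] [Finite G]

/-- In a group of order two. -/
theorem two_cases {A : Type*} [CommGroup A] (hA : Nat.card A = 2) (a b : A) :
    a * a = 1 ∧ (a ≠ 1 → b ≠ 1 → a * b = 1) := by
  haveI : Finite A := Nat.finite_of_card_ne_zero (by omega)
  have hsq : a * a = 1 := by
    rw [← pow_two, ← hA]; exact pow_card_eq_one'
  refine ⟨hsq, fun ha hb => ?_⟩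
  obtain ⟨x, y, -, huniv⟩ := Nat.card_eq_two_iff.1 hA
  have hmem : ∀ c : A, c = x ∨ c = y := fun c => by
    have : c ∈ ({x, y} : Set A) := huniv ▸ Set.mem_univ c
    simpa using this
  rcases hmem a with h1 | h1 <;> rcases hmem b with h2 | h2 <;> rcases hmem 1 with h3 | h3 <;>
    first
    | exact absurd (h1.trans h3.symm) ha
    | exact absurd (h2.trans h3.symm) hb
    | (rw [h2, ← h1]; exact hsq)

namespace Ctx

variable {Q : Subgroup G} {z : G} (hQ : Ctx Q z)
include hQ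

theorem conj_cases {a b : G} (ha : a ∈ Q) (hb : b ∈ Q) : a * b * a⁻¹ = b ∨ a * b * a⁻¹ = z * b :=
  (hQ.comm a ha b hb).imp mul_inv_eq_one.1 mul_inv_eq_iff_eq_mul.1

theorem conj_cases' {a b : G} (ha : a ∈ Q) (hb : b ∈ Q) : a⁻¹ * b * a = b ∨ a⁻¹ * b * a = z * b := by
  simpa using hQ.conj_cases (inv_mem ha) hb

theorem commute_sq {a : G} (ha : a ∈ Q) (h : G) (hz : Commute z h) : Commute (a * a) h := by
  rcases hQ.sq a ha with e | e <;> rw [e]
  · exact Commute.one_left h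
  · exact hz

theorem inv_mul_self {a : G} (ha : a ∈ Q) : a⁻¹ = a ∨ a⁻¹ = z * a := by
  rcases hQ.sq a ha with e | e
  · exact Or.inl (inv_eq_of_mul_eq_one_right e)
  · exact Or.inr (inv_eq_of_mul_eq_one_left (by rw [mul_assoc, e, hQ.sq_z]))

/-- Two elements with the same commutator behaviour against a third. -/
theorem commute_mul_of_not {a b c : G} (ha : a ∈ Q) (hb : b ∈ Q) (hc : c ∈ Q) (h1 : ¬ Commute a c)
    (h2 : ¬ Commute b c) : Commute (a * b) c := hQ.mul_mem_of_same ha hb hc h1 h2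

/-- An involution outside `Q` centralizes no hyperplane of `Q`. -/
theorem mem_of_hyperplane {w : G} (hwz : Commute w z) (hw2 : w * w = 1) {s : G} (hs : s ∈ Q)
    (hsw : ¬ Commute s w) (hall : ∀ p ∈ Q, Commute p w ∨ Commute (s * p) w) : w ∈ Q := by
  let C : Subgroup G := Q ⊓ Subgroup.centralizer ({w} : Set G)
  have hmC : ∀ {p : G}, p ∈ C ↔ p ∈ Q ∧ Commute p w := fun {p} => by
    simp only [C, Subgroup.mem_inf, Subgroup.mem_centralizer_singleton_iff]; rfl
  obtain ⟨q, hq, hqC, hqs⟩ := hQ.exists_move_fixing (A := C) inf_le_left (hmC.2 ⟨hQ.mem, hwz.symm⟩) hs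
    (fun h => hsw (hmC.1 h).2)
  have hqs' : ¬ Commute q s := fun h => by
    rw [h.eq, mul_inv_cancel_right] at hqs
    exact hQ.ne_one (mul_eq_right.1 hqs.symm)
  have hq1 : q ≠ 1 := fun e => hqs' (e ▸ Commute.one_left s)
  have hqz : q ≠ z := fun e => hqs' (e ▸ hQ.central s hs)
  have hiff : ∀ p ∈ Q, Commute p q → Commute p w := fun p hp hpq => (hall p hp).resolve_right fun h => by
    have h1 : Commute q (s * p) := hqC _ (hmC.2 ⟨mul_mem hs hp, h⟩)
    exact hqs' (by simpa using h1.mul_right hpq.symm.inv_right)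
  have hwi : w⁻¹ = w := inv_eq_of_mul_eq_one_right hw2
  set c := s⁻¹ * (w * s * w⁻¹) with hc
  have hwsQ : w * s * w⁻¹ ∈ Q := (Subgroup.mem_normalizer_iff.1 (hQ.norm w hwz) s).1 hs
  have hcQ : c ∈ Q := mul_mem (inv_mem hs) hwsQ
  have hsc : w * s * w⁻¹ = s * c := by rw [hc, mul_inv_cancel_left]
  have hcC : ∀ p ∈ Q, Commute p w → Commute c p := by
    intro p hp hpw
    have e1 : w * p * w⁻¹ = p := by rw [← hpw.eq, mul_inv_cancel_right]
    have e2 : w * z * w⁻¹ = z := by rw [hwz.eq, mul_inv_cancel_right]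
    have h1 : (w * s * w⁻¹) * p * (w * s * w⁻¹)⁻¹ = s * p * s⁻¹ := by
      rcases hQ.conj_cases hs hp with e | e
      · calc (w * s * w⁻¹) * p * (w * s * w⁻¹)⁻¹ = w * (s * (w⁻¹ * p * w) * s⁻¹) * w⁻¹ := by group
          _ = w * (s * p * s⁻¹) * w⁻¹ := by rw [show w⁻¹ * p * w = p by rw [mul_assoc, hpw.eq, inv_mul_cancel_left]]
          _ = _ := by rw [e, e1]
      · calc (w * s * w⁻¹) * p * (w * s * w⁻¹)⁻¹ = w * (s * (w⁻¹ * p * w) * s⁻¹) * w⁻¹ := by group
          _ = w * (s * p * s⁻¹) * w⁻¹ := by rw [show w⁻¹ * p * w = p by rw [mul_assoc, hpw.eq, inv_mul_cancel_left]]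
          _ = (w * z * w⁻¹) * (w * p * w⁻¹) := by rw [e]; group
          _ = _ := by rw [e, e1, e2]
    rw [hsc] at h1
    refine mul_inv_eq_iff_eq_mul.1 (mul_left_cancel (a := s) (mul_right_cancel (b := s⁻¹) ?_))
    rw [← h1]; group
  rcases hQ.double_centralizer hq hq1 hqz hcQ (hcC q hq (hiff q hq (Commute.refl q)))
    (fun p hp hpq => hcC p hp (hiff p hp hpq)) with e | e | e | e
  · exact absurd (show Commute w s from mul_inv_eq_iff_eq_mul.1 (by rw [hsc, e, mul_one])).symm hsw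
  · -- `w q` centralizes `Q`
    have hws : w * s * w⁻¹ = z * s := by rw [hsc, e, (hQ.central s hs).eq]
    have hwqs : Commute (w * q) s := mul_inv_eq_iff_eq_mul.1 (by
      calc w * q * s * (w * q)⁻¹ = w * (q * s * q⁻¹) * w⁻¹ := by group
        _ = (w * z * w⁻¹) * (w * s * w⁻¹) := by rw [hqs]; group
        _ = z * (z * s) := by rw [hws, hwz.eq, mul_inv_cancel_right]
        _ = s := by rw [← mul_assoc, hQ.sq_z, one_mul])
    have hwqC : ∀ p ∈ Q, Commute p w → Commute (w * q) p := fun p hp hpw =>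
      hpw.symm.mul_left (hqC p (hmC.2 ⟨hp, hpw⟩))
    rcases hQ.cent (w * q) fun p hp => (hall p hp).elim (hwqC p hp) fun h => by
      simpa using hwqs.inv_right.mul_right (hwqC _ (mul_mem hs hp) h) with h | h
    · rw [eq_inv_of_mul_eq_one_left h]; exact inv_mem hq
    · rw [eq_mul_inv_of_mul_eq h]; exact mul_mem hQ.mem (inv_mem hq)
  all_goals
    exfalso
    have hcs : s⁻¹ * c * s = z * c := (hQ.conj_cases' hs hcQ).resolve_left fun hh => by
      have hcs : Commute c s := by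
        show c * s = s * c
        calc c * s = s * (s⁻¹ * c * s) := by group
          _ = _ := by rw [hh]
      rw [e] at hcs
      first
      | exact hqs' hcs
      | exact hqs' (by simpa using (hQ.central s hs).inv_left.mul_left hcs)
    have hwc : w * c * w⁻¹ = c := by
      rw [mul_inv_eq_iff_eq_mul]
      rw [e]
      first
      | exact (hiff q hq (Commute.refl q)).symm.eq
      | exact (hwz.mul_right (hiff q hq (Commute.refl q)).symm).eq
    have hsq : (s * c) * (s * c) = s * s := by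
      rw [← hsc]
      calc w * s * w⁻¹ * (w * s * w⁻¹) = w * (s * s) * w⁻¹ := by group
        _ = s * s := by rw [((hQ.commute_sq hs w hwz.symm).symm : Commute w (s * s)).eq, mul_inv_cancel_right]
    have hss : (w * s * w⁻¹) = s * c := hsc
    have hc2 : c * c = 1 := by
      have h2 : s = s * c * c := by
        calc s = (w * w) * s * (w * w)⁻¹ := by rw [hw2]; simp
          _ = w * (w * s * w⁻¹) * w⁻¹ := by group
          _ = w * (s * c) * w⁻¹ := by rw [hsc]
          _ = (w * s * w⁻¹) * (w * c * w⁻¹) := by group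
          _ = _ := by rw [hsc, hwc]
      rw [mul_assoc] at h2
      exact mul_eq_left.1 h2.symm
    refine hQ.ne_one ?_
    have h3 : (s * c) * (s * c) = s * s * z := by
      calc (s * c) * (s * c) = s * s * ((s⁻¹ * c * s) * c) := by group
        _ = _ := by rw [hcs, mul_assoc z, hc2, mul_one]
    exact mul_eq_left.1 (h3.symm.trans hsq)

end Ctx

/-- `Q` is as before and no other conjugate of `z` lies in it. -/
structure Unf (Q : Subgroup G) (z : G) : Prop where
  ctx : Ctx Q z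
  uniq : ∀ g : G, g * z * g⁻¹ ∈ Q → g * z * g⁻¹ = z

theorem Unf.conj {Q : Subgroup G} {z : G} (h : Unf Q z) (k : G) :
    Unf (Q.map (MulAut.conj k).toMonoidHom) (k * z * k⁻¹) := by
  refine ⟨h.ctx.conj k, fun g hg => ?_⟩
  obtain ⟨b, hb, e⟩ := hg
  have e' : k * b * k⁻¹ = g * (k * z * k⁻¹) * g⁻¹ := e
  have hb' : (k⁻¹ * g * k) * z * (k⁻¹ * g * k)⁻¹ = b := by
    calc (k⁻¹ * g * k) * z * (k⁻¹ * g * k)⁻¹ = k⁻¹ * (g * (k * z * k⁻¹) * g⁻¹) * k := by group
      _ = b := by rw [← e']; group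
  have := h.uniq _ (hb' ▸ hb)
  rw [hb'] at this
  rw [← e', this]

/-- Two commuting conjugates of the centre and their subgroups. -/
structure Cross (Q : Subgroup G) (z : G) (R : Subgroup G) (w : G) : Prop where
  fst : Unf Q z
  snd : Unf R w
  comm : Commute z w
  not_fst : w ∉ Q
  not_snd : z ∉ R

namespace Cross

variable {Q R : Subgroup G} {z w : G} (h : Cross Q z R w)
include h

theorem symm : Cross R w Q z := ⟨h.snd, h.fst, h.comm.symm, h.not_snd, h.not_fst⟩

theorem conj_z_mem {x : G} (hx : x ∈ R) : z * x * z ∈ R := by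
  have := (Subgroup.mem_normalizer_iff.1 (h.snd.ctx.norm z h.comm) x).1 hx
  rwa [h.fst.ctx.inv_z] at this

/-- `x⁻¹ x^z` in `Q` only when trivial. -/
theorem eq_one_of_mem {x : G} (hr : x⁻¹ * (z * x * z) ∈ Q) : Commute x z := by
  have e : (z * x⁻¹) * z * (z * x⁻¹)⁻¹ = z * (x⁻¹ * (z * x * z)) := by
    rw [mul_inv_rev, h.fst.ctx.inv_z]; group
  have h1 := h.fst.uniq (z * x⁻¹) (by rw [e]; exact mul_mem h.fst.ctx.mem hr)
  rw [e] at h1
  have h2 : z * x * z = x := (inv_mul_eq_one.1 (mul_eq_left.1 h1)).symm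
  show x * z = z * x
  calc x * z = z * x * z * z := by rw [h2]
    _ = _ := by rw [mul_assoc _ z z, h.fst.ctx.sq_z, mul_one]

theorem cross_mem {c u : G} (hc : c ∈ R) (hcz : Commute c z) (hu : u ∈ Q) (huw : Commute u w) :
    c⁻¹ * (u⁻¹ * c * u) ∈ Q ∧ c⁻¹ * (u⁻¹ * c * u) ∈ R := by
  have h1 := (Subgroup.mem_normalizer_iff''.1 (h.fst.ctx.norm c hcz) u⁻¹).1 (inv_mem hu)
  have h2 := (Subgroup.mem_normalizer_iff''.1 (h.snd.ctx.norm u huw) c).1 hc
  exact ⟨by rw [← mul_assoc, ← mul_assoc]; exact mul_mem h1 hu, mul_mem (inv_mem hc) h2⟩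

theorem inter_sq {d : G} (hd : d ∈ Q) (hd' : d ∈ R) : d * d = 1 :=
  (h.fst.ctx.sq d hd).resolve_right fun e => h.not_snd (e ▸ mul_mem hd' hd')

theorem inter_commute {d c : G} (hd : d ∈ Q) (hd' : d ∈ R) (hc : c ∈ R) (hcz : Commute c z) : Commute d c := by
  refine (h.snd.ctx.comm d hd' c hc).elim (fun e => mul_inv_eq_iff_eq_mul.1 (mul_inv_eq_one.1 e)) fun e => ?_
  refine absurd (e ▸ ?_) h.not_fst
  rw [show d * c * d⁻¹ * c⁻¹ = d * (c * d⁻¹ * c⁻¹) by group]
  exact mul_mem hd ((Subgroup.mem_normalizer_iff.1 (h.fst.ctx.norm c hcz) _).1 (inv_mem hd))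

/-- The first step of the action of `y`. -/
theorem comm_mem {y : G} (hyw : Commute y w) {x : G} (hx : x ∈ R) : x⁻¹ * (y⁻¹ * x * y) ∈ R :=
  mul_mem (inv_mem hx) ((Subgroup.mem_normalizer_iff''.1 (h.snd.ctx.norm y hyw) x).1 hx)

theorem r_eq {y : G} (hy2 : y * y = z) (x : G) : x⁻¹ * (z * x * z) =
    (x⁻¹ * (y⁻¹ * x * y)) * (x⁻¹ * (y⁻¹ * x * y)) *
      ((x⁻¹ * (y⁻¹ * x * y))⁻¹ * (y⁻¹ * (x⁻¹ * (y⁻¹ * x * y)) * y)) := by
  have hzz : z = y⁻¹ * y⁻¹ := by rw [← mul_inv_rev, hy2, h.fst.ctx.inv_z]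
  conv_lhs => enter [2, 1, 1]; rw [hzz]
  rw [← hy2]
  group

theorem r_sq {x : G} (hr : Commute (x⁻¹ * (z * x * z)) z) :
    (x⁻¹ * (z * x * z)) * (x⁻¹ * (z * x * z)) = 1 := by
  have e : z * (x⁻¹ * (z * x * z)) * z = (x⁻¹ * (z * x * z))⁻¹ := by
    rw [mul_inv_rev, mul_inv_rev, mul_inv_rev, h.fst.ctx.inv_z, inv_inv]
    calc z * (x⁻¹ * (z * x * z)) * z = z * (x⁻¹ * z) * x * (z * z) := by group
      _ = _ := by rw [h.fst.ctx.sq_z]; group
  have e2 : z * (x⁻¹ * (z * x * z)) * z = x⁻¹ * (z * x * z) := by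
    rw [← hr.eq, mul_assoc, h.fst.ctx.sq_z, mul_one]
  rw [← mul_eq_one_iff_eq_inv.2 (e2.symm.trans e)]

/-- If `y ∈ Q` squares to `z` and centralizes `w`, it maps `R` into `C(z)`. -/
theorem rho_commute {y : G} (hy : y ∈ Q) (hy2 : y * y = z) (hyw : Commute y w) :
    ∀ {x : G}, x ∈ R → Commute (x⁻¹ * (y⁻¹ * x * y)) z := by
  set ρ : G → G := fun x => x⁻¹ * (y⁻¹ * x * y) with hρ
  have hstep : ∀ x ∈ R, Commute (ρ (ρ x)) z → Commute (ρ x) z := by
    intro x hx h2
    have hx1 : ρ x ∈ R := h.comm_mem hyw hx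
    have hx2 : ρ (ρ x) ∈ R := h.comm_mem hyw hx1
    have hr : x⁻¹ * (z * x * z) = ρ x * ρ x * ρ (ρ x) := h.r_eq hy2 x
    have hrc : Commute (x⁻¹ * (z * x * z)) z := by
      rw [hr]
      exact (h.snd.ctx.commute_sq hx1 z h.comm.symm).mul_left h2
    have hsq : ρ (ρ x) * ρ (ρ x) = 1 := by
      have := h.r_sq hrc
      rw [hr] at this
      rcases h.snd.ctx.sq _ hx1 with e | e <;> rw [e] at this
      · simpa using this
      · calc ρ (ρ x) * ρ (ρ x) = (w * w) * (ρ (ρ x) * ρ (ρ x)) := by rw [h.snd.ctx.sq_z, one_mul]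
          _ = w * ρ (ρ x) * (w * ρ (ρ x)) := by
              rw [mul_assoc w (ρ (ρ x)), ← mul_assoc (ρ (ρ x)) w, ← (h.snd.ctx.central _ hx2).eq]
              simp only [mul_assoc]
          _ = 1 := this
    refine h.eq_one_of_mem ?_
    rw [h.r_eq hy2 (ρ x)]
    show ρ (ρ x) * ρ (ρ x) * ρ (ρ (ρ x)) ∈ Q
    rw [hsq, one_mul]
    exact (h.cross_mem hx2 h2 hy hyw).1
  intro x hx
  -- the iterates die in the 2-group `R ⟨y⟩`
  haveI : Fact (Nat.Prime 2) := ⟨Nat.prime_two⟩
  let P : Subgroup G := R ⊔ Subgroup.zpowers y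
  have hP : IsPGroup 2 P := (h.fst.ctx.two.to_le (Subgroup.zpowers_le.2 hy)) |> fun hz' =>
    IsPGroup.to_sup_of_normal_left' h.snd.ctx.two hz' (Subgroup.zpowers_le.2 (h.snd.ctx.norm y hyw))
  haveI := hP.isNilpotent
  obtain ⟨j, hj⟩ := Subgroup.nilpotent_iff_lowerCentralSeries.1 (inferInstance : Group.IsNilpotent P)
  have hit : ∀ i, ρ^[i] x ∈ R ∧ ∃ hp : ρ^[i] x ∈ P,
      (⟨_, hp⟩ : P) ∈ Subgroup.lowerCentralSeries (⊤ : Subgroup P) i := by
    intro i
    induction i with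
    | zero => exact ⟨hx, Subgroup.mem_sup_left hx, by simp⟩
    | succ i ih =>
      obtain ⟨hR', hp, hmem⟩ := ih
      rw [Function.iterate_succ_apply']
      refine ⟨h.comm_mem hyw hR', Subgroup.mem_sup_left (h.comm_mem hyw hR'), ?_⟩
      have h1 := Subgroup.commutator_mem_commutator (inv_mem hmem)
        (Subgroup.mem_top (⟨y, Subgroup.mem_sup_right (Subgroup.mem_zpowers y)⟩⁻¹ : P))
      have e : (⟨ρ (ρ^[i] x), Subgroup.mem_sup_left (h.comm_mem hyw hR')⟩ : P) =
          ⁅(⟨_, hp⟩ : P)⁻¹, (⟨y, Subgroup.mem_sup_right (Subgroup.mem_zpowers y)⟩ : P)⁻¹⁆ := by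
        refine Subtype.ext ?_
        simp [hρ, commutatorElement_def, mul_assoc]
      rw [e]
      exact h1
  have hend : Commute (ρ^[j] x) z := by
    obtain ⟨-, hp, hmem⟩ := hit j
    rw [hj, Subgroup.mem_bot] at hmem
    rw [show ρ^[j] x = 1 from congrArg Subtype.val hmem]
    exact Commute.one_left z
  have key : ∀ i, Commute (ρ^[i + 1] x) z → Commute (ρ x) z := by
    intro i
    induction i with
    | zero => exact id
    | succ i ih =>
      intro hc
      refine ih ?_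
      rw [Function.iterate_succ_apply']
      refine hstep _ (hit i).1 ?_
      rw [← Function.iterate_succ_apply' (f := ρ), ← Function.iterate_succ_apply' (f := ρ)]
      exact hc
  rcases j with _ | j
  · have h1 : x = 1 := by
      obtain ⟨-, hp, hmem⟩ := hit 0
      rw [hj, Subgroup.mem_bot] at hmem
      exact congrArg Subtype.val hmem
    show Commute (ρ x) z
    rw [h1]; simp [hρ]
  · exact key j hend

/-- The image of a moved element. -/
theorem shape {y : G} (hy : y ∈ Q) (hy2 : y * y = z) (hyw : Commute y w) {x : G} (hx : x ∈ R)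
    (hxz : ¬ Commute x z) :
    (x⁻¹ * (y⁻¹ * x * y)) * (x⁻¹ * (y⁻¹ * x * y)) = w ∧
    ∃ d ∈ Q, d ∈ R ∧ x⁻¹ * (z * x * z) = w * d := by
  have hx1 := h.comm_mem hyw hx
  have hd := h.cross_mem hx1 (h.rho_commute hy hy2 hyw hx) hy hyw
  have hsq : (x⁻¹ * (y⁻¹ * x * y)) * (x⁻¹ * (y⁻¹ * x * y)) = w := by
    refine (h.snd.ctx.sq _ hx1).resolve_left fun e => hxz (h.eq_one_of_mem ?_)
    rw [h.r_eq hy2 x, e, one_mul]
    exact hd.1
  exact ⟨hsq, _, hd.1, hd.2, (h.r_eq hy2 x).trans (by rw [hsq])⟩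

/-- `R` has exactly four cosets of `C_R(z)`, and the conjugates of `z` under them. -/
theorem orbit {y : G} (hy : y ∈ Q) (hy2 : y * y = z) (hyw : Commute y w) :
    ∃ a ∈ R, ∃ b ∈ R, ¬ Commute a z ∧ ¬ Commute b z ∧ ¬ Commute (a * b) z ∧
      ∀ d ∈ Q, d ∈ R → d ≠ 1 → ∃ x ∈ R, ¬ Commute x z ∧ x⁻¹ * (z * x * z) = w * d := by
  obtain ⟨a, ha, haz⟩ : ∃ a ∈ R, ¬ Commute a z := by
    by_contra hcon
    push Not at hcon
    rcases h.snd.ctx.cent z fun c hc => (hcon c hc).symm with e | e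
    · exact h.fst.ctx.ne_one e
    · exact h.not_fst (e ▸ h.fst.ctx.mem)
  obtain ⟨b, hb, hbz, habz⟩ : ∃ b ∈ R, ¬ Commute b z ∧ ¬ Commute (a * b) z := by
    by_contra hcon
    push Not at hcon
    exact h.not_snd (h.snd.ctx.mem_of_hyperplane h.comm h.fst.ctx.sq_z ha haz
      fun p hp => (Classical.em (Commute p z)).imp_right (hcon p hp))
  set ρ : G → G := fun x => x⁻¹ * (y⁻¹ * x * y) with hρ
  have hmul : ∀ p q : G, ρ (p * q) = (q⁻¹ * ρ p * q) * ρ q := fun p q => by simp only [hρ]; group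
  have hρR : ∀ p ∈ R, ρ p ∈ R := fun p hp => h.comm_mem hyw hp
  have hnc : ∀ p ∈ R, ∀ q ∈ R, ¬ Commute p z → ¬ Commute q z → ¬ Commute (p * q) z →
      ¬ Commute (ρ p) (ρ q) := by
    intro p hp q hq h1 h2 h3 hc
    have e1 : ρ p * ρ p = w := (h.shape hy hy2 hyw hp h1).1
    have e2 : ρ q * ρ q = w := (h.shape hy hy2 hyw hq h2).1
    have e3 : ρ (p * q) * ρ (p * q) = w := (h.shape hy hy2 hyw (mul_mem hp hq) h3).1
    have key : ρ p * ρ q * (ρ p * ρ q) = 1 := by
      calc ρ p * ρ q * (ρ p * ρ q) = ρ p * (ρ q * ρ p) * ρ q := by simp only [mul_assoc]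
        _ = ρ p * ρ p * (ρ q * ρ q) := by rw [← hc.eq]; simp only [mul_assoc]
        _ = 1 := by rw [e1, e2, h.snd.ctx.sq_z]
    rw [hmul] at e3
    rcases h.snd.ctx.conj_cases' hq (hρR p hp) with e | e <;> rw [e] at e3
    · exact h.snd.ctx.ne_one (e3.symm.trans key)
    · refine h.snd.ctx.ne_one (e3.symm.trans ?_)
      have hc' := h.snd.ctx.central _ (mul_mem (hρR p hp) (hρR q hq))
      calc w * ρ p * ρ q * (w * ρ p * ρ q) = w * (ρ p * ρ q * w) * (ρ p * ρ q) := by simp only [mul_assoc]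
        _ = w * w * (ρ p * ρ q * (ρ p * ρ q)) := by rw [← hc'.eq]; simp only [mul_assoc]
        _ = 1 := by rw [key, h.snd.ctx.sq_z, one_mul]
  -- four cosets
  have hfour : ∀ x ∈ R, Commute x z ∨ Commute (a * x) z ∨ Commute (b * x) z ∨ Commute (a * b * x) z := by
    intro x hx
    by_contra hcon
    push Not at hcon
    obtain ⟨h1, h2, h3, h4⟩ := hcon
    have n1 := hnc a ha x hx haz h1 h2
    have n2 := hnc b hb x hx hbz h1 h3
    have n3 := hnc (a * b) (mul_mem ha hb) x hx habz h1 h4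
    refine n3 ?_
    have hab' : Commute (ρ a * ρ b) (ρ x) := h.snd.ctx.commute_mul_of_not (hρR a ha) (hρR b hb) (hρR x hx) n1 n2
    rw [hmul]
    rcases h.snd.ctx.conj_cases' hb (hρR a ha) with e | e <;> rw [e]
    · exact hab'
    · rw [mul_assoc]
      exact (h.snd.ctx.central _ (hρR x hx)).mul_left hab'
  have hext : ∀ d ∈ Q, d ∈ R → Commute d a → Commute d b → d = 1 := by
    intro d hd hd' hda hdb
    rcases h.snd.ctx.cent d fun x hx => by
      rcases hfour x hx with h1 | h1 | h1 | h1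
      · exact h.inter_commute hd hd' hx h1
      · simpa using hda.inv_right.mul_right (h.inter_commute hd hd' (mul_mem ha hx) h1)
      · simpa using hdb.inv_right.mul_right (h.inter_commute hd hd' (mul_mem hb hx) h1)
      · simpa [mul_assoc] using (hda.mul_right hdb).inv_right.mul_right
          (h.inter_commute hd hd' (mul_mem (mul_mem ha hb) hx) h1) with e | e
    · exact e
    · exact absurd (e ▸ hd) h.not_fst
  -- the two values
  obtain ⟨-, da, hdaQ, hdaR, hra⟩ := h.shape hy hy2 hyw ha haz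
  obtain ⟨-, db, hdbQ, hdbR, hrb⟩ := h.shape hy hy2 hyw hb hbz
  have hrmul : ∀ p q : G, (p * q)⁻¹ * (z * (p * q) * z) =
      (q⁻¹ * (p⁻¹ * (z * p * z)) * q) * (q⁻¹ * (z * q * z)) := fun p q => by
    have e : z * (p * q) * z = (z * p * z) * (z * q * z) := by
      calc z * (p * q) * z = z * p * (1 * q) * z := by group
        _ = z * p * ((z * z) * q) * z := by rw [h.fst.ctx.sq_z]
        _ = _ := by group
    rw [e]; group
  have hconj : ∀ {p q d d' : G}, p ∈ R → q ∈ R → d ∈ R → p⁻¹ * (z * p * z) = w * d →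
      q⁻¹ * (z * q * z) = w * d' → (Commute d q → (p * q)⁻¹ * (z * (p * q) * z) = d * d') ∧
      (¬ Commute d q → (p * q)⁻¹ * (z * (p * q) * z) = w * (d * d')) := by
    intro p q d d' hp hq hd e1 e2
    have hwq : q⁻¹ * w * q = w := by rw [mul_assoc, (h.snd.ctx.central q hq).eq, inv_mul_cancel_left]
    have e : (p * q)⁻¹ * (z * (p * q) * z) = w * (q⁻¹ * d * q) * (w * d') := by
      rw [hrmul, e1, e2]
      calc q⁻¹ * (w * d) * q * (w * d') = (q⁻¹ * w * q) * (q⁻¹ * d * q) * (w * d') := by group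
        _ = _ := by rw [hwq]
    constructor
    · intro hc
      rw [e, show q⁻¹ * d * q = d by rw [mul_assoc, hc.eq, inv_mul_cancel_left]]
      calc w * d * (w * d') = w * (d * w) * d' := by simp only [mul_assoc]
        _ = d * d' := by rw [← (h.snd.ctx.central d hd).eq, ← mul_assoc w w, h.snd.ctx.sq_z, one_mul]
    · intro hc
      have hq' : q⁻¹ * d * q = w * d := (h.snd.ctx.conj_cases' hq hd).resolve_left fun e' => hc (by
        show d * q = q * d
        calc d * q = q * (q⁻¹ * d * q) := by group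
          _ = _ := by rw [e'])
      rw [e, hq', ← mul_assoc w w, h.snd.ctx.sq_z, one_mul, ← mul_assoc, ← (h.snd.ctx.central d hd).eq,
        mul_assoc]
  have hdab : ¬ Commute da b := fun hc => habz (h.eq_one_of_mem (by
    rw [(hconj ha hb hdaR hra hrb).1 hc]; exact mul_mem hdaQ hdbQ))
  have hbaz : ¬ Commute (b * a) z := fun hc => habz (by
    have hzab : b * a = a * b ∨ b * a = w * (a * b) := by
      rcases h.snd.ctx.conj_cases hb ha with e | e
      · left; exact mul_inv_eq_iff_eq_mul.1 e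
      · right; rw [← mul_assoc]; exact mul_inv_eq_iff_eq_mul.1 e
    rcases hzab with e | e
    · rwa [e] at hc
    · rw [e] at hc
      have := h.comm.symm.mul_left hc
      rwa [← mul_assoc, h.snd.ctx.sq_z, one_mul] at this)
  have hdba : ¬ Commute db a := fun hc => hbaz (h.eq_one_of_mem (by
    rw [(hconj hb ha hdbR hrb hra).1 hc]; exact mul_mem hdbQ hdaQ))
  have hself : ∀ {p d : G}, p ∈ R → d ∈ Q → d ∈ R → p⁻¹ * (z * p * z) = w * d → Commute d p := by
    intro p d hp hd hd' e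
    by_contra hc
    have h1 := (hconj hp hp hd' e e).2 hc
    rw [h.inter_sq hd hd', mul_one] at h1
    have h2 : Commute (p * p) z := h.snd.ctx.commute_sq hp z h.comm.symm
    rw [mul_assoc z (p * p), h2.eq, ← mul_assoc z, h.fst.ctx.sq_z, one_mul, inv_mul_cancel] at h1
    exact h.snd.ctx.ne_one h1.symm
  have hdaa := hself ha hdaQ hdaR hra
  have hdbb := hself hb hdbQ hdbR hrb
  refine ⟨a, ha, b, hb, haz, hbz, habz, fun d hd hd' hd1 => ?_⟩
  have heq : ∀ {d' : G}, d' ∈ Q → d' ∈ R → Commute (d * d') a → Commute (d * d') b → d = d' := by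
    intro d' h1 h2 h3 h4
    have := hext (d * d') (mul_mem hd h1) (mul_mem hd' h2) h3 h4
    rw [eq_inv_of_mul_eq_one_left this, inv_eq_of_mul_eq_one_right (h.inter_sq h1 h2)]
  by_cases hca : Commute d a
  · have hcb : ¬ Commute d b := fun hcb => hd1 (hext d hd hd' hca hcb)
    refine ⟨a, ha, haz, ?_⟩
    rw [hra, heq hdaQ hdaR (hca.mul_left hdaa) (h.snd.ctx.commute_mul_of_not hd' hdaR hb hcb hdab)]
  by_cases hcb : Commute d b
  · refine ⟨b, hb, hbz, ?_⟩
    rw [hrb, heq hdbQ hdbR (h.snd.ctx.commute_mul_of_not hd' hdbR ha hca hdba) (hcb.mul_left hdbb)]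
  · refine ⟨a * b, mul_mem ha hb, habz, ?_⟩
    rw [(hconj ha hb hdaR hra hrb).2 hdab]
    congr 1
    refine (heq (mul_mem hdaQ hdbQ) (mul_mem hdaR hdbR) ?_ ?_).symm
    · refine h.snd.ctx.commute_mul_of_not hd' (mul_mem hdaR hdbR) ha hca fun hc => hdba ?_
      simpa using hdaa.inv_left.mul_left hc
    · refine h.snd.ctx.commute_mul_of_not hd' (mul_mem hdaR hdbR) hb hcb fun hc => hdab ?_
      simpa using hc.mul_left hdbb.inv_left

end Cross

/-- The key vanishing. -/
theorem Unf.map_sqrt_eq_one {Q : Subgroup G} {z : G} (hU : Unf Q z) {A : Type*} [CommGroup A]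
    (hA : Nat.card A = 2) (φ : Subgroup.centralizer ({z} : Set G) →* A)
    (hφ : ∀ x (hx : x ∈ Q), φ ⟨x, hU.ctx.le_centralizer' hx⟩ = 1)
    {k y : G} (hk : k * z * k⁻¹ ≠ z) (hkz : Commute z (k * z * k⁻¹)) (hy : y ∈ Q) (hy2 : y * y = z)
    (hm : k⁻¹ * y * k ∈ Subgroup.centralizer ({z} : Set G)) : φ ⟨_, hm⟩ = 1 := by
  set w := k * z * k⁻¹ with hw
  set R := Q.map (MulAut.conj k).toMonoidHom with hR
  have hmH : ∀ {g : G}, g ∈ Subgroup.centralizer ({z} : Set G) ↔ Commute g z :=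
    Subgroup.mem_centralizer_singleton_iff
  have hcj : ∀ {g a : G}, a⁻¹ * g * a ∈ Subgroup.centralizer ({z} : Set G) ↔ Commute g (a * z * a⁻¹) :=
    fun {g a} => by
      rw [hmH, ← Commute.conj_iff a, show a * (a⁻¹ * g * a) * a⁻¹ = g by group]
  have hcross : Cross Q z R w := by
    refine ⟨hU, hU.conj k, hkz, fun h => hk (hU.uniq k h), fun h => ?_⟩
    obtain ⟨b, hb, e⟩ := h
    have e' : k * b * k⁻¹ = z := e
    have hb' : k⁻¹ * z * k⁻¹⁻¹ = b := by rw [← e']; group
    have := hU.uniq k⁻¹ (hb' ▸ hb)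
    refine hk ?_
    rw [hw]
    nth_rewrite 1 [← this]
    group
  have hyw : Commute y w := hcj.1 hm
  set π := φ ⟨k⁻¹ * y * k, hm⟩ with hπ
  obtain ⟨a, ha, b, hb, haz, hbz, habz, -⟩ := hcross.orbit hy hy2 hyw
  set ρ : G → G := fun x => x⁻¹ * (y⁻¹ * x * y) with hρ
  have hρH : ∀ x ∈ R, ρ x ∈ Subgroup.centralizer ({z} : Set G) := fun x hx =>
    hmH.2 (hcross.rho_commute hy hy2 hyw hx)
  obtain ⟨hsqa, -⟩ := hcross.shape hy hy2 hyw ha haz
  have hyQR := hcross.symm.orbit (hcross.comm_mem hyw ha) hsqa (hcross.rho_commute hy hy2 hyw ha)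
  obtain ⟨-, -, -, -, -, -, -, hfull⟩ := hyQR
  -- the value at each moved element is `π`
  have hval : ∀ x (hx : x ∈ R), ¬ Commute x z → φ ⟨ρ x, hρH x hx⟩ = π := by
    intro x hx hxz
    obtain ⟨-, d, hdQ, hdR, hr⟩ := hcross.shape hy hy2 hyw hx hxz
    have hd1 : d ≠ 1 := fun e => by
      -- otherwise the three moved classes would not be distinct
      subst e
      rw [mul_one] at hr
      obtain ⟨p, hp, hpz, hpx⟩ : ∃ p ∈ R, ¬ Commute p z ∧ ¬ Commute (x * p) z := by
        by_contra hcon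
        push Not at hcon
        exact hcross.not_snd (hcross.snd.ctx.mem_of_hyperplane hcross.comm hU.ctx.sq_z hx hxz
          fun q hq => (Classical.em (Commute q z)).imp_right (hcon q hq))
      obtain ⟨-, d', hd'Q, -, hr'⟩ := hcross.shape hy hy2 hyw hp hpz
      refine hpx (hcross.eq_one_of_mem ?_)
      have e2 : z * (x * p) * z = (z * x * z) * (z * p * z) := by
        calc z * (x * p) * z = z * x * (1 * p) * z := by group
          _ = z * x * ((z * z) * p) * z := by rw [hU.ctx.sq_z]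
          _ = _ := by group
      have e : (x * p)⁻¹ * (z * (x * p) * z) = d' := by
        rw [e2, show (x * p)⁻¹ * (z * x * z * (z * p * z)) =
          (p⁻¹ * (x⁻¹ * (z * x * z)) * p) * (p⁻¹ * (z * p * z)) by group, hr, hr',
          show p⁻¹ * w * p = w by rw [mul_assoc, (hcross.snd.ctx.central p hp).eq, inv_mul_cancel_left],
          ← mul_assoc, hcross.snd.ctx.sq_z, one_mul]
      exact e ▸ hd'Q
    -- `x z x⁻¹` is the conjugate `s w s⁻¹`
    obtain ⟨s, hs, -, hsr⟩ := hfull d hdR hdQ hd1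
    have hzd : Commute z d := hU.ctx.central d hdQ
    have hwd : Commute w d := hcross.snd.ctx.central d hdR
    have e1 : x⁻¹ * z * x = w * d * z := by
      calc x⁻¹ * z * x = x⁻¹ * (z * x * z) * z⁻¹ := by group
        _ = _ := by rw [hr, hU.ctx.inv_z]
    have e2 : x * z * x⁻¹ = w * d * z := by
      calc x * z * x⁻¹ = (x * x) * (x⁻¹ * z * x) * (x * x)⁻¹ := by group
        _ = (x * x) * (w * d * z) * (x * x)⁻¹ := by rw [e1]
        _ = _ := by
          rw [((hcross.snd.ctx.commute_sq hx _ ((Commute.refl w).mul_right hwd |>.mul_right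
            hkz.symm)) : Commute (x * x) (w * d * z)).eq, mul_inv_cancel_right]
    have e3 : s⁻¹ * w * s = w * d * z := by
      calc s⁻¹ * w * s = s⁻¹ * (w * s * w) * w⁻¹ := by group
        _ = z * d * w := by rw [hsr, hcross.snd.ctx.inv_z]
        _ = _ := by
          rw [hzd.eq, mul_assoc, hkz.eq, ← mul_assoc, ← hwd.eq]
    have e4 : s * w * s⁻¹ = w * d * z := by
      calc s * w * s⁻¹ = (s * s) * (s⁻¹ * w * s) * (s * s)⁻¹ := by group
        _ = (s * s) * (w * d * z) * (s * s)⁻¹ := by rw [e3]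
        _ = _ := by
          rw [((hU.ctx.commute_sq hs _ (hkz.mul_right hzd |>.mul_right (Commute.refl z))) :
            Commute (s * s) (w * d * z)).eq, mul_inv_cancel_right]
    have hyT : Commute y (w * d * z) :=
      (hyw.mul_right (((hcross.symm).inter_commute hdR hdQ hy hyw).symm)).mul_right (hU.ctx.central y hy).symm
    have hmem : x⁻¹ * y⁻¹ * x ∈ Subgroup.centralizer ({z} : Set G) := hcj.2 (by rw [e2]; exact hyT.inv_left)
    have hsk : (s * k)⁻¹ * y * (s * k) ∈ Subgroup.centralizer ({z} : Set G) := hcj.2 (by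
      rw [show s * k * z * (s * k)⁻¹ = s * w * s⁻¹ by rw [hw]; group, e4]; exact hyT)
    have hxk : x⁻¹ * (s * k) ∈ Subgroup.centralizer ({z} : Set G) := hmH.2 (by
      have : x * z * x⁻¹ = (s * k) * z * (s * k)⁻¹ := by rw [e2, ← e4, hw]; group
      show x⁻¹ * (s * k) * z = z * (x⁻¹ * (s * k))
      calc x⁻¹ * (s * k) * z = x⁻¹ * ((s * k) * z * (s * k)⁻¹) * (s * k) := by group
        _ = _ := by rw [← this]; group)
    have v1 : φ ⟨ρ x, hρH x hx⟩ = φ ⟨_, hmem⟩ := by
      have e : (⟨ρ x, hρH x hx⟩ : Subgroup.centralizer ({z} : Set G)) =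
          ⟨_, hmem⟩ * ⟨y, hU.ctx.le_centralizer' hy⟩ := Subtype.ext (by simp only [hρ, Subgroup.coe_mul]; group)
      rw [e, map_mul, hφ y hy, mul_one]
    have v2 : φ ⟨_, hmem⟩ = φ ⟨_, hsk⟩ := by
      have e : (⟨_, hmem⟩ : Subgroup.centralizer ({z} : Set G)) =
          ⟨_, hxk⟩ * (⟨_, hsk⟩ : Subgroup.centralizer ({z} : Set G))⁻¹ * (⟨_, hxk⟩ : Subgroup.centralizer ({z} : Set G))⁻¹ :=
        Subtype.ext (by simp only [Subgroup.coe_mul, Subgroup.coe_inv]; group)
      rw [e, map_mul, map_mul, map_inv, map_inv, mul_right_comm, mul_inv_cancel, one_mul,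
        inv_eq_of_mul_eq_one_right (two_cases hA _ 1).1]
    have v3 : φ ⟨_, hsk⟩ = π := by
      rcases hU.ctx.conj_cases' hs hy with e | e
      · rw [hπ]
        refine congrArg φ (Subtype.ext ?_)
        show (s * k)⁻¹ * y * (s * k) = k⁻¹ * y * k
        calc (s * k)⁻¹ * y * (s * k) = k⁻¹ * (s⁻¹ * y * s) * k := by group
          _ = _ := by rw [e]
      · have hzz : k⁻¹ * z * k ∈ Subgroup.centralizer ({z} : Set G) := hcj.2 hkz
        have hz1 : φ ⟨_, hzz⟩ = 1 := by
          have e' : (⟨_, hzz⟩ : Subgroup.centralizer ({z} : Set G)) = ⟨_, hm⟩ * ⟨_, hm⟩ := Subtype.ext (by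
            show k⁻¹ * z * k = k⁻¹ * y * k * (k⁻¹ * y * k)
            rw [← hy2]; group)
          rw [e', map_mul]; exact (two_cases hA _ 1).1
        have e' : (⟨_, hsk⟩ : Subgroup.centralizer ({z} : Set G)) = ⟨_, hzz⟩ * ⟨_, hm⟩ := Subtype.ext (by
          show (s * k)⁻¹ * y * (s * k) = k⁻¹ * z * k * (k⁻¹ * y * k)
          calc (s * k)⁻¹ * y * (s * k) = k⁻¹ * (s⁻¹ * y * s) * k := by group
            _ = _ := by rw [e]; group)
        rw [e', map_mul, hz1, one_mul]
    rw [v1, v2, v3]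
  -- additivity
  have hva := hval a ha haz
  have hvb := hval b hb hbz
  have hvab := hval (a * b) (mul_mem ha hb) habz
  have hwH : w ∈ Subgroup.centralizer ({z} : Set G) := hmH.2 hkz.symm
  have hw1 : φ ⟨w, hwH⟩ = 1 := by
    have e : (⟨w, hwH⟩ : Subgroup.centralizer ({z} : Set G)) = ⟨ρ a, hρH a ha⟩ * ⟨ρ a, hρH a ha⟩ :=
      Subtype.ext hsqa.symm
    rw [e, map_mul]; exact (two_cases hA _ 1).1
  have hmul : φ ⟨ρ (a * b), hρH _ (mul_mem ha hb)⟩ = π * π := by
    have e0 : ρ (a * b) = (b⁻¹ * ρ a * b) * ρ b := by simp only [hρ]; group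
    rcases hcross.snd.ctx.conj_cases' hb (hcross.comm_mem hyw ha) with e | e
    · have e' : (⟨ρ (a * b), hρH _ (mul_mem ha hb)⟩ : Subgroup.centralizer ({z} : Set G)) =
          ⟨ρ a, hρH a ha⟩ * ⟨ρ b, hρH b hb⟩ := Subtype.ext (by
        show ρ (a * b) = ρ a * ρ b
        rw [e0, e])
      rw [e', map_mul, hva, hvb]
    · have e' : (⟨ρ (a * b), hρH _ (mul_mem ha hb)⟩ : Subgroup.centralizer ({z} : Set G)) =
          ⟨w, hwH⟩ * ⟨ρ a, hρH a ha⟩ * ⟨ρ b, hρH b hb⟩ := Subtype.ext (by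
        show ρ (a * b) = w * ρ a * ρ b
        rw [e0, e])
      rw [e', map_mul, map_mul, hw1, one_mul, hva, hvb]
  rw [hvab, (two_cases hA π 1).1] at hmul
  exact hmul

end Cfsg.Lib.Extra
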