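import Mathlib
import Cfsg.Prelude.Def_MonsterType
import Cfsg.Agent.Lib.Core.Cores
import Cfsg.Agent.Lib.PGroup.Basic

/-!
# The large extraspecial subgroup of an affine general linear group over the field with two elements
-/

set_option autoImplicit false

namespace Cfsg.Lib.Extra.Affine

open Cfsg
open scoped commutatorElement

theorem zmod2_eq_one : ∀ a : ZMod 2, a ≠ 0 → a = 1 := by decide

theorem zmod2_cases : ∀ a : ZMod 2, a = 0 ∨ a = 1 := by decide

/-! ## Linear algebra over the field with two elements -/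

section Linear

variable {V : Type*} [AddCommGroup V] [Module (ZMod 2) V]

theorem exists_functional (v : V) (hv : v ≠ 0) : ∃ φ : Module.Dual (ZMod 2) V, φ v = 1 := by
  haveI : Fact (Nat.Prime 2) := ⟨Nat.prime_two⟩
  obtain ⟨φ, hφ⟩ : ∃ φ : Module.Dual (ZMod 2) V, φ v ≠ 0 := by
    by_contra h
    push Not at h
    exact hv ((Module.forall_dual_apply_eq_zero_iff (ZMod 2) v).1 h)
  exact ⟨φ, zmod2_eq_one _ hφ⟩

/-- The non-zero vectors form one orbit. -/
theorem exists_linearEquiv {v w : V} (hv : v ≠ 0) (hw : w ≠ 0) :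
    ∃ L : V ≃ₗ[ZMod 2] V, L v = w := by
  obtain ⟨φ, hφv, hφw⟩ : ∃ φ : Module.Dual (ZMod 2) V, φ v = 1 ∧ φ w = 1 := by
    obtain ⟨f, hf⟩ := exists_functional v hv
    obtain ⟨g, hg⟩ := exists_functional w hw
    rcases zmod2_cases (f w) with h | h
    · rcases zmod2_cases (g v) with h' | h'
      · exact ⟨f + g, by simp [hf, h'], by simp [hg, h]⟩
      · exact ⟨g, h', hg⟩
    · exact ⟨f, hf, h⟩
  let L : V →ₗ[ZMod 2] V := LinearMap.id + φ.smulRight (w - v)
  have hL : ∀ x, L x = x + φ x • (w - v) := fun x => rfl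
  have hinv : L.comp L = LinearMap.id := LinearMap.ext fun x => by
    rw [LinearMap.comp_apply, hL, hL, map_add, map_smul, map_sub, hφv, hφw, sub_self, smul_zero,
      add_zero, add_assoc, ← add_smul, CharTwo.add_self_eq_zero, zero_smul, add_zero]
    rfl
  exact ⟨LinearEquiv.ofLinearMap L L hinv hinv, by
    show L v = w
    rw [hL, hφv, one_smul, add_sub_cancel]⟩

/-- A normal two-subgroup of the full linear group is trivial. -/
theorem eq_bot_of_normal_two [Finite V] (R : Subgroup (V ≃ₗ[ZMod 2] V)) [R.Normal]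
    (hR : IsPGroup 2 R) : R = ⊥ := by
  haveI : Fact (Nat.Prime 2) := ⟨Nat.prime_two⟩
  classical
  rw [eq_bot_iff]
  intro r hr
  by_cases hV : ∀ v : V, v = 0
  · exact Subgroup.mem_bot.2 (LinearEquiv.ext fun v => by rw [hV (r v)]; exact (hV v).symm)
  push Not at hV
  obtain ⟨v0, hv0⟩ := hV
  letI : MulAction R V := MulAction.compHom V (R.subtype : R →* (V ≃ₗ[ZMod 2] V))
  have hdvd : 2 ∣ Nat.card V := by
    have e : ({v0} : Set V).Nonempty := ⟨v0, rfl⟩
    have h2 : addOrderOf v0 = 2 := addOrderOf_eq_prime (by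
      rw [two_nsmul, ← two_smul (ZMod 2) v0, show (2 : ZMod 2) = 0 from rfl, zero_smul]) hv0
    exact h2 ▸ addOrderOf_dvd_natCard v0
  obtain ⟨v, hv, hne⟩ := hR.exists_fixed_point_of_prime_dvd_card_of_fixed_point V hdvd (a := 0)
    (fun s => show (s : V ≃ₗ[ZMod 2] V) 0 = 0 from map_zero _)
  refine Subgroup.mem_bot.2 (LinearEquiv.ext fun w => ?_)
  by_cases hw : w = 0
  · rw [hw, map_zero, map_zero]
  obtain ⟨L, rfl⟩ := exists_linearEquiv (Ne.symm hne) hw
  have h := hv ⟨L⁻¹ * r * L, by simpa using (inferInstance : R.Normal).conj_mem r hr L⁻¹⟩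
  have h' : L⁻¹ (r (L v)) = v := h
  have h'' : L (L.symm (r (L v))) = L v := congrArg L h'
  rw [LinearEquiv.apply_symm_apply] at h''
  exact h''

end Linear

variable {n : ℕ}

/-- The translation part. -/
def tEquiv (b : Fin n → ZMod 2) :
    (ZMod 2 × (Fin n → ZMod 2)) ≃ₗ[ZMod 2] (ZMod 2 × (Fin n → ZMod 2)) where
  toFun p := (p.1 + dotProduct b p.2, p.2)
  invFun p := (p.1 + dotProduct b p.2, p.2)
  map_add' p q := by
    simp only [Prod.fst_add, Prod.snd_add, dotProduct_add, Prod.mk_add_mk]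
    congr 1
    ring
  map_smul' c p := by
    simp only [Prod.smul_fst, Prod.smul_snd, dotProduct_smul, smul_eq_mul, RingHom.id_apply,
      Prod.smul_mk, mul_add]
  left_inv p := by simp [add_assoc, CharTwo.add_self_eq_zero]
  right_inv p := by simp [add_assoc, CharTwo.add_self_eq_zero]

theorem tEquiv_apply (b : Fin n → ZMod 2) (p : ZMod 2 × (Fin n → ZMod 2)) :
    tEquiv b p = (p.1 + dotProduct b p.2, p.2) := rfl

/-- The translations as a homomorphism. -/
def tHom : Multiplicative (Fin n → ZMod 2) →*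
    ((ZMod 2 × (Fin n → ZMod 2)) ≃ₗ[ZMod 2] (ZMod 2 × (Fin n → ZMod 2))) :=
  MonoidHom.mk' (fun b => tEquiv b.toAdd) fun b c => LinearEquiv.ext fun p => by
    show tEquiv (b.toAdd + c.toAdd) p = tEquiv b.toAdd (tEquiv c.toAdd p)
    simp only [tEquiv_apply, add_dotProduct]
    congr 1
    ring

/-- The linear part. -/
def dHom : ((Fin n → ZMod 2) ≃ₗ[ZMod 2] (Fin n → ZMod 2)) →*
    ((ZMod 2 × (Fin n → ZMod 2)) ≃ₗ[ZMod 2] (ZMod 2 × (Fin n → ZMod 2))) :=
  MonoidHom.mk' (fun A => (LinearEquiv.refl (ZMod 2) (ZMod 2)).prodCongr A) fun _ _ =>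
    LinearEquiv.ext fun _ => rfl

theorem dHom_apply (A : (Fin n → ZMod 2) ≃ₗ[ZMod 2] (Fin n → ZMod 2))
    (p : ZMod 2 × (Fin n → ZMod 2)) : dHom A p = (p.1, A p.2) := rfl

theorem exists_dot (f : (Fin n → ZMod 2) →ₗ[ZMod 2] ZMod 2) :
    ∃ b : Fin n → ZMod 2, ∀ w, f w = dotProduct b w := by
  classical
  refine ⟨fun i => f (Pi.single i 1), fun w => ?_⟩
  conv_lhs => rw [pi_eq_sum_univ' w]
  simp [dotProduct, mul_comm]

/-- The fixer of the first axis. -/
theorem decomp (L : (ZMod 2 × (Fin n → ZMod 2)) ≃ₗ[ZMod 2] (ZMod 2 × (Fin n → ZMod 2)))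
    (hL : L (1, 0) = (1, 0)) : ∃ b A, L = tHom (Multiplicative.ofAdd b) * dHom A := by
  have h0 : ∀ a : ZMod 2, L (a, 0) = (a, 0) := fun a => by
    have e : ((a, 0) : ZMod 2 × (Fin n → ZMod 2)) = a • (1, 0) := by simp
    rw [e, map_smul, hL]
  let A' : (Fin n → ZMod 2) →ₗ[ZMod 2] (Fin n → ZMod 2) :=
    (LinearMap.snd _ _ _).comp (L.toLinearMap.comp (LinearMap.inr _ _ _))
  have hinj : Function.Injective A' := by
    rw [injective_iff_map_eq_zero]
    intro w hw
    have e : L (0, w) = L ((L (0, w)).1, 0) := by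
      rw [h0]
      exact Prod.ext rfl hw
    exact congrArg Prod.snd (L.injective e)
  let A := LinearEquiv.ofInjectiveEndo A' hinj
  obtain ⟨b, hb⟩ := exists_dot
    ((LinearMap.fst _ _ _).comp (L.toLinearMap.comp ((LinearMap.inr _ _ _).comp A.symm.toLinearMap)))
  refine ⟨b, A, LinearEquiv.ext fun p => ?_⟩
  show L p = tEquiv b (dHom A p)
  rw [dHom_apply, tEquiv_apply, ← hb]
  obtain ⟨a, w⟩ := p
  rw [show ((a, w) : ZMod 2 × (Fin n → ZMod 2)) = (a, 0) + (0, w) by simp, map_add, h0]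
  refine Prod.ext ?_ ?_
  · simp
  · simp only [Prod.snd_add, Prod.mk_add_mk, add_zero, zero_add]
    rfl

/-! ## The group -/

section Group

variable {G : Type*} [Group G] [Finite G]

/-- Coordinates on an affine group. -/
theorem exists_coords (n : ℕ) (U M : Subgroup G) [U.Normal] (hU : Cfsg.IsElementaryAbelian 2 U)
    (hUcard : Nat.card ↥U = 2 ^ (n + 1))
    (hfaith : ∀ m ∈ M, (∀ u ∈ U, m * u * m⁻¹ = u) → m = 1)
    (hfull : ∀ φ : ↥U ≃* ↥U, ∃ m ∈ M, ∀ u : ↥U, ((φ u : ↥U) : G) = m * u * m⁻¹)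
    {z : G} (hzU : z ∈ U) (hz : z ≠ 1) :
    ∃ (ι : Multiplicative (ZMod 2 × (Fin n → ZMod 2)) →* G)
      (Φ : ((ZMod 2 × (Fin n → ZMod 2)) ≃ₗ[ZMod 2] (ZMod 2 × (Fin n → ZMod 2))) →* G),
      Function.Injective ι ∧ Function.Injective Φ ∧ ι.range = U ∧ Φ.range = M ∧
      ι (Multiplicative.ofAdd (1, 0)) = z ∧
      ∀ L p, Φ L * ι (Multiplicative.ofAdd p) * (Φ L)⁻¹ = ι (Multiplicative.ofAdd (L p)) := by
  haveI : Fact (Nat.Prime 2) := ⟨Nat.prime_two⟩
  letI : CommGroup U := { (inferInstance : Group U) with mul_comm := hU.1.is_comm.comm }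
  letI : Module (ZMod 2) (Additive U) := AddCommGroup.zmodModule fun x => by
    have := hU.2 _ (Additive.toMul x).2
    show Additive.ofMul ((Additive.toMul x) ^ 2) = 0
    rw [show (Additive.toMul x) ^ 2 = 1 from Subtype.ext this]
    rfl
  have hfr : Module.finrank (ZMod 2) (Additive U) = n + 1 := by
    have h := Module.natCard_eq_pow_finrank (K := ZMod 2) (V := Additive U)
    rw [Nat.card_zmod, show Nat.card (Additive U) = Nat.card U from rfl, hUcard] at h
    exact (Nat.pow_right_injective le_rfl h).symm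
  obtain ⟨e0⟩ : Nonempty (Additive U ≃ₗ[ZMod 2] ZMod 2 × (Fin n → ZMod 2)) :=
    FiniteDimensional.nonempty_linearEquiv_of_finrank_eq (by
      rw [hfr, Module.finrank_prod, Module.finrank_self, Module.finrank_fin_fun, add_comm])
  obtain ⟨L0, hL0⟩ := exists_linearEquiv (v := e0 (Additive.ofMul ⟨z, hzU⟩))
    (w := ((1, 0) : ZMod 2 × (Fin n → ZMod 2)))
    (fun h => hz (congrArg (fun x => ((Additive.toMul x : U) : G))
      (e0.map_eq_zero_iff.1 h)))
    (fun h => one_ne_zero (congrArg Prod.fst h))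
  let e := e0.trans L0
  let ιU : Multiplicative (ZMod 2 × (Fin n → ZMod 2)) ≃* U :=
    { toFun := fun p => Additive.toMul (e.symm p.toAdd)
      invFun := fun u => Multiplicative.ofAdd (e (Additive.ofMul u))
      left_inv := fun p => by simp
      right_inv := fun u => by simp
      map_mul' := fun p q => by simp [map_add] }
  have hι : Function.Injective (U.subtype.comp ιU.toMonoidHom) :=
    Subtype.val_injective.comp ιU.injective
  have hex : ∀ L : (ZMod 2 × (Fin n → ZMod 2)) ≃ₗ[ZMod 2] (ZMod 2 × (Fin n → ZMod 2)),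
      ∃ m ∈ M, ∀ p, m * (ιU (Multiplicative.ofAdd p) : G) * m⁻¹ =
        ιU (Multiplicative.ofAdd (L p)) := fun L => by
    obtain ⟨m, hm, h⟩ := hfull ((ιU.symm.trans (AddEquiv.toMultiplicative L.toAddEquiv)).trans ιU)
    refine ⟨m, hm, fun p => ?_⟩
    rw [← h]
    simp
  choose f hfM hf using hex
  have huniq : ∀ L m, m ∈ M → (∀ p, m * (ιU (Multiplicative.ofAdd p) : G) * m⁻¹ =
      ιU (Multiplicative.ofAdd (L p))) → f L = m := by
    intro L m hm h
    refine inv_mul_eq_one.1 (hfaith _ (mul_mem (inv_mem (hfM L)) hm) fun u hu => ?_)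
    obtain ⟨p, hp⟩ := ιU.surjective ⟨u, hu⟩
    have hu' : u = (ιU (Multiplicative.ofAdd p.toAdd) : G) := (congrArg Subtype.val hp).symm
    calc (f L)⁻¹ * m * u * ((f L)⁻¹ * m)⁻¹ = (f L)⁻¹ * (m * u * m⁻¹) * f L := by group
      _ = (f L)⁻¹ * (f L * u * (f L)⁻¹) * f L := by rw [hu', h, hf]
      _ = u := by group
  let Φ := MonoidHom.mk' f fun L K => (huniq (L * K) (f L * f K) (mul_mem (hfM L) (hfM K)) fun p => by
    calc f L * f K * (ιU (Multiplicative.ofAdd p) : G) * (f L * f K)⁻¹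
        = f L * (f K * (ιU (Multiplicative.ofAdd p) : G) * (f K)⁻¹) * (f L)⁻¹ := by group
      _ = _ := by rw [hf, hf]; rfl)
  refine ⟨U.subtype.comp ιU.toMonoidHom, Φ, hι, ?_, ?_, ?_, ?_, hf⟩
  · intro L K h
    refine LinearEquiv.ext fun p => Multiplicative.ofAdd.injective (hι ?_)
    show (ιU (Multiplicative.ofAdd (L p)) : G) = ιU (Multiplicative.ofAdd (K p))
    rw [← hf L p, ← hf K p, show f L = f K from h]
  · rw [MonoidHom.range_comp, MonoidHom.range_eq_top.2 ιU.surjective, ← MonoidHom.range_eq_map,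
      Subgroup.range_subtype]
  · refine le_antisymm (fun _ ⟨L, hL⟩ => hL ▸ hfM L) fun m hm => ?_
    let φ : U ≃* U := MulAut.conjNormal m
    refine ⟨(e.symm.toAddEquiv.trans ((MulEquiv.toAdditive φ).trans e.toAddEquiv)).toLinearEquiv
      (fun c x => ZMod.map_smul _ c x), huniq _ _ hm fun p => ?_⟩
    show m * (Additive.toMul (e.symm p) : U) * m⁻¹ =
      ((Additive.toMul (e.symm (e (Additive.ofMul (φ (Additive.toMul (e.symm p))))))) : U)
    rw [LinearEquiv.symm_apply_apply]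
    rfl
  · show ((Additive.toMul (e.symm (1, 0)) : U) : G) = z
    rw [← hL0]
    simp [e]

/-- The two-core of the centralizer of `z`, as a large extraspecial subgroup. -/
theorem main (hn : 1 ≤ n) (U M : Subgroup G) [U.Normal] (hU : Cfsg.IsElementaryAbelian 2 U)
    (hUcard : Nat.card ↥U = 2 ^ (n + 1)) (hUM : U ⊓ M = ⊥) (hUM' : U ⊔ M = ⊤)
    (hfaith : ∀ m ∈ M, (∀ u ∈ U, m * u * m⁻¹ = u) → m = 1)
    (hfull : ∀ φ : ↥U ≃* ↥U, ∃ m ∈ M, ∀ u : ↥U, ((φ u : ↥U) : G) = m * u * m⁻¹)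
    (Z : Subgroup G) (hZU : Z ≤ U) (hZ : Nat.card ↥Z = 2) (Q : Subgroup G)
    (hQ : Q = (Cfsg.pCore 2 ↥(Subgroup.centralizer (Z : Set G))).map
      (Subgroup.centralizer (Z : Set G)).subtype) :
    Cfsg.IsExtraspecial 2 ↥Q ∧ Nat.card ↥Q = 2 ^ (2 * n + 1) ∧
      (∃ E : Subgroup G, E ≤ Q ∧ Cfsg.IsElementaryAbelian 2 E ∧ Nat.card ↥E = 2 ^ (n + 1)) ∧
      Cfsg.IsLargeExtraspecial Q ∧
      ∃ K : Subgroup G, K ≤ Subgroup.centralizer (Z : Set G) ∧ Q ⊓ K = ⊥ ∧
        Q ⊔ K = Subgroup.centralizer (Z : Set G) ∧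
        Nonempty (↥K ≃* Matrix.GeneralLinearGroup (Fin n) (ZMod 2)) := by
  classical
  haveI : Fact (Nat.Prime 2) := ⟨Nat.prime_two⟩
  haveI : IsCyclic Z := isCyclic_of_prime_card hZ
  obtain ⟨z, hzgen⟩ := (Subgroup.isCyclic_iff_exists_zpowers_eq_top Z).1 inferInstance
  have hz2 : orderOf z = 2 := by rw [← Nat.card_zpowers, hzgen, hZ]
  have hz1 : z ≠ 1 := fun h => by rw [h, orderOf_one] at hz2; omega
  have hzU : z ∈ U := hZU (hzgen ▸ Subgroup.mem_zpowers z)
  obtain ⟨ι, Φ, hι, hΦ, hιr, hΦr, hιz, hact⟩ :=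
    exists_coords n U M hU hUcard hfaith hfull hzU hz1
  set C := Subgroup.centralizer (Z : Set G) with hCdef
  have hC : ∀ g, g ∈ C ↔ Commute g z := fun g => by
    rw [hCdef, ← hzgen, Subgroup.zpowers_eq_closure, Subgroup.centralizer_closure,
      Subgroup.mem_centralizer_singleton_iff]
    rfl
  -- notation for the standard elements
  let u : ZMod 2 × (Fin n → ZMod 2) → G := fun p => ι (Multiplicative.ofAdd p)
  let t : (Fin n → ZMod 2) → G := fun b => Φ (tHom (Multiplicative.ofAdd b))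
  have humul : ∀ p q, u p * u q = u (p + q) := fun p q => by
    show ι _ * ι _ = ι _
    rw [← map_mul, ← ofAdd_add]
  have htmul : ∀ b c, t b * t c = t (b + c) := fun b c => by
    show Φ _ * Φ _ = Φ _
    rw [← map_mul, ← map_mul, ← ofAdd_add]
  have huU : ∀ p, u p ∈ U := fun p => hιr ▸ ⟨_, rfl⟩
  have hUu : ∀ g ∈ U, ∃ p, g = u p := fun g hg => by
    rw [← hιr] at hg
    obtain ⟨p, rfl⟩ := hg
    exact ⟨p.toAdd, rfl⟩
  have huinj : ∀ p q, u p = u q → p = q := fun p q h => Multiplicative.ofAdd.injective (hι h)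
  have hzu : z = u (1, 0) := hιz.symm
  have hcomm_u : ∀ L p, Φ L * u p = u (L p) * Φ L := fun L p => by
    rw [show u (L p) = Φ L * u p * (Φ L)⁻¹ from (hact L p).symm, inv_mul_cancel_right]
  -- every element is `u p * Φ L`
  have hall : ∀ g : G, ∃ p L, g = u p * Φ L := fun g => by
    obtain ⟨a, ha, m, hm, rfl⟩ :=
      Subgroup.mem_sup_of_normal_left.1 (hUM' ▸ Subgroup.mem_top g : g ∈ U ⊔ M)
    obtain ⟨p, rfl⟩ := hUu a ha
    obtain ⟨L, rfl⟩ : m ∈ Φ.range := hΦr ▸ hm
    exact ⟨p, L, rfl⟩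
  have hsep : ∀ p L q K, u p * Φ L = u q * Φ K → p = q ∧ L = K := by
    intro p L q K h
    have h1 : (u q)⁻¹ * u p = Φ K * (Φ L)⁻¹ := by
      rw [eq_mul_inv_iff_mul_eq, mul_assoc, h, inv_mul_cancel_left]
    have h2 : (u q)⁻¹ * u p ∈ U ⊓ M :=
      Subgroup.mem_inf.2 ⟨mul_mem (inv_mem (huU q)) (huU p), by rw [h1, ← hΦr]; exact ⟨K * L⁻¹, by simp⟩⟩
    rw [hUM, Subgroup.mem_bot, inv_mul_eq_one] at h2
    refine ⟨(huinj _ _ h2).symm, hΦ ?_⟩
    rw [h2] at h
    exact mul_left_cancel h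
  have hcomm_z : ∀ p L, Commute (u p * Φ L) z ↔ L (1, 0) = (1, 0) := by
    intro p L
    have e1 : u p * Φ L * z = u (p + L (1, 0)) * Φ L := by
      rw [hzu, mul_assoc, hcomm_u, ← mul_assoc, humul]
    have e2 : z * (u p * Φ L) = u ((1, 0) + p) * Φ L := by rw [hzu, ← mul_assoc, humul]
    constructor
    · intro h
      have := (hsep _ _ _ _ (e1.symm.trans (h.eq.trans e2))).1
      rw [add_comm (1, (0 : Fin n → ZMod 2)) p] at this
      exact add_left_cancel this
    · intro h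
      show _ = _
      rw [e1, e2, h, add_comm]
  have hUC : U ≤ C := fun g hg => (hC g).2 (by
    exact congrArg Subtype.val (hU.1.is_comm.comm ⟨g, hg⟩ ⟨z, hzU⟩))
  let T : Subgroup G := (Φ.comp tHom).range
  have htT : ∀ b, t b ∈ T := fun b => ⟨_, rfl⟩
  let Q' := U ⊔ T
  have hQ' : ∀ g, g ∈ Q' ↔ ∃ p b, g = u p * t b := fun g => by
    rw [show Q' = U ⊔ T from rfl, Subgroup.mem_sup_of_normal_left]
    constructor
    · rintro ⟨a, ha, _, ⟨b, rfl⟩, rfl⟩
      obtain ⟨p, rfl⟩ := hUu a ha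
      exact ⟨p, b.toAdd, rfl⟩
    · rintro ⟨p, b, rfl⟩
      exact ⟨_, huU p, _, htT b, rfl⟩
  have hT1 : ∀ (b : Fin n → ZMod 2), tEquiv b ((1 : ZMod 2), (0 : Fin n → ZMod 2)) = (1, 0) :=
    fun b => by rw [tEquiv_apply, dotProduct_zero, add_zero]
  have hQ'C : Q' ≤ C := by
    intro g hg
    obtain ⟨p, b, rfl⟩ := (hQ' g).1 hg
    exact (hC _).2 ((hcomm_z p _).2 (hT1 b))
  have hUp : IsPGroup 2 U := PGroup.isPGroup_of_isElementaryAbelian hU
  have hQ'p : IsPGroup 2 Q' := by
    refine IsPGroup.to_sup_of_normal_left hUp ?_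
    intro g
    obtain ⟨b, hb⟩ := g.2
    refine ⟨1, Subtype.ext ?_⟩
    show (g : G) ^ 2 ^ 1 = 1
    rw [pow_one, ← hb, ← map_pow, show b ^ 2 = 1 from
      congrArg Multiplicative.ofAdd (funext fun i => by
        show (2 • b.toAdd) i = 0
        rw [Pi.smul_apply, two_nsmul, CharTwo.add_self_eq_zero]), map_one]
  -- conjugates of translations
  have hdconj : ∀ A b, ∃ b', Φ (dHom A) * t b * (Φ (dHom A))⁻¹ = t b' := by
    intro A b
    obtain ⟨b', hb'⟩ := exists_dot ({ toFun := fun w => dotProduct b (A.symm w)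
                                      map_add' := fun x y => by rw [map_add, dotProduct_add]
                                      map_smul' := fun c x => by
                                        rw [map_smul, dotProduct_smul]; rfl } :
      (Fin n → ZMod 2) →ₗ[ZMod 2] ZMod 2)
    refine ⟨b', ?_⟩
    show Φ (dHom A) * Φ _ * (Φ (dHom A))⁻¹ = Φ _
    rw [← map_inv, ← map_mul, ← map_mul, ← map_inv dHom]
    congr 1
    refine LinearEquiv.ext fun p => ?_
    show dHom A (tEquiv b (dHom A⁻¹ p)) = tEquiv b' p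
    rw [dHom_apply, dHom_apply, tEquiv_apply, tEquiv_apply, ← hb']
    refine Prod.ext rfl ?_
    exact A.apply_symm_apply p.2
  have hCdec : ∀ g ∈ C, ∃ q A, q ∈ Q' ∧ g = q * Φ (dHom A) := by
    intro g hg
    obtain ⟨p, L, rfl⟩ := hall g
    obtain ⟨b, A, rfl⟩ := decomp L ((hcomm_z p L).1 ((hC _).1 hg))
    exact ⟨u p * t b, A, (hQ' _).2 ⟨p, b, rfl⟩, by rw [map_mul, mul_assoc]⟩
  have hCn : ∀ g ∈ C, ∀ q ∈ Q', g * q * g⁻¹ ∈ Q' := by
    intro g hg q hq
    obtain ⟨q0, A, hq0, rfl⟩ := hCdec g hg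
    rw [show q0 * Φ (dHom A) * q * (q0 * Φ (dHom A))⁻¹ =
      q0 * (Φ (dHom A) * q * (Φ (dHom A))⁻¹) * q0⁻¹ by group]
    refine mul_mem (mul_mem hq0 ?_) (inv_mem hq0)
    obtain ⟨p, b, rfl⟩ := (hQ' q).1 hq
    obtain ⟨b', hb'⟩ := hdconj A b
    refine (hQ' _).2 ⟨dHom A p, b', ?_⟩
    calc Φ (dHom A) * (u p * t b) * (Φ (dHom A))⁻¹
        = Φ (dHom A) * u p * (Φ (dHom A))⁻¹ * (Φ (dHom A) * t b * (Φ (dHom A))⁻¹) := by group
      _ = _ := by rw [hb', hcomm_u, mul_inv_cancel_right]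
  have hd1 : ∀ A : (Fin n → ZMod 2) ≃ₗ[ZMod 2] (Fin n → ZMod 2),
      dHom A ((1 : ZMod 2), (0 : Fin n → ZMod 2)) = (1, 0) := fun A => by
    rw [dHom_apply, map_zero]
  have hdC : ∀ A, Φ (dHom A) ∈ C := fun A => by
    have h := (hcomm_z 0 (dHom A)).2 (hd1 A)
    have e : u 0 = 1 := map_one ι
    rw [e, one_mul] at h
    exact (hC _).2 h
  have hQQ' : Q = Q' := by
    refine le_antisymm ?_ ?_
    · rw [hQ]
      rintro _ ⟨r, hr, rfl⟩
      set R := Cfsg.pCore 2 ↥C with hRdef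
      let j : ((Fin n → ZMod 2) ≃ₗ[ZMod 2] (Fin n → ZMod 2)) →* C :=
        (Φ.comp dHom).codRestrict C hdC
      have hQR : ∀ q (hq : q ∈ Q'), (⟨q, hQ'C hq⟩ : C) ∈ R := fun q hq => by
        haveI : (Q'.subgroupOf C).Normal := ⟨fun a ha g => hCn g g.2 a ha⟩
        exact Cfsg.Lib.Core.le_pCore' (N := Q'.subgroupOf C) inferInstance
          (hQ'p.of_injective (Subgroup.subgroupOfEquivOfLe hQ'C).toMonoidHom
            (Subgroup.subgroupOfEquivOfLe hQ'C).injective) (show q ∈ Q' from hq)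
      obtain ⟨q, A, hq, hr'⟩ := hCdec r r.2
      have hjA : j A ∈ R := by
        have e : j A = (⟨q, hQ'C hq⟩ : C)⁻¹ * r := Subtype.ext (by
          show Φ (dHom A) = q⁻¹ * (r : G)
          rw [hr', inv_mul_cancel_left])
        rw [e]
        exact mul_mem (inv_mem (hQR q hq)) hr
      have hdinj : Function.Injective (dHom (n := n)) := fun A B h => LinearEquiv.ext fun w =>
        congrArg Prod.snd (LinearEquiv.congr_fun h (0, w))
      have hjinj : Function.Injective j := fun A B h =>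
        hdinj (hΦ (congrArg Subtype.val h))
      have hbot := eq_bot_of_normal_two (R.comap j)
        ((Cfsg.Lib.Core.pCore_isPGroup 2 ↥C).comap_of_injective j hjinj)
      have hA : A = 1 := Subgroup.mem_bot.1 (hbot ▸ (show A ∈ R.comap j from hjA))
      show (r : G) ∈ Q'
      rw [hr', hA, map_one, map_one, mul_one]
      exact hq
    · rw [hQ]
      intro q hq
      haveI : (Q'.subgroupOf C).Normal := ⟨fun a ha g => hCn g g.2 a ha⟩
      exact ⟨⟨q, hQ'C hq⟩, Cfsg.Lib.Core.le_pCore' (N := Q'.subgroupOf C) inferInstance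
          (hQ'p.of_injective (Subgroup.subgroupOfEquivOfLe hQ'C).toMonoidHom
            (Subgroup.subgroupOfEquivOfLe hQ'C).injective) (show q ∈ Q' from hq), rfl⟩
  rw [hQQ']
  clear hQ hQQ' Q
  -- the centralizer of `Q'`
  have hcent : ∀ g : G, (∀ a ∈ Q', Commute g a) → g = 1 ∨ g = z := by
    intro g hg
    obtain ⟨p, L, rfl⟩ := hall g
    have hL : L = 1 := LinearEquiv.ext fun q => by
      have h := (hg (u q) (Subgroup.mem_sup_left (huU q))).eq
      rw [mul_assoc, hcomm_u, ← mul_assoc, humul, ← mul_assoc, humul] at h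
      have := (hsep _ _ _ _ h).1
      rw [add_comm q p] at this
      exact add_left_cancel this
    subst hL
    rw [map_one, mul_one] at hg ⊢
    have hp : p.2 = 0 := by
      funext i
      have h := (hg (t (Pi.single i 1)) (Subgroup.mem_sup_right (htT _))).eq
      rw [show t (Pi.single i 1) * u p = u (tEquiv (Pi.single i 1) p) * t (Pi.single i 1) from
        hcomm_u _ _] at h
      have h1 := congrArg Prod.fst (huinj _ _ (mul_right_cancel h))
      rw [tEquiv_apply] at h1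
      have h2 : p.1 + 0 = p.1 + dotProduct (Pi.single i 1) p.2 := by rw [add_zero]; exact h1
      simpa using (add_left_cancel h2).symm
    obtain ⟨a, w⟩ := p
    dsimp only at hp
    subst hp
    rcases zmod2_cases a with rfl | rfl
    · exact Or.inl (map_one ι)
    · exact Or.inr hzu.symm
  have hzQ : z ∈ Q' := Subgroup.mem_sup_left hzU
  have hcz : ∀ a ∈ Q', Commute z a := fun a ha => ((hC a).1 (hQ'C ha)).symm
  have hcenter : (Subgroup.center Q').map Q'.subtype = Z := by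
    refine le_antisymm ?_ ?_
    · rintro _ ⟨c, hc, rfl⟩
      rcases hcent c (fun a ha => congrArg Subtype.val
        (Subgroup.mem_center_iff.1 hc ⟨a, ha⟩).symm) with h | h
      · rw [show Q'.subtype c = 1 from h]; exact one_mem _
      · rw [show Q'.subtype c = z from h, ← hzgen]; exact Subgroup.mem_zpowers z
    · rw [← hzgen, Subgroup.zpowers_le]
      exact ⟨⟨z, hzQ⟩, Subgroup.mem_center_iff.2 fun a =>
        Subtype.ext ((hcz a a.2).symm).eq, rfl⟩
  have hcard2 : Nat.card (Subgroup.center Q') = 2 := by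
    rw [← Subgroup.card_map_of_injective Q'.subtype_injective (K := Subgroup.center Q'), hcenter, hZ]
  -- commutators and squares
  have hsqC : ∀ g : Q', g ^ 2 ∈ Subgroup.center Q' := by
    intro g
    obtain ⟨p, b, hpb⟩ := (hQ' g).1 g.2
    have e : ((g ^ 2 : Q') : G) = u (dotProduct b p.2, 0) := by
      push_cast
      rw [hpb, pow_two]
      calc u p * t b * (u p * t b) = u p * (t b * u p) * t b := by simp only [mul_assoc]
        _ = u p * (u (tEquiv b p) * t b) * t b := by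
          rw [show t b * u p = u (tEquiv b p) * t b from hcomm_u _ _]
        _ = u (p + tEquiv b p) * t (b + b) := by
          rw [← htmul, ← humul]; simp only [mul_assoc]
        _ = u (dotProduct b p.2, 0) := by
          rw [show b + b = 0 from funext fun i => CharTwo.add_self_eq_zero _,
            show t 0 = 1 from map_one (Φ.comp tHom), mul_one]
          congr 1
          rw [tEquiv_apply]
          refine Prod.ext ?_ (funext fun i => CharTwo.add_self_eq_zero _)
          show p.1 + (p.1 + _) = _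
          rw [← add_assoc, CharTwo.add_self_eq_zero, zero_add]
    rcases zmod2_cases (dotProduct b p.2) with h | h <;> rw [h] at e
    · rw [show g ^ 2 = 1 from Subtype.ext (e.trans (map_one ι))]
      exact one_mem _
    · refine Subgroup.mem_center_iff.2 fun a => Subtype.ext ?_
      show (a : G) * ((g ^ 2 : Q') : G) = ((g ^ 2 : Q') : G) * a
      rw [e, ← hzu]
      exact ((hcz a a.2).symm).eq
  have hcommC : commutator Q' ≤ Subgroup.center Q' := by
    rw [commutator_def, Subgroup.commutator_le]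
    intro a _ b _
    have e : ⁅a, b⁆ = (a * b) ^ 2 * ((b⁻¹ * (a ^ 2)⁻¹ * b) * (b ^ 2)⁻¹) := by
      rw [commutatorElement_def, pow_two, pow_two, pow_two]; group
    rw [e]
    refine mul_mem (hsqC _) (mul_mem ?_ (inv_mem (hsqC _)))
    rw [mul_assoc, ← Subgroup.mem_center_iff.1 (inv_mem (hsqC a)) b, inv_mul_cancel_left]
    exact inv_mem (hsqC a)
  have hco : commutator Q' = Subgroup.center Q' := by
    refine Subgroup.eq_of_le_of_card_ge hcommC ?_
    rw [hcard2]
    refine (Subgroup.one_lt_card_iff_ne_bot _).2 fun h => ?_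
    obtain ⟨b, hb⟩ : ∃ b : Fin n → ZMod 2, dotProduct b (Pi.single (⟨0, hn⟩ : Fin n) 1) = 1 :=
      ⟨Pi.single ⟨0, hn⟩ 1, by simp⟩
    have hm := Subgroup.commutator_mem_commutator
      (Subgroup.mem_top (⟨t b, Subgroup.mem_sup_right (htT b)⟩ : Q'))
      (Subgroup.mem_top (⟨u (0, Pi.single ⟨0, hn⟩ 1), Subgroup.mem_sup_left (huU _)⟩ : Q'))
    rw [← commutator_def, h, Subgroup.mem_bot, commutatorElement_eq_one_iff_mul_comm] at hm
    have hm' := congrArg Subtype.val hm
    have h3 : t b * u (0, Pi.single ⟨0, hn⟩ 1) = u (0, Pi.single ⟨0, hn⟩ 1) * t b := hm'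
    rw [show t b * u (0, Pi.single ⟨0, hn⟩ 1) =
      u (tEquiv b (0, Pi.single ⟨0, hn⟩ 1)) * t b from hcomm_u _ _] at h3
    have h4 := congrArg Prod.fst (huinj _ _ (mul_right_cancel h3))
    rw [tEquiv_apply, hb] at h4
    simp at h4
  have hE : Cfsg.IsExtraspecial 2 Q' :=
    ⟨⟨hQ'p, le_antisymm (PGroup.frattini_le_of_commutator_le_of_pow_mem hcommC hsqC)
      (hco ▸ PGroup.commutator_le_frattini hQ'p), hco⟩, hcard2⟩
  have hcardQ : Nat.card Q' = 2 ^ (2 * n + 1) := by
    have e : Nat.card Q' = Nat.card ((ZMod 2 × (Fin n → ZMod 2)) × (Fin n → ZMod 2)) := by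
      refine (Nat.card_eq_of_bijective
        (fun x => (⟨u x.1 * t x.2, (hQ' _).2 ⟨_, _, rfl⟩⟩ : Q')) ⟨fun x y h => ?_, fun g => ?_⟩).symm
      · obtain ⟨h1, h2⟩ := hsep _ _ _ _ (congrArg Subtype.val h)
        have h3 : x.2 = y.2 := funext fun i => by
          have := congrArg Prod.fst (LinearEquiv.congr_fun h2 ((0, Pi.single i 1)))
          simpa [tHom, tEquiv_apply] using this
        exact Prod.ext h1 h3
      · obtain ⟨p, b, h⟩ := (hQ' g).1 g.2
        exact ⟨(p, b), Subtype.ext h.symm⟩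
    rw [e, Nat.card_prod, Nat.card_prod, Nat.card_fun, Nat.card_zmod, Nat.card_eq_fintype_card,
      Fintype.card_fin]
    ring
  refine ⟨hE, hcardQ, ⟨U, le_sup_left, hU, hUcard⟩,
    ⟨hE, ?_, ?_, fun K hK hQK => ?_⟩, (Φ.comp dHom).range, ?_, ?_, ?_, ?_⟩
  · rw [hcenter]
    refine le_antisymm (fun g hg => ?_) fun g hg => Subgroup.mem_centralizer_iff.2 fun a ha => ?_
    · rcases hcent g (fun a ha => (Subgroup.mem_centralizer_iff.1 hg a ha).symm) with h | h
      · exact h.symm ▸ one_mem _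
      · rw [h, ← hzgen]; exact Subgroup.mem_zpowers z
    · rw [← hzgen, Subgroup.mem_zpowers_iff] at hg
      obtain ⟨k, rfl⟩ := hg
      exact ((hcz a ha).zpow_left k).symm.eq
  · rw [hcenter]
    intro g hg
    exact Subgroup.mem_normalizer_fintype fun q hq => hCn g hg q hq
  · rw [eq_bot_iff]
    intro k hk
    have hcop : ∀ a ∈ U, Commute k a := fun a ha => by
      have h1 : k * a * k⁻¹ * a⁻¹ ∈ U :=
        mul_mem ((inferInstance : U.Normal).conj_mem a ha k) (inv_mem ha)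
      have h2 : k * a * k⁻¹ * a⁻¹ ∈ K := by
        rw [mul_assoc, mul_assoc, ← mul_assoc a]
        exact mul_mem hk ((Subgroup.mem_normalizer_iff.1 (hQK (Subgroup.mem_sup_left ha)) _).1
          (inv_mem hk))
      have hd := Subgroup.inf_eq_bot_of_coprime (H := U) (K := K) (by
        rw [hUcard]; exact Nat.Coprime.pow_left _ (Nat.coprime_two_left.2 hK))
      have h3 : k * a * k⁻¹ * a⁻¹ ∈ U ⊓ K := ⟨h1, h2⟩
      rw [hd, Subgroup.mem_bot] at h3
      exact mul_inv_eq_iff_eq_mul.1 (mul_inv_eq_one.1 h3)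
    obtain ⟨p, L, rfl⟩ := hall k
    have hL : L = 1 := LinearEquiv.ext fun q => by
      have h := (hcop (u q) (huU q)).eq
      rw [mul_assoc, hcomm_u, ← mul_assoc, humul, ← mul_assoc, humul] at h
      have := (hsep _ _ _ _ h).1
      rw [add_comm q p] at this
      exact add_left_cancel this
    subst hL
    rw [map_one, mul_one] at hk ⊢
    have hd := Subgroup.inf_eq_bot_of_coprime (H := U) (K := K) (by
        rw [hUcard]; exact Nat.Coprime.pow_left _ (Nat.coprime_two_left.2 hK))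
    exact hd ▸ (⟨huU p, hk⟩ : u p ∈ U ⊓ K)
  · rintro _ ⟨A, rfl⟩
    exact hdC A
  · rw [eq_bot_iff]
    rintro g ⟨hg, A, rfl⟩
    obtain ⟨p, b, hpb⟩ := (hQ' _).1 hg
    have e : u 0 * Φ (dHom A) = u p * Φ (tHom (Multiplicative.ofAdd b)) := by
      rw [show u 0 = 1 from map_one ι, one_mul]; exact hpb
    have hA : A = 1 := LinearEquiv.ext fun w => by
      have := congrArg Prod.snd (LinearEquiv.congr_fun (hsep _ _ _ _ e).2 (0, w))
      exact this
    rw [hA, map_one]
    exact one_mem _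
  · refine le_antisymm (sup_le hQ'C (by rintro _ ⟨A, rfl⟩; exact hdC A)) fun g hg => ?_
    obtain ⟨q, A, hq, rfl⟩ := hCdec g hg
    exact mul_mem (Subgroup.mem_sup_left hq) (Subgroup.mem_sup_right ⟨A, rfl⟩)
  · have hinj : Function.Injective (Φ.comp (dHom (n := n))) := fun A B h => LinearEquiv.ext fun w =>
      congrArg Prod.snd (LinearEquiv.congr_fun (hΦ h) (0, w))
    exact ⟨(MonoidHom.ofInjective hinj).symm.trans
      (Matrix.GeneralLinearGroup.toLin.trans
        (LinearMap.GeneralLinearGroup.generalLinearEquiv (ZMod 2) (Fin n → ZMod 2))).symm⟩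

end Group

end Cfsg.Lib.Extra.Affine
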