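import Mathlib
import Cfsg.Prelude.Def_Transfer
import Cfsg.Agent.Lib.PGroup.Basic

/-!
# Extraspecial two-groups of both kinds from bilinear cocycles
-/

set_option autoImplicit false

namespace Cfsg.Lib.Extra

open Module
open scoped commutatorElement

variable {V : Type} [AddCommGroup V] [Module (ZMod 2) V]

/-- The central extension of `V` by `ZMod 2` given by a bilinear cocycle. -/
structure Cocycle (β : LinearMap.BilinForm (ZMod 2) V) where
  /-- The central coordinate. -/
  s : ZMod 2
  /-- The vector coordinate. -/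
  v : V

variable {β : LinearMap.BilinForm (ZMod 2) V}

theorem Cocycle.ext' {x y : Cocycle β} (h1 : x.s = y.s) (h2 : x.v = y.v) : x = y := by
  cases x
  cases y
  subst h1 h2
  rfl

instance : Mul (Cocycle β) := ⟨fun x y => ⟨x.s + y.s + β x.v y.v, x.v + y.v⟩⟩

instance : One (Cocycle β) := ⟨⟨0, 0⟩⟩

instance : Inv (Cocycle β) := ⟨fun x => ⟨-x.s + β x.v x.v, -x.v⟩⟩

theorem mul_s (x y : Cocycle β) : (x * y).s = x.s + y.s + β x.v y.v := rfl

theorem mul_v (x y : Cocycle β) : (x * y).v = x.v + y.v := rfl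

theorem one_s : (1 : Cocycle β).s = 0 := rfl

theorem one_v : (1 : Cocycle β).v = 0 := rfl

instance : Group (Cocycle β) :=
  Group.ofLeftAxioms
    (fun x y z => Cocycle.ext' (by simp only [mul_s, mul_v, map_add, LinearMap.add_apply]; ring)
      (by simp only [mul_v]; abel))
    (fun x => Cocycle.ext'
      (by simp only [mul_s, one_s, one_v, map_zero, LinearMap.zero_apply]; ring)
      (by simp only [mul_v, one_v]; abel))
    (fun x => Cocycle.ext'
      (by
        show -x.s + β x.v x.v + x.s + β (-x.v) x.v = 0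
        rw [map_neg, LinearMap.neg_apply]
        ring)
      (by show -x.v + x.v = 0; exact neg_add_cancel _))

/-- The projection to `V`. -/
def Cocycle.proj : Cocycle β →* Multiplicative V where
  toFun x := Multiplicative.ofAdd x.v
  map_one' := rfl
  map_mul' x y := by rw [mul_v, ofAdd_add]

/-- A cocycle group as a product. -/
def Cocycle.toProd : Cocycle β ≃ ZMod 2 × V where
  toFun x := (x.s, x.v)
  invFun p := ⟨p.1, p.2⟩
  left_inv _ := rfl
  right_inv _ := rfl

instance [Finite V] : Finite (Cocycle β) := Finite.of_equiv _ Cocycle.toProd.symm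

theorem card_cocycle : Nat.card (Cocycle β) = 2 * Nat.card V := by
  rw [Nat.card_congr Cocycle.toProd, Nat.card_prod, Nat.card_zmod]

theorem zmod2_add (v : V) : v + v = 0 := by
  rw [← two_smul (ZMod 2) v, show (2 : ZMod 2) = 0 from rfl, zero_smul]

theorem sq_eq (x : Cocycle β) : x ^ 2 = ⟨β x.v x.v, 0⟩ := by
  rw [pow_two]
  refine Cocycle.ext' ?_ (zmod2_add _)
  rw [mul_s, CharTwo.add_self_eq_zero, zero_add]

theorem commute_iff (x y : Cocycle β) : Commute x y ↔ β x.v y.v = β y.v x.v := by
  constructor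
  · intro h
    have e := congrArg Cocycle.s h.eq
    rw [mul_s, mul_s] at e
    linear_combination e
  · intro h
    refine Cocycle.ext' ?_ ?_
    · rw [mul_s, mul_s, h]; ring
    · rw [mul_v, mul_v, add_comm]

/-- A cocycle with non-degenerate commutator pairing gives an extraspecial group. -/
theorem isExtraspecial [Finite V] (hnd : ∀ v : V, (∀ w, β v w = β w v) → v = 0)
    (hne : ∃ v w : V, β v w ≠ β w v) : Cfsg.IsExtraspecial 2 (Cocycle β) := by
  haveI : Fact (Nat.Prime 2) := ⟨Nat.prime_two⟩
  have hP : IsPGroup 2 (Cocycle β) := fun x => ⟨2, by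
    rw [show 2 ^ 2 = 2 * 2 by norm_num, pow_mul, sq_eq, sq_eq]
    exact Cocycle.ext' (by simp [one_s]) rfl⟩
  have hcen : ∀ x, x ∈ Subgroup.center (Cocycle β) ↔ x.v = 0 := fun x => by
    rw [Subgroup.mem_center_iff]
    refine ⟨fun h => hnd _ fun w => ((commute_iff x ⟨0, w⟩).1 (h ⟨0, w⟩).symm), fun h g => ?_⟩
    exact ((commute_iff g x).2 (by rw [h, map_zero, map_zero, LinearMap.zero_apply])).eq
  have hcard : Nat.card (Subgroup.center (Cocycle β)) = 2 := by
    have e : Nat.card (Subgroup.center (Cocycle β)) = Nat.card (ZMod 2) :=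
      Nat.card_congr
        { toFun := fun x => x.1.s
          invFun := fun a => ⟨⟨a, 0⟩, (hcen _).2 rfl⟩
          left_inv := fun x => Subtype.ext (Cocycle.ext' rfl ((hcen x.1).1 x.2).symm)
          right_inv := fun _ => rfl }
    rw [e, Nat.card_zmod]
  have hcl : commutator (Cocycle β) ≤ Subgroup.center (Cocycle β) := by
    rw [commutator_def, Subgroup.commutator_le]
    intro a _ b _
    rw [hcen]
    exact congrArg Multiplicative.toAdd (show Cocycle.proj ⁅a, b⁆ = 1 by
      rw [map_commutatorElement, commutatorElement_eq_one_iff_mul_comm, mul_comm])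
  have hco : commutator (Cocycle β) = Subgroup.center (Cocycle β) := by
    refine Subgroup.eq_of_le_of_card_ge hcl ?_
    rw [hcard]
    obtain ⟨v, w, hvw⟩ := hne
    refine (Subgroup.one_lt_card_iff_ne_bot _).2 fun h => hvw ((commute_iff (⟨0, v⟩ : Cocycle β) ⟨0, w⟩).1 ?_)
    exact commutatorElement_eq_one_iff_commute.1 (Subgroup.mem_bot.1
      (h ▸ Subgroup.commutator_mem_commutator (Subgroup.mem_top _) (Subgroup.mem_top _)))
  refine ⟨⟨hP, le_antisymm ?_ ?_, hco⟩, hcard⟩
  · refine PGroup.frattini_le_of_commutator_le_of_pow_mem (p := 2) hcl fun g => ?_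
    rw [hcen, sq_eq]
  · rw [← hco]
    exact PGroup.commutator_le_frattini hP

/-- The lift of a totally singular subspace, with the centre. -/
theorem exists_elementary [Finite V] (W : Submodule (ZMod 2) V) (hW : ∀ u ∈ W, β u u = 0) :
    ∃ A : Subgroup (Cocycle β), Cfsg.IsElementaryAbelian 2 A ∧ Nat.card A = 2 * Nat.card W := by
  refine ⟨W.toAddSubgroup.toSubgroup.comap Cocycle.proj, ⟨⟨⟨fun a b => ?_⟩⟩, fun a ha => ?_⟩, ?_⟩
  · refine Subtype.ext ((commute_iff a.1 b.1).2 ?_)
    have ha : a.1.v ∈ W := a.2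
    have hb : b.1.v ∈ W := b.2
    have e := hW _ (add_mem ha hb)
    simp only [map_add, LinearMap.add_apply, hW _ ha, hW _ hb, zero_add, add_zero] at e
    exact ((CharTwo.add_eq_zero).mp e).symm
  · rw [sq_eq]
    exact Cocycle.ext' (hW _ ha) rfl
  · refine Eq.trans ?_ (show Nat.card (ZMod 2 × W) = 2 * Nat.card W by rw [Nat.card_prod, Nat.card_zmod])
    exact Nat.card_congr
      { toFun := fun x => (x.1.s, ⟨x.1.v, x.2⟩)
        invFun := fun p => ⟨⟨p.1, p.2.1⟩, p.2.2⟩
        left_inv := fun _ => rfl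
        right_inv := fun _ => rfl }

/-- An elementary abelian subgroup lies over a totally singular subspace. -/
theorem exists_subspace [Finite V] {A : Subgroup (Cocycle β)} (hA : Cfsg.IsElementaryAbelian 2 A) :
    ∃ W : Submodule (ZMod 2) V, (∀ u ∈ W, β u u = 0) ∧ Nat.card A ≤ 2 * Nat.card W := by
  let H : AddSubgroup V := Subgroup.toAddSubgroup' (A.map Cocycle.proj)
  let W : Submodule (ZMod 2) V := AddSubgroup.toZModSubmodule 2 H
  have hmem : ∀ u, u ∈ W ↔ ∃ a ∈ A, a.v = u := fun u => by
    constructor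
    · rintro ⟨a, ha, e⟩
      exact ⟨a, ha, congrArg Multiplicative.toAdd e⟩
    · rintro ⟨a, ha, rfl⟩
      exact ⟨a, ha, rfl⟩
  refine ⟨W, fun u hu => ?_, ?_⟩
  · obtain ⟨a, ha, rfl⟩ := (hmem u).1 hu
    have e := hA.2 a ha
    rw [sq_eq] at e
    exact congrArg Cocycle.s e
  · refine le_of_le_of_eq ?_ (show Nat.card (ZMod 2 × W) = 2 * Nat.card W by rw [Nat.card_prod, Nat.card_zmod])
    exact Nat.card_le_card_of_injective
      (fun x : A => (x.1.s, (⟨x.1.v, (hmem _).2 ⟨x.1, x.2, rfl⟩⟩ : W))) fun x y e => by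
        simp only [Prod.mk.injEq, Subtype.mk.injEq] at e
        exact Subtype.ext (Cocycle.ext' e.1 e.2)

/-! ## The model -/

/-- The cocycle: hyperbolic pairs, the marked ones anisotropic. -/
def pairForm {n : ℕ} (δ : Fin n → ZMod 2) :
    LinearMap.BilinForm (ZMod 2) (Fin n → ZMod 2 × ZMod 2) :=
  LinearMap.mk₂ (ZMod 2)
    (fun u w => ∑ i, ((u i).1 * (w i).2 + δ i * ((u i).1 * (w i).1 + (u i).2 * (w i).2)))
    (fun u u' w => by
      simp only [Pi.add_apply, Prod.fst_add, Prod.snd_add, ← Finset.sum_add_distrib]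
      exact Finset.sum_congr rfl fun i _ => by ring)
    (fun c u w => by
      simp only [Pi.smul_apply, Prod.smul_fst, Prod.smul_snd, smul_eq_mul, Finset.mul_sum]
      exact Finset.sum_congr rfl fun i _ => by ring)
    (fun u w w' => by
      simp only [Pi.add_apply, Prod.fst_add, Prod.snd_add, ← Finset.sum_add_distrib]
      exact Finset.sum_congr rfl fun i _ => by ring)
    (fun c u w => by
      simp only [Pi.smul_apply, Prod.smul_fst, Prod.smul_snd, smul_eq_mul, Finset.mul_sum]
      exact Finset.sum_congr rfl fun i _ => by ring)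

theorem pairForm_apply {n : ℕ} (δ : Fin n → ZMod 2) (u w : Fin n → ZMod 2 × ZMod 2) :
    pairForm δ u w =
      ∑ i, ((u i).1 * (w i).2 + δ i * ((u i).1 * (w i).1 + (u i).2 * (w i).2)) := rfl

theorem pairForm_nondeg {n : ℕ} (δ : Fin n → ZMod 2) (v : Fin n → ZMod 2 × ZMod 2)
    (h : ∀ w, pairForm δ v w = pairForm δ w v) : v = 0 := by
  funext i
  have e : ∀ p : ZMod 2 × ZMod 2, (v i).1 * p.2 = p.1 * (v i).2 := by
    intro p
    have h' := h (Function.update 0 i p)
    rw [pairForm_apply, pairForm_apply, Finset.sum_eq_single i (fun j _ hj => by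
      simp [Function.update_of_ne hj]) (fun hi => absurd (Finset.mem_univ i) hi),
      Finset.sum_eq_single i (fun j _ hj => by
      simp [Function.update_of_ne hj]) (fun hi => absurd (Finset.mem_univ i) hi),
      Function.update_self] at h'
    linear_combination h'
  have e1 := e (0, 1)
  have e2 := e (1, 0)
  simp only [mul_one, zero_mul, mul_zero, one_mul] at e1 e2
  exact Prod.ext e1 e2.symm

/-- The sign of an element of the field with two elements. -/
def sgn (a : ZMod 2) : ℤ := if a = 0 then 1 else -1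

theorem sgn_add : ∀ a b : ZMod 2, sgn (a + b) = sgn a * sgn b := by decide

theorem sgn_sum {ι : Type} (s : Finset ι) (f : ι → ZMod 2) :
    sgn (∑ i ∈ s, f i) = ∏ i ∈ s, sgn (f i) := by
  classical
  induction s using Finset.induction_on with
  | empty => rfl
  | insert a s ha ih => rw [Finset.sum_insert ha, Finset.prod_insert ha, sgn_add, ih]

theorem signSum {n : ℕ} (δ : Fin n → ZMod 2) :
    ∑ v, sgn (pairForm δ v v) = ∏ i, if δ i = 0 then (2 : ℤ) else -2 := by
  have h : ∀ i, (if δ i = 0 then (2 : ℤ) else -2) =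
      ∑ p : ZMod 2 × ZMod 2, sgn (p.1 * p.2 + δ i * (p.1 * p.1 + p.2 * p.2)) := by
    intro i
    generalize δ i = d
    revert d
    decide
  rw [Finset.prod_congr rfl fun i _ => h i, Finset.prod_univ_sum, Fintype.piFinset_univ]
  exact Finset.sum_congr rfl fun v _ => by rw [pairForm_apply, sgn_sum]

theorem finrank_pairs (n : ℕ) : finrank (ZMod 2) (Fin n → ZMod 2 × ZMod 2) = 2 * n := by
  rw [Module.finrank_pi_fintype]
  simp [Module.finrank_prod, mul_comm]

/-- Totally singular subspaces have dimension at most `n`, and less when the sign sum is negative. -/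
theorem ts_bound {n : ℕ} (δ : Fin n → ZMod 2) (W : Submodule (ZMod 2) (Fin n → ZMod 2 × ZMod 2))
    (hW : ∀ u ∈ W, pairForm δ u u = 0) :
    finrank (ZMod 2) W ≤ n ∧
      (finrank (ZMod 2) W = n → 0 < ∑ v, sgn (pairForm δ v v)) := by
  classical
  set P := pairForm δ + (pairForm δ).flip with hPdef
  have hP : ∀ u w, P u w = pairForm δ u w + pairForm δ w u := fun u w => rfl
  have hr : P.IsRefl := fun u w h => by rw [hP] at h ⊢; rwa [add_comm]
  have hnd : P.Nondegenerate := hr.nondegenerate_iff_separatingLeft.2 fun v hv =>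
    pairForm_nondeg δ v fun w => CharTwo.add_eq_zero.mp (hP v w ▸ hv w)
  have hle : W ≤ P.orthogonal W := fun u hu w hw => by
    show P w u = 0
    have e := hW _ (add_mem hw hu)
    simp only [map_add, LinearMap.add_apply, hW _ hu, hW _ hw, zero_add, add_zero] at e
    rw [hP, ← e, add_comm]
  have horth := LinearMap.BilinForm.finrank_orthogonal hnd W
  rw [finrank_pairs] at horth
  have h2 := Submodule.finrank_mono hle
  refine ⟨by omega, fun hn => ?_⟩
  have heq : W = P.orthogonal W := Submodule.eq_of_le_of_finrank_le hle (by omega)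
  obtain ⟨S, hS⟩ : ∃ S, S = ∑ v, sgn (pairForm δ v v) := ⟨_, rfl⟩
  rw [← hS]
  -- translate by the members of `W`
  have hshift : ∀ w ∈ W, ∑ v, sgn (pairForm δ v v) * sgn (P w v) = S := by
    intro w hw
    rw [hS]
    refine Eq.trans (Finset.sum_congr rfl fun v _ => ?_)
      (Equiv.sum_comp (Equiv.addRight w) fun v => sgn (pairForm δ v v))
    rw [← sgn_add]
    congr 1
    simp only [Equiv.coe_addRight, map_add, LinearMap.add_apply, hW w hw, add_zero, hP]
    ring
  have hchar : ∀ v, (∑ w : W, sgn (P (w : Fin n → ZMod 2 × ZMod 2) v)) =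
      if v ∈ W then (Fintype.card W : ℤ) else 0 := by
    intro v
    split_ifs with hv
    · have e0 : ∀ w : W, sgn (P (w : Fin n → ZMod 2 × ZMod 2) v) = 1 := fun w => by
        have h0 : P (w : Fin n → ZMod 2 × ZMod 2) v = 0 := hle hv w w.2
        rw [h0]
        rfl
      rw [Finset.sum_congr rfl fun w _ => e0 w]
      simp
    · have hv' : v ∉ P.orthogonal W := by rwa [← heq]
      rw [LinearMap.BilinForm.mem_orthogonal_iff] at hv'
      push Not at hv'
      obtain ⟨w₀, hw₀, h1⟩ := hv'
      have e : (∑ w : W, sgn (P (w : Fin n → ZMod 2 × ZMod 2) v)) =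
          -(∑ w : W, sgn (P (w : Fin n → ZMod 2 × ZMod 2) v)) := by
        rw [← Finset.sum_neg_distrib]
        refine Fintype.sum_equiv (Equiv.addRight (⟨w₀, hw₀⟩ : W)) _ _ fun w => ?_
        simp only [Equiv.coe_addRight, Submodule.coe_add, map_add, LinearMap.add_apply, sgn_add]
        have h3 : sgn (P w₀ v) = -1 := by
          have key : ∀ a : ZMod 2, a ≠ 0 → sgn a = -1 := by decide
          exact key _ h1
        rw [h3, mul_neg, mul_one, neg_neg]
      linarith
  have hmain : (Fintype.card W : ℤ) * S = (Fintype.card W : ℤ) * (Fintype.card W : ℤ) := by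
    calc (Fintype.card W : ℤ) * S
        = ∑ w : W, ∑ v, sgn (pairForm δ v v) * sgn (P (w : Fin n → ZMod 2 × ZMod 2) v) := by
          rw [Finset.sum_congr rfl (fun (u : W) _ => hshift (u : Fin n → ZMod 2 × ZMod 2) u.2)]; simp
      _ = ∑ v, sgn (pairForm δ v v) *
            ∑ w : W, sgn (P (w : Fin n → ZMod 2 × ZMod 2) v) := by
          rw [Finset.sum_comm]; exact Finset.sum_congr rfl fun v _ => (Finset.mul_sum _ _ _).symm
      _ = ∑ v, if v ∈ W then (Fintype.card W : ℤ) else 0 := by
          refine Finset.sum_congr rfl fun v _ => ?_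
          rw [hchar]
          split_ifs with hv
          · rw [hW v hv]; simp [sgn]
          · rw [mul_zero]
      _ = (Fintype.card W : ℤ) * (Fintype.card W : ℤ) := by
          rw [← Finset.sum_filter, Finset.sum_const, nsmul_eq_mul, ← Fintype.card_subtype]
  have hpos : (0 : ℤ) < (Fintype.card W : ℤ) := by exact_mod_cast Fintype.card_pos
  rw [mul_left_cancel₀ hpos.ne' hmain]
  exact hpos

/-- The subspace of vectors whose pairs lie on the first axis. -/
def axis {n : ℕ} (keep : Fin n → Prop) : Submodule (ZMod 2) (Fin n → ZMod 2 × ZMod 2) where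
  carrier := {v | ∀ i, (v i).2 = 0 ∧ (¬ keep i → (v i).1 = 0)}
  zero_mem' := fun i => ⟨rfl, fun _ => rfl⟩
  add_mem' := fun {a b} ha hb i => ⟨by simp [(ha i).1, (hb i).1], fun h => by
    simp [(ha i).2 h, (hb i).2 h]⟩
  smul_mem' := fun c a ha i => ⟨by simp [(ha i).1], fun h => by simp [(ha i).2 h]⟩

theorem card_axis {n : ℕ} (keep : Fin n → Prop) [DecidablePred keep] :
    Nat.card (axis keep) = 2 ^ Nat.card {i // keep i} := by
  have e : Nat.card (axis keep) = Nat.card ({i // keep i} → ZMod 2) :=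
    Nat.card_congr
      { toFun := fun v i => (v.1 i.1).1
        invFun := fun f => ⟨fun i => (if h : keep i then f ⟨i, h⟩ else 0, 0),
          fun i => ⟨rfl, fun h => dif_neg h⟩⟩
        left_inv := fun v => Subtype.ext (funext fun i => by
          by_cases h : keep i
          · simp [h, Prod.ext_iff, (v.2 i).1]
          · simp [h, Prod.ext_iff, (v.2 i).1, (v.2 i).2 h])
        right_inv := fun f => funext fun i => dif_pos i.2 }
  rw [e, Nat.card_fun, Nat.card_zmod]

theorem card_pairs_pow (n : ℕ) : Nat.card (Fin n → ZMod 2 × ZMod 2) = 2 ^ (2 * n) := by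
  rw [Nat.card_fun, Nat.card_prod, Nat.card_zmod, Nat.card_eq_fintype_card, Fintype.card_fin,
    pow_mul]
  norm_num

/-- Extraspecial groups of both ranks. -/
theorem exists_of_rank (n : ℕ) (hn : 1 ≤ n) : ∀ r ∈ ({n, n + 1} : Set ℕ),
    ∃ (E : Type) (_ : Group E) (_ : Finite E), Cfsg.IsExtraspecial 2 E ∧
      Nat.card E = 2 ^ (2 * n + 1) ∧
      sSup {k : ℕ | ∃ A : Subgroup E, Cfsg.IsElementaryAbelian 2 A ∧ Nat.card A = 2 ^ k} = r := by
  classical
  intro r hr
  have main : ∀ (δ : Fin n → ZMod 2) (m : ℕ),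
      (∃ W : Submodule (ZMod 2) (Fin n → ZMod 2 × ZMod 2),
        (∀ u ∈ W, pairForm δ u u = 0) ∧ Nat.card W = 2 ^ m) →
      (∀ W : Submodule (ZMod 2) (Fin n → ZMod 2 × ZMod 2),
        (∀ u ∈ W, pairForm δ u u = 0) → finrank (ZMod 2) W ≤ m) →
      ∃ (E : Type) (_ : Group E) (_ : Finite E), Cfsg.IsExtraspecial 2 E ∧
        Nat.card E = 2 ^ (2 * n + 1) ∧
        sSup {k : ℕ | ∃ A : Subgroup E, Cfsg.IsElementaryAbelian 2 A ∧ Nat.card A = 2 ^ k}
          = m + 1 := by
    intro δ m ⟨W, hW, hWc⟩ hub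
    refine ⟨Cocycle (pairForm δ), inferInstance, inferInstance,
      isExtraspecial (pairForm_nondeg δ) ?_, ?_, ?_⟩
    · by_contra h
      push Not at h
      have := pairForm_nondeg δ (fun _ => (1, 0)) (h _)
      simpa using congrFun this ⟨0, hn⟩
    · rw [card_cocycle, card_pairs_pow, pow_succ, mul_comm]
    · refine IsGreatest.csSup_eq ⟨?_, fun k hk => ?_⟩
      · obtain ⟨A, hA, hAc⟩ := exists_elementary W hW
        exact ⟨A, hA, by rw [hAc, hWc, pow_succ, mul_comm]⟩
      · obtain ⟨A, hA, hAc⟩ := hk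
        obtain ⟨W', hW', hle⟩ := exists_subspace hA
        rw [hAc, Module.natCard_eq_pow_finrank (K := ZMod 2), Nat.card_zmod, ← pow_succ'] at hle
        have h1 := (Nat.pow_le_pow_iff_right (by norm_num)).1 hle
        have h2 := hub W' hW'
        omega
  have hsing : ∀ (δ : Fin n → ZMod 2) (keep : Fin n → Prop), (∀ i, keep i → δ i = 0) →
      ∀ u ∈ axis keep, pairForm δ u u = 0 := by
    intro δ keep hk u hu
    rw [pairForm_apply]
    refine Finset.sum_eq_zero fun i _ => ?_
    rw [(hu i).1]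
    by_cases h : keep i
    · rw [hk i h]; ring
    · rw [(hu i).2 h]; ring
  rcases hr with rfl | rfl
  · obtain ⟨m, rfl⟩ : ∃ m, r = m + 1 := ⟨r - 1, by omega⟩
    refine main (fun i => if i = 0 then 1 else 0) m
      ⟨axis fun i => i ≠ 0, hsing _ _ fun i hi => if_neg hi, ?_⟩ fun W hW => ?_
    · rw [card_axis, Nat.card_eq_fintype_card, Fintype.card_subtype_compl, Fintype.card_fin,
        Fintype.card_unique, Nat.add_sub_cancel]
    · obtain ⟨h1, h2⟩ := ts_bound _ W hW
      by_contra h
      have h3 := h2 (by omega)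
      rw [signSum, Fin.prod_univ_succ] at h3
      have e : ∀ i : Fin m, (if (if i.succ = (0 : Fin (m + 1)) then (1 : ZMod 2) else 0) = 0
          then (2 : ℤ) else -2) = 2 := fun i => by simp [Fin.succ_ne_zero]
      rw [Finset.prod_congr rfl fun i _ => e i, Finset.prod_const, Finset.card_univ,
        Fintype.card_fin, if_pos rfl, if_neg one_ne_zero] at h3
      have : (0 : ℤ) < 2 ^ m := by positivity
      linarith
  · refine main 0 n ⟨axis fun _ => True, hsing _ _ fun i _ => rfl, ?_⟩
      fun W hW => (ts_bound _ W hW).1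
    rw [card_axis, Nat.card_congr (Equiv.subtypeUnivEquiv (p := fun _ : Fin n => True) fun _ => trivial),
      Nat.card_eq_fintype_card, Fintype.card_fin]

end Cfsg.Lib.Extra
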