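import Cfsg.Agent.Lib.Core.Cores
import Cfsg.Agent.Lib.PGroup.Basic
import Cfsg.Prelude.Def_Transfer
import Mathlib.GroupTheory.FixedPointFree

/-!
# Extraspecial 2-subgroups normal in the centralizer of their centre
-/

set_option autoImplicit false
set_option linter.style.haveILetI false

namespace Cfsg.Lib.Extra

open Cfsg

variable {G : Type*} [Group G]

/-- The elementwise data of an extraspecial 2-subgroup containing its centralizer and normal in the
centralizer of its central involution. -/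
structure Ctx (Q : Subgroup G) (z : G) : Prop where
  mem : z ∈ Q
  ne_one : z ≠ 1
  sq_z : z * z = 1
  central : ∀ a ∈ Q, Commute z a
  comm : ∀ a ∈ Q, ∀ b ∈ Q, a * b * a⁻¹ * b⁻¹ = 1 ∨ a * b * a⁻¹ * b⁻¹ = z
  sq : ∀ a ∈ Q, a * a = 1 ∨ a * a = z
  cent : ∀ g : G, (∀ a ∈ Q, Commute g a) → g = 1 ∨ g = z
  norm : ∀ c : G, Commute c z → c ∈ Subgroup.normalizer (Q : Set G)
  two : IsPGroup 2 Q

theorem ctx_of [Finite G] {Q : Subgroup G} (h : Cfsg.IsExtraspecial 2 Q)
    (hC : Subgroup.centralizer (Q : Set G) ≤ (Subgroup.center Q).map Q.subtype)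
    (hN : Subgroup.centralizer (((Subgroup.center Q).map Q.subtype : Subgroup G) : Set G) ≤
      Subgroup.normalizer (Q : Set G)) {z : G} (hz : (Subgroup.center Q).map Q.subtype = Subgroup.zpowers z) :
    Ctx Q z := by
  haveI : Fact (Nat.Prime 2) := ⟨Nat.prime_two⟩
  have hc2 : Nat.card (Subgroup.zpowers z) = 2 := by
    rw [← hz, Subgroup.card_map_of_injective Q.subtype_injective]; exact h.2
  rw [Nat.card_zpowers] at hc2
  have hzz : z * z = 1 := by rw [← pow_two, ← hc2, pow_orderOf_eq_one]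
  have hpow : ∀ w ∈ Subgroup.zpowers z, w = 1 ∨ w = z := by
    intro w hw
    obtain ⟨k, rfl⟩ := Subgroup.mem_zpowers_iff.1 hw
    rw [← zpow_mod_orderOf z k, hc2]
    rcases Int.emod_two_eq k with e | e <;> norm_num [e]
  have hzc : z ∈ (Subgroup.center Q).map Q.subtype := hz.symm ▸ Subgroup.mem_zpowers z
  obtain ⟨z', hz', rfl⟩ := hzc
  refine ⟨z'.2, ?_, hzz, fun a ha => ?_, fun a ha b hb => ?_, fun a ha => ?_, fun g hg => ?_, fun c hc => ?_, h.1.1⟩
  · intro e
    rw [e, orderOf_one] at hc2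
    exact absurd hc2 (by decide)
  · exact (congrArg Subtype.val (Subgroup.mem_center_iff.1 hz' ⟨a, ha⟩)).symm
  · refine hpow _ (hz ▸ ⟨⟨a, ha⟩ * ⟨b, hb⟩ * ⟨a, ha⟩⁻¹ * ⟨b, hb⟩⁻¹, ?_, rfl⟩)
    rw [SetLike.mem_coe, ← h.1.2.2]
    exact Subgroup.commutator_mem_commutator (Subgroup.mem_top _) (Subgroup.mem_top _)
  · refine hpow _ (hz ▸ ⟨⟨a, ha⟩ ^ 2, ?_, by simp [pow_two]⟩)
    rw [SetLike.mem_coe, ← h.1.2.1]
    exact Lib.PGroup.pow_mem_frattini h.1.1 ⟨a, ha⟩
  · exact hpow _ (hz ▸ hC (Subgroup.mem_centralizer_iff.2 fun a ha => (hg a ha).symm.eq))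
  · refine hN (Subgroup.mem_centralizer_iff.2 fun w hw => ?_)
    rcases hpow w (hz ▸ hw) with rfl | rfl
    · simp
    · exact hc.symm.eq

namespace Ctx

variable {Q : Subgroup G} {z : G} (hQ : Ctx Q z)

include hQ

theorem inv_z : z⁻¹ = z := inv_eq_of_mul_eq_one_right hQ.sq_z

theorem conj (k : G) : Ctx (Q.map (MulAut.conj k).toMonoidHom) (k * z * k⁻¹) := by
  have hmem : ∀ {a : G}, a ∈ Q.map (MulAut.conj k).toMonoidHom ↔ ∃ b ∈ Q, k * b * k⁻¹ = a := Iff.rfl
  refine ⟨⟨z, hQ.mem, rfl⟩, fun h => hQ.ne_one (conj_eq_one_iff.1 h), ?_, ?_, ?_, ?_, ?_, ?_, hQ.two.map _⟩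
  · rw [show k * z * k⁻¹ * (k * z * k⁻¹) = k * (z * z) * k⁻¹ by group, hQ.sq_z]; simp
  · intro a ha; obtain ⟨b, hb, rfl⟩ := hmem.1 ha
    exact (Commute.conj_iff k).2 (hQ.central b hb)
  · intro a' ha' b' hb'
    obtain ⟨a, ha, rfl⟩ := hmem.1 ha'
    obtain ⟨b, hb, rfl⟩ := hmem.1 hb'
    refine (hQ.comm a ha b hb).imp (fun h => ?_) fun h => ?_
    · calc k * a * k⁻¹ * (k * b * k⁻¹) * (k * a * k⁻¹)⁻¹ * (k * b * k⁻¹)⁻¹
          = k * (a * b * a⁻¹ * b⁻¹) * k⁻¹ := by group
        _ = 1 := by rw [h]; simp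
    · calc k * a * k⁻¹ * (k * b * k⁻¹) * (k * a * k⁻¹)⁻¹ * (k * b * k⁻¹)⁻¹
          = k * (a * b * a⁻¹ * b⁻¹) * k⁻¹ := by group
        _ = _ := by rw [h]
  · intro a' ha'; obtain ⟨a, ha, rfl⟩ := hmem.1 ha'
    rw [show k * a * k⁻¹ * (k * a * k⁻¹) = k * (a * a) * k⁻¹ by group]
    exact (hQ.sq a ha).imp (fun h => by rw [h]; simp) fun h => by rw [h]
  · intro g hg
    refine (hQ.cent (k⁻¹ * g * k) fun a ha => ?_).imp (fun h => ?_) fun h => ?_
    · simpa [mul_assoc] using (Commute.conj_iff k⁻¹).2 (hg _ (hmem.2 ⟨a, ha, rfl⟩))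
    · calc g = k * (k⁻¹ * g * k) * k⁻¹ := by group
        _ = 1 := by rw [h]; simp
    · calc g = k * (k⁻¹ * g * k) * k⁻¹ := by group
        _ = _ := by rw [h]
  · intro c hc
    have h1 : k⁻¹ * c * k ∈ Subgroup.normalizer (Q : Set G) := hQ.norm _ (by
      simpa [mul_assoc] using (Commute.conj_iff k⁻¹).2 hc)
    refine Subgroup.mem_normalizer_iff.2 fun w => ⟨fun hw => ?_, fun hw => ?_⟩ <;>
      obtain ⟨b, hb, e⟩ := hmem.1 hw <;> rw [hmem]
    · exact ⟨_, (Subgroup.mem_normalizer_iff.1 h1 b).1 hb, by rw [← e]; group⟩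
    · refine ⟨_, (Subgroup.mem_normalizer_iff.1 (inv_mem h1) b).1 hb, ?_⟩
      calc k * ((k⁻¹ * c * k)⁻¹ * b * ((k⁻¹ * c * k)⁻¹)⁻¹) * k⁻¹ = c⁻¹ * (k * b * k⁻¹) * c := by group
        _ = w := by rw [e]; group

theorem conj_mem_iff_of_commute {k k' : G} (h : k * z * k⁻¹ = k' * z * k'⁻¹) {a : G}
    (ha : a ∈ Q.map (MulAut.conj k).toMonoidHom) : a ∈ Q.map (MulAut.conj k').toMonoidHom := by
  obtain ⟨b, hb, rfl⟩ := ha
  have hc : Commute (k'⁻¹ * k) z := mul_inv_eq_iff_eq_mul.1 (by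
    calc k'⁻¹ * k * z * (k'⁻¹ * k)⁻¹ = k'⁻¹ * (k * z * k⁻¹) * k' := by group
      _ = z := by rw [h]; group)
  exact ⟨_, (Subgroup.mem_normalizer_iff.1 (hQ.norm _ hc) b).1 hb,
    show k' * (k'⁻¹ * k * b * (k'⁻¹ * k)⁻¹) * k'⁻¹ = k * b * k⁻¹ by group⟩

/-- An element of `Q` outside the centre is moved to its product with the centre. -/
theorem exists_move {x : G} (hx : x ∈ Q) (h1 : x ≠ 1) (hz : x ≠ z) : ∃ y ∈ Q, y * x * y⁻¹ = z * x := by
  by_contra hcon
  push Not at hcon
  rcases hQ.cent x fun a ha => by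
    rcases hQ.comm a ha x hx with h | h
    · exact (mul_inv_eq_iff_eq_mul.1 (mul_inv_eq_one.1 h)).symm
    · exact absurd (mul_inv_eq_iff_eq_mul.1 h) (hcon a ha) with h | h
  exacts [h1 h, hz h]

theorem commute_or {x y a : G} (hy : y ∈ Q) (hxy : y * x * y⁻¹ = z * x) (ha : a ∈ Q) (hx : x ∈ Q) :
    Commute a x ∨ Commute (y * a) x := by
  rcases hQ.comm a ha x hx with h | h
  · exact Or.inl (mul_inv_eq_iff_eq_mul.1 (mul_inv_eq_one.1 h))
  · refine Or.inr (mul_inv_eq_iff_eq_mul.1 ?_)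
    calc y * a * x * (y * a)⁻¹ = y * (a * x * a⁻¹) * y⁻¹ := by group
      _ = y * (z * x) * y⁻¹ := by rw [mul_inv_eq_iff_eq_mul.1 h]
      _ = z * (y * x * y⁻¹) := by rw [← mul_assoc, ← (hQ.central y hy).eq]; simp only [mul_assoc]
      _ = x := by rw [hxy, ← mul_assoc, hQ.sq_z, one_mul]

/-- The centralizer in `Q` of the centralizer of `x` in `Q`. -/
theorem double_centralizer {x e : G} (hx : x ∈ Q) (h1 : x ≠ 1) (hz : x ≠ z) (he : e ∈ Q) (hex : Commute e x)
    (hc : ∀ p ∈ Q, Commute p x → Commute e p) : e = 1 ∨ e = z ∨ e = x ∨ e = z * x := by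
  obtain ⟨y, hy, hyx⟩ := hQ.exists_move hx h1 hz
  have key : ∀ f ∈ Q, (∀ p ∈ Q, Commute p x → Commute f p) → Commute f y → f = 1 ∨ f = z := by
    intro f _ hf hfy
    refine hQ.cent f fun a ha => ?_
    rcases hQ.commute_or hy hyx ha hx with h | h
    · exact hf a ha h
    · have h2 := hfy.inv_right.mul_right (hf _ (mul_mem hy ha) h)
      rwa [inv_mul_cancel_left] at h2
  rcases hQ.comm y hy e he with h | h
  · rcases key e he hc (mul_inv_eq_iff_eq_mul.1 (mul_inv_eq_one.1 h)).symm with e1 | e1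
    exacts [Or.inl e1, Or.inr (Or.inl e1)]
  · have hye : y * e * y⁻¹ = z * e := mul_inv_eq_iff_eq_mul.1 h
    have hey : Commute (e * x) y := by
      refine Commute.symm (mul_inv_eq_iff_eq_mul.1 ?_)
      calc y * (e * x) * y⁻¹ = (y * e * y⁻¹) * (y * x * y⁻¹) := by group
        _ = z * (e * z) * x := by rw [hye, hyx]; simp only [mul_assoc]
        _ = e * x := by rw [← (hQ.central e he).eq, ← mul_assoc z z, hQ.sq_z, one_mul]
    have hxx : x⁻¹ = x ∨ x⁻¹ = z * x := by
      rcases hQ.sq x hx with h | h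
      · exact Or.inl (inv_eq_of_mul_eq_one_right h)
      · exact Or.inr (inv_eq_of_mul_eq_one_left (by rw [mul_assoc, h, hQ.sq_z]))
    rcases key (e * x) (mul_mem he hx) (fun p hp hpx => (hc p hp hpx).mul_left hpx.symm) hey with e1 | e1
    · rcases hxx with e2 | e2
      · exact Or.inr (Or.inr (Or.inl ((eq_inv_of_mul_eq_one_left e1).trans e2)))
      · exact Or.inr (Or.inr (Or.inr ((eq_inv_of_mul_eq_one_left e1).trans e2)))
    · rcases hxx with e2 | e2
      · exact Or.inr (Or.inr (Or.inr (by rw [← e2]; exact eq_mul_inv_of_mul_eq e1)))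
      · refine Or.inr (Or.inr (Or.inl ?_))
        rw [eq_mul_inv_of_mul_eq e1, e2, ← mul_assoc, hQ.sq_z, one_mul]

/-- If the conjugate of the centre lies in `Q` then the centre lies in the conjugate of `Q`. -/
theorem mem_symm [Finite G] {g : G} (hg : g * z * g⁻¹ ∈ Q) : z ∈ Q.map (MulAut.conj g).toMonoidHom := by
  classical
  set R := Q.map (MulAut.conj g).toMonoidHom with hRdef
  set x := g * z * g⁻¹ with hxdef
  have hR : Ctx R x := hQ.conj g
  by_cases hxz : x = z
  · rw [← hxz]; exact hR.mem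
  have hx1 : x ≠ 1 := hR.ne_one
  obtain ⟨y, hy, hyx⟩ := hQ.exists_move hg hx1 hxz
  have hzx : Commute z x := hQ.central x hg
  have hyz : y * z * y⁻¹ = z := mul_inv_eq_iff_eq_mul.2 (hQ.central y hy).symm
  by_cases hA : ∃ r ∈ R, r * z * r⁻¹ = x * z
  · -- the four group is permuted transitively
    obtain ⟨r, hr, hrz⟩ := hA
    have hrx : r * x * r⁻¹ = x := mul_inv_eq_iff_eq_mul.2 (hR.central r hr).symm
    set h := r⁻¹ * y
    have hhx : h * x * h⁻¹ = z := by
      calc h * x * h⁻¹ = r⁻¹ * (y * x * y⁻¹) * r := by simp only [h]; group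
        _ = r⁻¹ * (r * z * r⁻¹) * r := by rw [hyx, hrz, hzx.eq]
        _ = z := by group
    have hhz : h * z * h⁻¹ = x * z := by
      calc h * z * h⁻¹ = r⁻¹ * (y * z * y⁻¹) * r := by simp only [h]; group
        _ = r⁻¹ * ((x * x) * z) * r := by rw [hyz, hR.sq_z, one_mul]
        _ = r⁻¹ * x * (x * z) * r := by simp only [mul_assoc]
        _ = x * r⁻¹ * (x * z) * r := by
          rw [((hR.central r hr).inv_right).eq]
        _ = x * z := by rw [mul_assoc x, mul_assoc x, show r⁻¹ * (x * z) * r = z by rw [← hrz]; group]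
    have h1 : z ∈ Q.map (MulAut.conj h).toMonoidHom := ⟨x, hg, hhx⟩
    obtain ⟨b, hb, hbe⟩ := h1
    have hbe' : h * b * h⁻¹ = z := hbe
    refine hQ.conj_mem_iff_of_commute (k := y * h) ?_ ⟨b, hb, show y * h * b * (y * h)⁻¹ = z from ?_⟩
    · calc y * h * z * (y * h)⁻¹ = y * (h * z * h⁻¹) * y⁻¹ := by group
        _ = (y * x * y⁻¹) * (y * z * y⁻¹) := by rw [hhz]; group
        _ = g * z * g⁻¹ := by
          rw [hyz, hyx, ← hxdef, hzx.eq, mul_assoc, hQ.sq_z, mul_one]
    · calc y * h * b * (y * h)⁻¹ = y * (h * b * h⁻¹) * y⁻¹ := by group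
        _ = z := by rw [hbe', hyz]
  by_contra hzR
  push Not at hA
  have hxi : x⁻¹ = x := hR.inv_z
  have hzi : z⁻¹ = z := hQ.inv_z
  have hPR : ∀ p ∈ Q, Commute p x → p ∈ Subgroup.normalizer (R : Set G) := fun p _ hp => hR.norm p hp
  have hzN := hR.norm z hzx
  have hzN' : ∀ r ∈ R, z * r * z⁻¹ ∈ R := fun r hr => (Subgroup.mem_normalizer_iff.1 hzN r).1 hr
  -- the intersection
  have hQR : ∀ e ∈ Q, e ∈ R → e = 1 ∨ e = x := by
    intro e he heR
    have hc : ∀ p ∈ Q, Commute p x → Commute e p := fun p hp hpx => by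
      rcases hQ.comm e he p hp with h | h
      · exact mul_inv_eq_iff_eq_mul.1 (mul_inv_eq_one.1 h)
      · refine absurd ?_ hzR
        rw [← h, show e * p * e⁻¹ * p⁻¹ = e * (p * e⁻¹ * p⁻¹) by group]
        exact mul_mem heR ((Subgroup.mem_normalizer_iff.1 (hPR p hp hpx) _).1 (inv_mem heR))
    rcases hQ.double_centralizer hg hx1 hxz he (hR.central e heR).symm hc with h | h | h | h
    · exact Or.inl h
    · exact absurd (h ▸ heR) hzR
    · exact Or.inr h
    · refine absurd ?_ hzR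
      have := mul_mem (h ▸ heR : z * x ∈ R) (inv_mem hR.mem)
      rwa [mul_inv_cancel_right] at this
  -- the displacement
  let u : G → G := fun r => r * z * r⁻¹ * z
  have huR : ∀ r ∈ R, u r ∈ R := fun r hr => by
    show r * z * r⁻¹ * z ∈ R
    rw [show r * z * r⁻¹ * z = r * (z * r⁻¹ * z⁻¹) by rw [hzi]; simp only [mul_assoc]]
    exact mul_mem hr (hzN' _ (inv_mem hr))
  have hsmall : ∀ r ∈ R, u r = 1 ∨ u r = x → Commute r z := fun r hr h => by
    rcases h with h | h
    · exact mul_inv_eq_iff_eq_mul.1 ((eq_inv_of_mul_eq_one_left h).trans hzi)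
    · refine absurd ?_ (hA r hr)
      calc r * z * r⁻¹ = (r * z * r⁻¹ * z) * z := by rw [mul_assoc _ z z, hQ.sq_z, mul_one]
        _ = x * z := by rw [show r * z * r⁻¹ * z = x from h]
  have huA : ∀ r ∈ R, Commute (u r) z := fun r hr => by
    refine hsmall _ (huR r hr) ?_
    have e : u (u r) = u r * u r := by
      show u r * z * (u r)⁻¹ * z = u r * u r
      show u r * z * (r * z * r⁻¹ * z)⁻¹ * z = u r * (r * z * r⁻¹ * z)
      simp only [_root_.mul_inv_rev, inv_inv, hzi, mul_assoc]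
      rw [← mul_assoc z z, hQ.sq_z, one_mul]
    rw [e]
    exact hR.sq _ (huR r hr)
  have hPA : ∀ p ∈ Q, Commute p x → ∀ a ∈ R, Commute a z → p * a * p⁻¹ * a⁻¹ = 1 ∨ p * a * p⁻¹ * a⁻¹ = x := by
    intro p hp hpx a ha haz
    refine hQR _ ?_ (mul_mem ((Subgroup.mem_normalizer_iff.1 (hPR p hp hpx) a).1 ha) (inv_mem ha))
    rw [show p * a * p⁻¹ * a⁻¹ = p * (a * p⁻¹ * a⁻¹) by group]
    exact mul_mem hp ((Subgroup.mem_normalizer_iff.1 (hQ.norm a haz) _).1 (inv_mem hp))
  have hxmul : ∀ c c', (c = 1 ∨ c = x) → (c' = 1 ∨ c' = x) → c * c' = 1 ∨ c * c' = x := by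
    rintro c c' (rfl | rfl) (rfl | rfl) <;> simp [hR.sq_z]
  have hxinv : ∀ c, (c = 1 ∨ c = x) → c⁻¹ = c := by rintro c (rfl | rfl) <;> simp [hxi]
  have hxcen : ∀ c, (c = 1 ∨ c = x) → ∀ w ∈ R, Commute c w := by
    rintro c (rfl | rfl) w hw
    exacts [Commute.one_left w, hR.central w hw]
  have hδ : ∀ p ∈ Q, Commute p x → ∀ r ∈ R, Commute (p * r * p⁻¹ * r⁻¹) z := by
    intro p hp hpx r hr
    set δ := p * r * p⁻¹ * r⁻¹
    have hδR : δ ∈ R := mul_mem ((Subgroup.mem_normalizer_iff.1 (hPR p hp hpx) r).1 hr) (inv_mem hr)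
    have hpz : p * z * p⁻¹ = z := mul_inv_eq_iff_eq_mul.2 (hQ.central p hp).symm
    have e1 : u (δ * r) = p * u r * p⁻¹ := by
      show δ * r * z * (δ * r)⁻¹ * z = p * (r * z * r⁻¹ * z) * p⁻¹
      calc δ * r * z * (δ * r)⁻¹ * z = p * r * (p⁻¹ * z * p) * r⁻¹ * p⁻¹ * z := by simp only [δ]; group
        _ = p * r * z * r⁻¹ * p⁻¹ * (p * z * p⁻¹) := by
          rw [hpz, show p⁻¹ * z * p = z by rw [mul_assoc, (hQ.central p hp).eq, inv_mul_cancel_left]]
        _ = _ := by group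
    have e2 : u (δ * r) = δ * u r * δ⁻¹ * u δ := by
      show δ * r * z * (δ * r)⁻¹ * z = δ * (r * z * r⁻¹ * z) * δ⁻¹ * (δ * z * δ⁻¹ * z)
      calc δ * r * z * (δ * r)⁻¹ * z = δ * r * z * r⁻¹ * (z * z) * δ⁻¹ * z := by rw [hQ.sq_z]; group
        _ = _ := by group
    refine hsmall δ hδR ?_
    have h1 := hPA p hp hpx _ (huR r hr) (huA r hr)
    have h2 := hR.comm δ hδR _ (huR r hr)
    set c₁ := p * u r * p⁻¹ * (u r)⁻¹ with hc₁
    set c₂ := δ * u r * δ⁻¹ * (u r)⁻¹ with hc₂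
    have e3 : c₁ * u r = c₂ * u r * u δ := by
      rw [hc₁, hc₂, inv_mul_cancel_right, inv_mul_cancel_right, ← e1, e2]
    have e4 : u δ = c₂⁻¹ * c₁ := by
      calc u δ = (c₂ * u r)⁻¹ * (c₂ * u r * u δ) := by group
        _ = (u r)⁻¹ * (c₂⁻¹ * c₁) * u r := by rw [← e3]; group
        _ = c₂⁻¹ * c₁ := by
          rw [hxinv c₂ h2, mul_assoc, (hxcen _ (hxmul _ _ h2 h1) _ (huR r hr)).eq, inv_mul_cancel_left]
    rw [e4, hxinv c₂ h2]
    exact hxmul _ _ h2 h1
  -- some element is displaced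
  obtain ⟨r, hr, hrz⟩ : ∃ r ∈ R, ¬ Commute r z := by
    by_contra h
    push Not at h
    rcases hR.cent z fun a ha => (h a ha).symm with e | e
    exacts [hQ.ne_one e, hxz e.symm]
  by_cases hP : ∃ p ∈ Q, ∃ q ∈ Q, Commute p x ∧ Commute q x ∧ ¬ Commute p q
  · obtain ⟨p, hp, q, hq, hpx, hqx, hpq⟩ := hP
    have hc : p * q = z * (q * p) := by
      rcases hQ.comm p hp q hq with h | h
      · exact absurd (mul_inv_eq_iff_eq_mul.1 (mul_inv_eq_one.1 h)) hpq
      · calc p * q = p * q * p⁻¹ * q⁻¹ * (q * p) := by group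
          _ = _ := by rw [h]
    set δp := p * r * p⁻¹ * r⁻¹ with hdp
    set δq := q * r * q⁻¹ * r⁻¹ with hdq
    have hdpR : δp ∈ R := mul_mem ((Subgroup.mem_normalizer_iff.1 (hPR p hp hpx) r).1 hr) (inv_mem hr)
    have hdqR : δq ∈ R := mul_mem ((Subgroup.mem_normalizer_iff.1 (hPR q hq hqx) r).1 hr) (inv_mem hr)
    set r' := q * p * r * (q * p)⁻¹ with hr'
    set r'' := p * q * r * (p * q)⁻¹ with hr''
    set cp := p * δq * p⁻¹ * δq⁻¹ with hcp
    set cq := q * δp * q⁻¹ * δp⁻¹ with hcq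
    set cc := δq * δp * δq⁻¹ * δp⁻¹ with hcc
    have k1 : cp = 1 ∨ cp = x := hPA p hp hpx δq hdqR (hδ q hq hqx r hr)
    have k2 : cq = 1 ∨ cq = x := hPA q hq hqx δp hdpR (hδ p hp hpx r hr)
    have k3 : cc = 1 ∨ cc = x := hR.comm δq hdqR δp hdpR
    have f1 : r'' = cp * δq * δp * r := by simp only [r'', cp, δq, δp]; group
    have f2 : r' = cq * δp * δq * r := by simp only [r', cq, δq, δp]; group
    have f3 : δq * δp = cc * (δp * δq) := by simp only [cc]; group
    have hc1 : (cp * cc * cq = 1 ∨ cp * cc * cq = x) := hxmul _ _ (hxmul _ _ k1 k3) k2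
    have f4 : r'' = cp * cc * cq * r' := by
      rw [f1, f2, mul_assoc cp δq δp, f3]
      calc cp * (cc * (δp * δq)) * r = cp * cc * 1 * (δp * δq * r) := by group
        _ = cp * cc * (cq * cq) * (δp * δq * r) := by
          rw [show cq * cq = 1 by rw [← mul_inv_cancel cq, hxinv cq k2]]
        _ = _ := by group
    have f5 : r'' = z * r' * z⁻¹ := by simp only [r'', r']; rw [hc]; group
    have hqpN : q * p ∈ Subgroup.normalizer (R : Set G) := mul_mem (hPR q hq hqx) (hPR p hp hpx)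
    have hr'R : r' ∈ R := (Subgroup.mem_normalizer_iff.1 hqpN r).1 hr
    have hcom : Commute r' z := hsmall r' hr'R (by
      have h6 : u r' = (cp * cc * cq)⁻¹ := by
        show r' * z * r'⁻¹ * z = _
        calc r' * z * r'⁻¹ * z = r' * (z * r'⁻¹ * z⁻¹) := by rw [hzi]; group
          _ = r' * (z * r' * z⁻¹)⁻¹ := by group
          _ = r' * (cp * cc * cq * r')⁻¹ := by rw [← f5, ← f4]
          _ = _ := by group
      rw [h6, hxinv _ hc1]; exact hc1)
    refine hrz ?_
    have hqz : Commute (q * p) z := ((hQ.central q hq).mul_right (hQ.central p hp)).symm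
    have h7 : Commute ((q * p)⁻¹ * r' * (q * p)) z := (hqz.inv_left.mul_left hcom).mul_left hqz
    rwa [hr', show (q * p)⁻¹ * (q * p * r * (q * p)⁻¹) * (q * p) = r by group] at h7
  · push Not at hP
    have hQcard : Nat.card Q ≤ 8 := by
      let S : Finset G := {1, z, x, z * x, y⁻¹, y⁻¹ * z, y⁻¹ * x, y⁻¹ * (z * x)}
      have hsub : (Q : Set G) ⊆ S := by
        intro a ha
        have four : ∀ p ∈ Q, Commute p x → p = 1 ∨ p = z ∨ p = x ∨ p = z * x := fun p hp hpx =>
          hQ.double_centralizer hg hx1 hxz hp hpx fun q hq hqx => hP p hp q hq hpx hqx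
        rcases hQ.commute_or hy hyx ha hg with h | h
        · rcases four a ha h with rfl | rfl | rfl | rfl <;> simp [S]
        · have e : a = y⁻¹ * (y * a) := by group
          rcases four _ (mul_mem hy ha) h with h' | h' | h' | h' <;> rw [h'] at e <;> rw [e] <;> simp [S]
      calc Nat.card Q = (Q : Set G).ncard := rfl
        _ ≤ (S : Set G).ncard := Set.ncard_le_ncard hsub S.finite_toSet
        _ ≤ 8 := by
          rw [Set.ncard_coe_finset]
          exact le_trans (Finset.card_insert_le _ _) (Nat.succ_le_succ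
            (le_trans (Finset.card_insert_le _ _) (Nat.succ_le_succ
            (le_trans (Finset.card_insert_le _ _) (Nat.succ_le_succ
            (le_trans (Finset.card_insert_le _ _) (Nat.succ_le_succ
            (le_trans (Finset.card_insert_le _ _) (Nat.succ_le_succ
            (le_trans (Finset.card_insert_le _ _) (Nat.succ_le_succ
            (le_trans (Finset.card_insert_le _ _) (Nat.succ_le_succ
              (Finset.card_singleton _).le)))))))))))))
    have hRcard : Nat.card R ≤ 8 := by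
      rw [hRdef, Subgroup.card_map_of_injective (MulAut.conj g).injective]; exact hQcard
    set v := u r with hv
    have hvR : v ∈ R := huR r hr
    have hvz : Commute v z := huA r hr
    have hvX : v ≠ 1 ∧ v ≠ x := ⟨fun h => hrz (hsmall r hr (Or.inl h)), fun h => hrz (hsmall r hr (Or.inr h))⟩
    have e0 : z * r⁻¹ * z = r⁻¹ * v := by simp only [hv, u]; group
    have e1 : z * r * z = v⁻¹ * r := by
      rw [show z * r * z = (z⁻¹ * r⁻¹ * z⁻¹)⁻¹ by group, hzi, e0]; group
    have hvv : v * v = 1 := by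
      have h2 : z * v * z = v⁻¹ := by
        have : v⁻¹ = z⁻¹ * r * z⁻¹ * r⁻¹ := by simp only [hv, u]; group
        rw [this, hzi]; simp only [hv, u, mul_assoc]; rw [hQ.sq_z, mul_one]
      rw [← hvz.eq, mul_assoc, hQ.sq_z, mul_one] at h2
      nth_rewrite 2 [h2]
      exact mul_inv_cancel v
    have hvi : v⁻¹ = v := inv_eq_of_mul_eq_one_right hvv
    rw [hvi] at e1
    have hrv : Commute r v := by
      have hfix : z * (r * r) * z = r * r := by
        rcases hR.sq r hr with h | h <;> rw [h]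
        · rw [mul_one, hQ.sq_z]
        · rw [hzx.eq, mul_assoc, hQ.sq_z, mul_one]
      have h2 : (z * r * z) * (z * r * z) = r * r := by
        calc (z * r * z) * (z * r * z) = z * r * (z * z) * r * z := by group
          _ = z * (r * r) * z := by rw [hQ.sq_z]; group
          _ = _ := hfix
      rw [e1, ← mul_assoc, mul_left_inj] at h2
      show r * v = v * r
      calc r * v = (v * v) * r * v := by rw [hvv, one_mul]
        _ = v * (v * r * v) := by simp only [mul_assoc]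
        _ = v * r := by rw [h2]
    let T : Finset G := {1, x, v, x * v}
    have hTA : ∀ t ∈ T, t ∈ R ∧ Commute t z ∧ Commute t r ∧ Commute t v := by
      intro t ht
      simp only [T, Finset.mem_insert, Finset.mem_singleton] at ht
      rcases ht with rfl | rfl | rfl | rfl
      · exact ⟨one_mem R, Commute.one_left _, Commute.one_left _, Commute.one_left _⟩
      · exact ⟨hR.mem, hzx.symm, hR.central r hr, hR.central v hvR⟩
      · exact ⟨hvR, hvz, hrv.symm, Commute.refl v⟩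
      · exact ⟨mul_mem hR.mem hvR, hzx.symm.mul_left hvz, (hR.central r hr).mul_left hrv.symm,
          (hR.central v hvR).mul_left (Commute.refl v)⟩
    have hTc : T.card = 4 := by
      have n1 : x * v ≠ 1 := fun h => hvX.2 (by rw [eq_inv_of_mul_eq_one_right h, hxi])
      have n2 : x * v ≠ x := fun h => hvX.1 (mul_eq_left.1 h)
      have n3 : x * v ≠ v := fun h => hx1 (mul_eq_right.1 h)
      simp [T, hx1.symm, hvX.1.symm, hvX.2.symm, n1.symm, n2.symm, n3.symm]
    let U : Finset G := T ∪ T.image (· * r)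
    have hdis : Disjoint T (T.image (· * r)) := by
      rw [Finset.disjoint_left]
      intro t ht ht'
      obtain ⟨t', ht', e⟩ := Finset.mem_image.1 ht'
      refine hrz ?_
      rw [show r = t'⁻¹ * t by rw [← e]; group]
      exact (hTA t' ht').2.1.inv_left.mul_left (hTA t ht).2.1
    have hUR : (U : Set G) ⊆ R := by
      intro w hw
      rcases Finset.mem_union.1 hw with h | h
      · exact (hTA w h).1
      · obtain ⟨t, ht, rfl⟩ := Finset.mem_image.1 h; exact mul_mem (hTA t ht).1 hr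
    have hUc : U.card = 8 := by
      rw [Finset.card_union_of_disjoint hdis, Finset.card_image_of_injective _ (mul_left_injective r), hTc]
    have hall : (U : Set G) = R := Set.eq_of_subset_of_ncard_le hUR (by
      rw [Set.ncard_coe_finset, hUc]; exact hRcard) (Set.toFinite _)
    have hvcen : v = 1 ∨ v = x := hR.cent v fun a ha => by
      have ha' : a ∈ U := by rw [← Finset.mem_coe, hall]; exact ha
      rcases Finset.mem_union.1 ha' with h | h
      · exact (hTA a h).2.2.2.symm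
      · obtain ⟨t, ht, rfl⟩ := Finset.mem_image.1 h
        exact (hTA t ht).2.2.2.symm.mul_right hrv.symm
    exact hvcen.elim hvX.1 hvX.2

/-- No odd subgroup is normalized when the centre lies in the 2-core of another involution centralizer. -/
theorem odd_eq_bot [Finite G] {b : G} (hb : b ∈ Q) (hb2 : b * b = 1) (hbz : b ≠ z) (hb1 : b ≠ 1)
    {W : Subgroup G} (hW : IsPGroup 2 W) (hzW : z ∈ W)
    (hWn : ∀ c : G, Commute c b → c ∈ Subgroup.normalizer (W : Set G))
    {K : Subgroup G} (hK : Odd (Nat.card K)) (hQK : Q ≤ Subgroup.normalizer (K : Set G)) : K = ⊥ := by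
  classical
  have hcop : ∀ {S : Subgroup G}, IsPGroup 2 S → ∀ w ∈ S, w ∈ K → w = 1 := by
    intro S hS w hw hwK
    obtain ⟨k, hk⟩ := hS ⟨w, hw⟩
    refine orderOf_eq_one_iff.1 (Nat.eq_one_of_dvd_coprimes (Nat.Coprime.pow_left k (Nat.coprime_two_left.2 hK))
      (orderOf_dvd_of_pow_eq_one (congrArg Subtype.val hk : w ^ 2 ^ k = 1)) ?_)
    rw [← Subgroup.orderOf_mk w hwK]; exact orderOf_dvd_natCard _
  have hcz : ∀ w ∈ K, Commute w z → w = 1 := by
    intro w hw hwz
    have hwn := hQ.norm w hwz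
    rcases hQ.cent w fun q hq => mul_inv_eq_iff_eq_mul.1 (mul_inv_eq_one.1 (hcop hQ.two _
      (mul_mem ((Subgroup.mem_normalizer_iff.1 hwn q).1 hq) (inv_mem hq)) (by
        rw [show w * q * w⁻¹ * q⁻¹ = w * (q * w⁻¹ * q⁻¹) by group]
        exact mul_mem hw ((Subgroup.mem_normalizer_iff.1 (hQK hq) _).1 (inv_mem hw))))) with h | h
    · exact h
    · exact hcop hQ.two w (h ▸ hQ.mem) hw
  have hcb : ∀ w ∈ K, Commute w b → w = 1 := by
    intro w hw hwb
    refine hcz w hw (mul_inv_eq_iff_eq_mul.1 (mul_inv_eq_one.1 (hcop hW _ ?_ ?_)))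
    · rw [show w * z * w⁻¹ * z⁻¹ = (w * z * w⁻¹) * z⁻¹ by group]
      exact mul_mem ((Subgroup.mem_normalizer_iff.1 (hWn w hwb) z).1 hzW) (inv_mem hzW)
    · rw [show w * z * w⁻¹ * z⁻¹ = w * (z * w⁻¹ * z⁻¹) by group]
      exact mul_mem hw ((Subgroup.mem_normalizer_iff.1 (hQK hQ.mem) _).1 (inv_mem hw))
  have hinv : ∀ t ∈ Q, t * t = 1 → (∀ w ∈ K, Commute w t → w = 1) → ∀ w ∈ K, t * w * t⁻¹ = w⁻¹ := by
    intro t ht ht2 hfix w hw
    let φ : K → K := fun v => ⟨t * v * t⁻¹, (Subgroup.mem_normalizer_iff.1 (hQK ht) v).1 v.2⟩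
    let φh : K →* K := MonoidHom.mk' φ fun a c => Subtype.ext (by
      show t * ((a : G) * c) * t⁻¹ = t * a * t⁻¹ * (t * c * t⁻¹); group)
    have h1 : MonoidHom.FixedPointFree φh := fun v hv =>
      Subtype.ext (hfix v v.2 (mul_inv_eq_iff_eq_mul.1 (congrArg Subtype.val hv)).symm)
    have h2 : Function.Involutive φh := fun v => Subtype.ext (by
      show t * (t * v * t⁻¹) * t⁻¹ = v
      rw [show t * (t * (v : G) * t⁻¹) * t⁻¹ = (t * t) * v * (t * t)⁻¹ by group, ht2]; simp)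
    have h3 := congrFun (h1.coe_eq_inv_of_involutive h2) ⟨w, hw⟩
    exact congrArg Subtype.val h3
  have hz' := hinv z hQ.mem hQ.sq_z hcz
  have hb' := hinv b hb hb2 hcb
  obtain ⟨y, hy, hyb⟩ := hQ.exists_move hb hb1 hbz
  rw [eq_bot_iff]
  intro w hw
  have hfix : Commute (z * b) w := mul_inv_eq_iff_eq_mul.1 (by
    calc z * b * w * (z * b)⁻¹ = z * (b * w * b⁻¹) * z⁻¹ := by group
      _ = w := by rw [hb' w hw, hz' _ (inv_mem hw), inv_inv])
  have hw' : y⁻¹ * w * y ∈ K := by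
    have := (Subgroup.mem_normalizer_iff.1 (hQK (inv_mem hy)) w).1 hw
    rwa [inv_inv] at this
  have h4 : Commute (y⁻¹ * w * y) b := by
    have h := (Commute.conj_iff y⁻¹).2 hfix.symm
    rw [← hyb] at h
    simpa [mul_assoc] using h
  rw [Subgroup.mem_bot]
  calc w = y * (y⁻¹ * w * y) * y⁻¹ := by group
    _ = 1 := by rw [hcb _ hw' h4]; simp

theorem le_centralizer' : Q ≤ Subgroup.centralizer ({z} : Set G) := fun a ha =>
  Subgroup.mem_centralizer_singleton_iff.2 (hQ.central a ha).symm.eq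

/-- `Q` lies in the 2-core of the centralizer of its centre. -/
theorem le_core [Finite G] :
    Q ≤ (Cfsg.pCore 2 (Subgroup.centralizer ({z} : Set G))).map (Subgroup.centralizer ({z} : Set G)).subtype := by
  have hle := hQ.le_centralizer'
  intro a ha
  refine ⟨⟨a, hle ha⟩, ?_, rfl⟩
  refine Lib.Core.le_pCore' ((Subgroup.normal_subgroupOf_iff_le_normalizer hle).2 fun c hc =>
    hQ.norm c (Subgroup.mem_centralizer_singleton_iff.1 hc)) (hQ.two.of_equiv (Subgroup.subgroupOfEquivOfLe hle).symm) ?_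
  exact ha

end Ctx

theorem core_normalized [Finite G] (b : G) : ∀ c : G, Commute c b →
    c ∈ Subgroup.normalizer (((Cfsg.pCore 2 (Subgroup.centralizer ({b} : Set G))).map
      (Subgroup.centralizer ({b} : Set G)).subtype : Subgroup G) : Set G) := by
  intro c hc
  refine Subgroup.mem_normalizer_fintype fun w hw => ?_
  obtain ⟨v, hv, rfl⟩ := hw
  exact ⟨⟨c, Subgroup.mem_centralizer_singleton_iff.2 hc.eq⟩ * v *
    ⟨c, Subgroup.mem_centralizer_singleton_iff.2 hc.eq⟩⁻¹, Subgroup.Normal.conj_mem inferInstance v hv _, rfl⟩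

end Cfsg.Lib.Extra
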