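import Mathlib.GroupTheory.Index
import Mathlib.GroupTheory.Transfer
import Mathlib.Algebra.Group.Hom.Defs
import Mathlib.Data.Fintype.Card
import Mathlib.GroupTheory.Coset.Card
import Mathlib.Tactic.Ring
import Mathlib.Tactic.Linarith
import Mathlib.Tactic.Push

/-!
# Nilpotent endomorphisms of 2-groups with a single Jordan block
-/

set_option autoImplicit false

namespace Cfsg.Lib.Extra.Endo

variable {M : Type*} [CommGroup M] [Finite M] (g : M →* M)

/-- The `i`-th iterate as a homomorphism. -/
def iter (i : ℕ) : M →* M where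
  toFun := g^[i]
  map_one' := iterate_map_one g i
  map_mul' := iterate_map_mul g i

omit [Finite M] in
theorem iter_apply (i : ℕ) (x : M) : iter g i x = g^[i] x := rfl

omit [Finite M] in
theorem range_antitone {i j : ℕ} (h : i ≤ j) : (iter g j).range ≤ (iter g i).range := by
  rintro _ ⟨x, rfl⟩
  refine ⟨g^[j - i] x, ?_⟩
  rw [iter_apply, iter_apply, ← Function.iterate_add_apply]
  congr 2
  omega

omit [Finite M] in
theorem range_zero : (iter g 0).range = ⊤ := eq_top_iff.2 fun x _ => ⟨x, rfl⟩

omit [Finite M] in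
theorem eq_one_of_stable {N : ℕ} (hnil : ∀ x, g^[N] x = 1) {i : ℕ}
    (h : ∀ x, ∃ y, g^[i] x = g^[i + 1] y) : ∀ x, g^[i] x = 1 := by
  have key : ∀ n x, ∃ y, g^[i] x = g^[i + n] y := by
    intro n
    induction n with
    | zero => exact fun x => ⟨x, rfl⟩
    | succ n ih =>
      intro x
      obtain ⟨y, hy⟩ := ih x
      obtain ⟨w, hw⟩ := h y
      refine ⟨w, hy.trans ?_⟩
      rw [show i + n = n + i by omega, Function.iterate_add_apply, hw, ← Function.iterate_add_apply]
      congr 1; omega
  intro x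
  obtain ⟨y, hy⟩ := key N x
  rw [hy, Function.iterate_add_apply, hnil, iterate_map_one]

omit [Finite M] in
theorem card_le_of_step {S T : Subgroup M} [Finite M] (f : Bool → T → M)
    (hf : ∀ x ∈ S, ∃ b y, x = f b y) : Nat.card S ≤ 2 * Nat.card T := by
  have hex : ∀ x : S, ∃ p : Bool × T, (x : M) = f p.1 p.2 := fun x => by
    obtain ⟨b, y, h⟩ := hf x x.2
    exact ⟨(b, y), h⟩
  choose p hp using hex
  have := Nat.card_le_card_of_injective p fun a b hab => Subtype.ext (by rw [hp a, hp b, hab])
  rwa [Nat.card_prod, Nat.card_eq_fintype_card (α := Bool), Fintype.card_bool] at this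

/-- A cyclic module of length at most `k` has order at most `2 ^ k`. -/
theorem card_le_of_cyclic {N : ℕ} (hnil : ∀ x, g^[N] x = 1) {c : M}
    (hgen : ∀ x, ∃ y, x = g y ∨ x = c * g y) {k : ℕ} (hk : g^[k] c = 1) : Nat.card M ≤ 2 ^ k := by
  have hone : ∀ x, g^[k] x = 1 := eq_one_of_stable g hnil fun x => by
    obtain ⟨y, hy | hy⟩ := hgen x
    · exact ⟨y, by rw [hy, ← Function.iterate_succ_apply]⟩
    · exact ⟨y, by rw [hy, iterate_map_mul, hk, one_mul, ← Function.iterate_succ_apply]⟩
  have step : ∀ i, Nat.card (iter g i).range ≤ 2 * Nat.card (iter g (i + 1)).range := by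
    intro i
    refine card_le_of_step (fun b y => (if b then g^[i] c else 1) * (y : M)) ?_
    rintro _ ⟨x, rfl⟩
    obtain ⟨y, hy | hy⟩ := hgen x
    · refine ⟨false, ⟨_, y, rfl⟩, ?_⟩
      simp [iter_apply, hy, Function.iterate_succ_apply]
    · refine ⟨true, ⟨_, y, rfl⟩, ?_⟩
      simp [iter_apply, hy, iterate_map_mul, Function.iterate_succ_apply]
  have key : ∀ i, Nat.card M ≤ 2 ^ i * Nat.card (iter g i).range := by
    intro i
    induction i with
    | zero => rw [range_zero, Subgroup.card_top]; simp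
    | succ i ih =>
      refine ih.trans ((Nat.mul_le_mul_left _ (step i)).trans_eq ?_)
      rw [pow_succ, mul_assoc]
  have hbot : (iter g k).range = ⊥ := eq_bot_iff.2 fun _ ⟨x, hx⟩ =>
    Subgroup.mem_bot.2 (hx ▸ hone x)
  have := key k
  rwa [hbot, Subgroup.card_bot, mul_one] at this

/-- A nilpotent endomorphism of a group of order `2 ^ d` has `d`-th iterate trivial. -/
theorem iterate_card {N : ℕ} (hnil : ∀ x, g^[N] x = 1) {d : ℕ} (hd : Nat.card M = 2 ^ d) :
    ∀ x, g^[d] x = 1 := by
  have key : ∀ i, Nat.card (iter g i).range * 2 ^ i ≤ 2 ^ d ∨ (iter g i).range = ⊥ := by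
    intro i
    induction i with
    | zero => left; rw [range_zero, Subgroup.card_top, hd]; simp
    | succ i ih =>
      by_cases hb : (iter g (i + 1)).range = ⊥
      · exact Or.inr hb
      rcases ih with ih | ih
      · left
        have hle := range_antitone g (i.le_succ)
        have hne : (iter g (i + 1)).range ≠ (iter g i).range := fun h => hb (eq_bot_iff.2 (by
          rintro _ ⟨x, rfl⟩
          refine Subgroup.mem_bot.2 ?_
          rw [iter_apply, Function.iterate_succ_apply]
          refine eq_one_of_stable g hnil (fun u => ?_) _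
          obtain ⟨w, hw⟩ : g^[i] u ∈ (iter g (i + 1)).range := h.symm ▸ ⟨u, rfl⟩
          exact ⟨w, hw.symm⟩))
        obtain ⟨j, hj⟩ := Subgroup.card_dvd_of_le hle
        have hj2 : 2 ≤ j := by
          rcases j with _ | _ | j
          · have : 0 < Nat.card (iter g i).range := Nat.card_pos
            omega
          · exact absurd (Subgroup.eq_of_le_of_card_ge hle (hj.trans (mul_one _)).le) hne
          · omega
        calc Nat.card (iter g (i + 1)).range * 2 ^ (i + 1)
            = Nat.card (iter g (i + 1)).range * 2 * 2 ^ i := by rw [pow_succ]; ring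
          _ ≤ Nat.card (iter g (i + 1)).range * j * 2 ^ i :=
            Nat.mul_le_mul_right _ (Nat.mul_le_mul_left _ hj2)
          _ ≤ 2 ^ d := hj ▸ ih
      · exact Or.inr (eq_bot_iff.2 ((range_antitone g i.le_succ).trans ih.le))
  have hbot : (iter g d).range = ⊥ := by
    rcases key d with h | h
    · refine Subgroup.card_eq_one.1 (le_antisymm ?_ Nat.card_pos)
      exact Nat.le_of_mul_le_mul_right (by rwa [one_mul]) (pow_pos (by norm_num) d)
    · exact h
  intro x
  exact Subgroup.mem_bot.1 (hbot ▸ ⟨x, rfl⟩ : g^[d] x ∈ (⊥ : Subgroup M))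

/-- With kernel of order two, the kernel is the image of the last iterate. -/
theorem ker_mem_range {N : ℕ} (hnil : ∀ x, g^[N] x = 1) {e : M} (he : e ≠ 1) (hge : g e = 1)
    (hker : ∀ x, g x = 1 → x = 1 ∨ x = e) {m : ℕ} (hm : Nat.card M = 2 ^ m) :
    ∃ v, g^[m - 1] v = e := by
  classical
  have hex : ∃ j, ∀ x, g^[j] x = 1 := ⟨N, hnil⟩
  have h0 : Nat.find hex ≠ 0 := fun h => he (by have := Nat.find_spec hex e; rwa [h] at this)
  obtain ⟨j, hj⟩ := Nat.exists_eq_succ_of_ne_zero h0
  obtain ⟨v, hv⟩ : ∃ v, g^[j] v ≠ 1 := by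
    have := Nat.find_min hex (show j < Nat.find hex by omega)
    push Not at this
    exact this
  have hlast : ∀ x, g^[j + 1] x = 1 := fun x => by
    have := Nat.find_spec hex x
    rwa [hj] at this
  have hve : g^[j] v = e :=
    (hker _ (by rw [← Function.iterate_succ_apply' g]; exact hlast v)).resolve_left hv
  have step : ∀ i, Nat.card (iter g i).range ≤ 2 * Nat.card (iter g (i + 1)).range := by
    intro i
    have hpre : ∀ y : (iter g (i + 1)).range, ∃ x ∈ (iter g i).range, g x = y := by
      rintro ⟨_, u, rfl⟩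
      exact ⟨g^[i] u, ⟨u, rfl⟩, (Function.iterate_succ_apply' g i u).symm⟩
    choose sec hsec using hpre
    refine card_le_of_step (fun b y => (if b then e else 1) * sec y) ?_
    rintro _ ⟨u, rfl⟩
    have hy : g^[i + 1] u ∈ (iter g (i + 1)).range := ⟨u, rfl⟩
    have hg : g (iter g i u * (sec ⟨_, hy⟩)⁻¹) = 1 := by
      rw [map_mul, map_inv, (hsec ⟨_, hy⟩).2, iter_apply, ← Function.iterate_succ_apply' g, mul_inv_cancel]
    rcases hker _ hg with h | h
    · exact ⟨false, ⟨_, hy⟩, by rw [mul_inv_eq_one] at h; simp [h]⟩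
    · exact ⟨true, ⟨_, hy⟩, by rw [mul_inv_eq_iff_eq_mul] at h; simpa using h⟩
  have key : ∀ i, Nat.card M ≤ 2 ^ i * Nat.card (iter g i).range := by
    intro i
    induction i with
    | zero => rw [range_zero, Subgroup.card_top]; simp
    | succ i ih =>
      refine ih.trans ((Nat.mul_le_mul_left _ (step i)).trans_eq ?_)
      rw [pow_succ, mul_assoc]
  have hbot : (iter g (j + 1)).range = ⊥ := eq_bot_iff.2 fun _ ⟨x, hx⟩ =>
    Subgroup.mem_bot.2 (hx ▸ hlast x)
  have h1 := key (j + 1)
  rw [hbot, Subgroup.card_bot, mul_one, hm] at h1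
  have h2 : m ≤ j + 1 := (Nat.pow_le_pow_iff_right (by norm_num)).1 h1
  refine ⟨g^[j - (m - 1)] v, ?_⟩
  rw [← Function.iterate_add_apply, ← hve]
  congr 2
  omega

end Cfsg.Lib.Extra.Endo
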