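import Cfsg.Agent.Lib.Extra.Large
import Cfsg.Agent.Lib.Extra.NilpotentEndo
import Mathlib.Data.Finset.Card

/-!
# An impossible configuration in the automorphism group of an extraspecial 2-group
-/

set_option autoImplicit false
set_option linter.style.haveILetI false

namespace Cfsg.Lib.Extra

open scoped commutatorElement

variable {G : Type*} [Group G] [Finite G] {Q : Subgroup G} {z : G}

omit [Finite G] in
/-- Two elements of an extraspecial group have equal commutator with everything only if congruent. -/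
theorem Ctx.mul_mem_of_same (hQ : Ctx Q z) {w₀ y₁ y₂ : G} (hy₁ : y₁ ∈ Q) (hy₂ : y₂ ∈ Q) (hw₀ : w₀ ∈ Q)
    (h₁ : ¬ Commute y₁ w₀) (h₂ : ¬ Commute y₂ w₀) : Commute (y₁ * y₂) w₀ := by
  have key : ∀ y ∈ Q, ¬ Commute y w₀ → y * w₀ * y⁻¹ = z * w₀ := fun y hy h =>
    mul_inv_eq_iff_eq_mul.1 ((hQ.comm y hy w₀ hw₀).resolve_left fun h' =>
      h (mul_inv_eq_iff_eq_mul.1 (mul_inv_eq_one.1 h')))
  refine mul_inv_eq_iff_eq_mul.1 ?_
  calc y₁ * y₂ * w₀ * (y₁ * y₂)⁻¹ = y₁ * (y₂ * w₀ * y₂⁻¹) * y₁⁻¹ := by group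
    _ = y₁ * z * w₀ * y₁⁻¹ := by rw [key y₂ hy₂ h₂]; simp only [mul_assoc]
    _ = z * (y₁ * w₀ * y₁⁻¹) := by rw [← (hQ.central y₁ hy₁).eq]; simp only [mul_assoc]
    _ = w₀ := by rw [key y₁ hy₁ h₁, ← mul_assoc, hQ.sq_z, one_mul]

/-- No element `t` with `t ^ 4 = 1` acts on `Q` with the configuration produced by the parity count
of a transfer. -/
theorem Ctx.no_bad (hQ : Ctx Q z) (hcard : 16 ≤ Nat.card Q) {t w e : G} (htz : Commute t z)
    (ht4 : t ^ 4 = 1) (hw2 : w * w = 1) (hwz : Commute w z) (hwt : Commute w t)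
    (hab : ∀ u ∈ Q, ∀ v ∈ Q, Commute u w → Commute v w → Commute u v)
    (he : e ∈ Q) (hew : ¬ Commute e w) (hcw : Commute (t⁻¹ * e⁻¹ * t * e) w)
    (hc2 : t⁻¹ * e⁻¹ * t * e * (t⁻¹ * e⁻¹ * t * e) = z)
    (hK : ∀ x ∈ Q, Commute (t⁻¹ * x⁻¹ * t * x) w → Commute x w ∨ Commute (e * x) w) : False := by
  classical
  have htQ : ∀ x ∈ Q, t⁻¹ * x * t ∈ Q := fun x hx => by
    have := (Subgroup.mem_normalizer_iff.1 (hQ.norm t⁻¹ htz.inv_left) x).1 hx
    rwa [inv_inv] at this
  have hwQ : ∀ x ∈ Q, w * x * w ∈ Q := fun x hx => by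
    have := (Subgroup.mem_normalizer_iff.1 (hQ.norm w hwz) x).1 hx
    rwa [inv_eq_of_mul_eq_one_right hw2] at this
  have hδQ : ∀ x ∈ Q, t⁻¹ * x⁻¹ * t * x ∈ Q := fun x hx => mul_mem (htQ _ (inv_mem hx)) hx
  set c := t⁻¹ * e⁻¹ * t * e with hcdef
  clear_value c
  have hcQ : c ∈ Q := hcdef ▸ hδQ e he
  have hc1 : c ≠ 1 := fun h => hQ.ne_one (by rw [← hc2, h, one_mul])
  have hcz : c ≠ z := fun h => hQ.ne_one (by rw [← hc2, h, hQ.sq_z])
  have hsqz : ∀ x ∈ Q, t⁻¹ * (x * x) * t = x * x := fun x hx => by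
    rcases hQ.sq x hx with h | h <;> rw [h]
    · simp
    · rw [mul_assoc, htz.symm.eq, inv_mul_cancel_left]
  have hec : ¬ Commute e c := by
    intro h
    have h1 : t⁻¹ * e * t = e * c⁻¹ := by rw [hcdef]; group
    have h2 := hsqz e he
    rw [show t⁻¹ * (e * e) * t = (t⁻¹ * e * t) * (t⁻¹ * e * t) by group, h1] at h2
    have h3 : e * c⁻¹ * (e * c⁻¹) = e * e * (c * c)⁻¹ := by
      rw [mul_inv_rev, ← mul_assoc, ← mul_assoc, mul_assoc e, ← h.inv_right.eq, ← mul_assoc]
    rw [h3, hc2, mul_eq_left, inv_eq_one] at h2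
    exact hQ.ne_one h2
  -- the quotient modulo the centre
  set Z := (Subgroup.zpowers z).subgroupOf Q with hZ
  have hmemZ : ∀ x : Q, x ∈ Z ↔ (x : G) = 1 ∨ (x : G) = z := fun x => by
    constructor
    · intro h
      obtain ⟨k, hk⟩ := Subgroup.mem_zpowers_iff.1 (Subgroup.mem_subgroupOf.1 h)
      rw [← hk]
      have h2 : z ^ (2 : ℤ) = 1 := by rw [zpow_two, hQ.sq_z]
      rcases Int.even_or_odd' k with ⟨j, rfl | rfl⟩
      · exact Or.inl (by rw [zpow_mul, h2, one_zpow])
      · exact Or.inr (by rw [zpow_add_one, zpow_mul, h2, one_zpow, one_mul])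
    · rintro (h | h) <;> rw [hZ, Subgroup.mem_subgroupOf, h]
      · exact one_mem _
      · exact Subgroup.mem_zpowers z
  haveI : Z.Normal := ⟨fun x hx y => by
    have : y * x * y⁻¹ = x := by
      refine Subtype.ext ?_
      show (y : G) * x * (y : G)⁻¹ = x
      rcases (hmemZ x).1 hx with h | h <;> rw [h]
      · simp
      · rw [← (hQ.central y y.2).eq, mul_inv_cancel_right]
    rw [this]; exact hx⟩
  let mk : Q →* Q ⧸ Z := QuotientGroup.mk' Z
  letI : CommGroup (Q ⧸ Z) :=
    { (inferInstance : Group (Q ⧸ Z)) with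
      mul_comm := fun a b => by
        induction a using QuotientGroup.induction_on with
        | _ a =>
        induction b using QuotientGroup.induction_on with
        | _ b =>
        rw [← QuotientGroup.mk_mul, ← QuotientGroup.mk_mul, QuotientGroup.eq, hmemZ]
        have := hQ.comm _ (inv_mem b.2) _ (inv_mem a.2)
        simpa [mul_assoc] using this }
  have mk_eq : ∀ {x y : Q}, mk x = mk y ↔ ((x : G)⁻¹ * y = 1 ∨ (x : G)⁻¹ * y = z) := fun {x y} =>
    QuotientGroup.eq.trans (hmemZ _)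
  have mk_one : ∀ {x : Q}, mk x = 1 ↔ ((x : G) = 1 ∨ (x : G) = z) := fun {x} =>
    (QuotientGroup.eq_one_iff x).trans (hmemZ x)
  have mk_surj : ∀ q : Q ⧸ Z, ∃ x : Q, mk x = q := QuotientGroup.mk'_surjective Z
  have hsq : ∀ q : Q ⧸ Z, q * q = 1 := fun q => by
    obtain ⟨x, rfl⟩ := mk_surj q
    rw [← map_mul]; exact mk_one.2 (hQ.sq x x.2)
  have hcommA : ∀ {x : Q}, Commute (x : G) w → ∀ {y : Q}, mk y = mk x → Commute (y : G) w := by
    intro x hx y hy
    rcases mk_eq.1 hy with h | h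
    · rwa [inv_mul_eq_one.1 h]
    · have e1 : (y : G) = x * z⁻¹ := by rw [← h]; group
      rw [e1]; exact hx.mul_left hwz.symm.inv_left
  let Aq : Subgroup (Q ⧸ Z) := ((Subgroup.centralizer ({w} : Set G)).subgroupOf Q).map mk
  have hmemA : ∀ x : Q, mk x ∈ Aq ↔ Commute (x : G) w := fun x =>
    ⟨fun ⟨y, hy, hxy⟩ => hcommA (Subgroup.mem_centralizer_singleton_iff.1 hy) hxy.symm,
      fun h => ⟨x, Subgroup.mem_centralizer_singleton_iff.2 h.eq, rfl⟩⟩
  have hcbar : mk ⟨c, hcQ⟩ ∈ Aq := (hmemA _).2 hcw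
  -- the endomorphisms induced by `t` and by `w`
  let f : Q ⧸ Z →* Q ⧸ Z := QuotientGroup.lift Z
    (MonoidHom.mk' (fun x : Q => mk ⟨t⁻¹ * (x : G)⁻¹ * t * x, hδQ x x.2⟩) fun x y => by
      rw [← map_mul]
      have : (⟨t⁻¹ * ((x * y : Q) : G)⁻¹ * t * (x * y : Q), hδQ _ (x * y).2⟩ : Q) =
          ⟨t⁻¹ * (y : G)⁻¹ * t, htQ _ (inv_mem y.2)⟩ * ⟨t⁻¹ * (x : G)⁻¹ * t * x, hδQ x x.2⟩ * y := by
        refine Subtype.ext ?_
        simp only [Subgroup.coe_mul, mul_inv_rev]
        group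
      rw [this, map_mul, map_mul, mul_comm (mk ⟨t⁻¹ * (y : G)⁻¹ * t, _⟩), mul_assoc, ← map_mul, ← map_mul]
      rfl)
    (fun x hx => mk_one.2 (Or.inl (by
      show t⁻¹ * (x : G)⁻¹ * t * x = 1
      rcases (hmemZ x).1 hx with h | h <;> rw [h]
      · simp
      · rw [mul_assoc t⁻¹, htz.symm.inv_left.eq, inv_mul_cancel_left, inv_mul_cancel])))
  have hf : ∀ x : Q, f (mk x) = mk ⟨t⁻¹ * (x : G)⁻¹ * t * x, hδQ x x.2⟩ := fun x => rfl
  have hf4 : ∀ q, f^[4] q = 1 := by
    let σ : Q ⧸ Z →* Q ⧸ Z := MonoidHom.mk' (fun q => f q * q) fun a b => by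
      rw [map_mul]; exact mul_mul_mul_comm _ _ _ _
    have hσ : ∀ x : Q, σ (mk x) = mk ⟨t⁻¹ * (x : G) * t, htQ _ x.2⟩ := fun x => by
      show f (mk x) * mk x = _
      rw [hf, ← map_mul]
      refine mk_eq.2 ?_
      have h := hQ.sq _ x.2
      rcases h with h | h
      · refine Or.inl ?_
        show (t⁻¹ * (x : G)⁻¹ * t * x * x)⁻¹ * (t⁻¹ * x * t) = 1
        rw [mul_assoc _ (x : G) (x : G), h, mul_one]
        calc (t⁻¹ * (x : G)⁻¹ * t)⁻¹ * (t⁻¹ * x * t) = t⁻¹ * ((x : G) * x) * t := by group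
          _ = 1 := by rw [h]; simp
      · refine Or.inl ?_
        show (t⁻¹ * (x : G)⁻¹ * t * x * x)⁻¹ * (t⁻¹ * x * t) = 1
        rw [mul_assoc _ (x : G) (x : G), h]
        calc (t⁻¹ * (x : G)⁻¹ * t * z)⁻¹ * (t⁻¹ * x * t) = z⁻¹ * (t⁻¹ * ((x : G) * x) * t) := by group
          _ = 1 := by rw [hsqz _ x.2, h, inv_mul_cancel]
    intro q
    have hf' : ∀ q, f q = σ q * q := fun q => by
      show f q = f q * q * q
      rw [mul_assoc, hsq, mul_one]
    have h2 : ∀ q, f (f q) = σ (σ q) * q := fun q => by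
      rw [hf' (f q), hf' q, map_mul]
      calc σ (σ q) * σ q * (σ q * q) = σ (σ q) * (σ q * σ q) * q := by simp only [mul_assoc]
        _ = _ := by rw [hsq, mul_one]
    show f (f (f (f q))) = 1
    rw [h2 (f (f q)), h2 q, map_mul, map_mul]
    have h4 : σ (σ (σ (σ q))) = q := by
      obtain ⟨x, rfl⟩ := mk_surj q
      rw [hσ, hσ, hσ, hσ]
      refine congrArg mk (Subtype.ext ?_)
      show t⁻¹ * (t⁻¹ * (t⁻¹ * (t⁻¹ * (x : G) * t) * t) * t) * t = x
      rw [show t⁻¹ * (t⁻¹ * (t⁻¹ * (t⁻¹ * (x : G) * t) * t) * t) * t = (t * t * t * t)⁻¹ * x * (t * t * t * t) by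
        simp only [mul_inv_rev, mul_assoc], show t * t * t * t = t ^ 4 by simp [pow_succ, mul_assoc], ht4]
      simp
    rw [h4]
    calc q * σ (σ q) * (σ (σ q) * q) = q * (σ (σ q) * σ (σ q)) * q := by simp only [mul_assoc]
      _ = 1 := by rw [hsq, mul_one, hsq]
  have hδA : ∀ x : G, Commute x w → Commute (t⁻¹ * x⁻¹ * t * x) w := fun x hx =>
    ((hwt.symm.inv_left.mul_left hx.inv_left).mul_left hwt.symm).mul_left hx
  by_cases hsmall : Nat.card (Q ⧸ Z) ≤ 16
  · -- the commutators with `w`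
    have hcen : ∀ x ∈ Q, (w * x * w * x⁻¹ = 1 ∨ w * x * w * x⁻¹ = z) → Commute (t⁻¹ * x⁻¹ * t * x) w := by
      intro x hx h
      obtain ⟨k, hk, hkk, hwx⟩ : ∃ k, (k = 1 ∨ k = z) ∧ k * k = 1 ∧ w * x * w = k * x :=
        ⟨_, h, by rcases h with h | h <;> rw [h] <;> [exact one_mul 1; exact hQ.sq_z],
          (inv_mul_cancel_right _ _).symm⟩
      have hwinv : w⁻¹ = w := inv_eq_of_mul_eq_one_right hw2
      have hkt : Commute k t := by
        rcases hk with rfl | rfl
        exacts [Commute.one_left t, htz.symm]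
      have hkx : Commute k x := by
        rcases hk with rfl | rfl
        exacts [Commute.one_left x, hQ.central x hx]
      have hkinv : k⁻¹ = k := inv_eq_of_mul_eq_one_right hkk
      refine Commute.symm (mul_inv_eq_iff_eq_mul.1 ?_)
      calc w * (t⁻¹ * x⁻¹ * t * x) * w⁻¹
          = (w * t⁻¹ * w⁻¹) * (w * x * w⁻¹)⁻¹ * (w * t * w⁻¹) * (w * x * w⁻¹) := by group
        _ = t⁻¹ * (k * x)⁻¹ * t * (k * x) := by
            rw [hwt.inv_right.eq, hwt.eq, mul_inv_cancel_right, mul_inv_cancel_right, hwinv, hwx]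
        _ = t⁻¹ * x⁻¹ * (k * t) * (k * x) := by rw [mul_inv_rev, hkinv]; simp only [mul_assoc]
        _ = t⁻¹ * x⁻¹ * t * (k * k) * x := by rw [hkt.eq]; simp only [mul_assoc]
        _ = _ := by rw [hkk, mul_one]
    -- commutators with `w` centralize the elements fixed modulo the centre
    have hvcomm : ∀ x ∈ Q, ∀ y ∈ Q, (w * y * w * y⁻¹ = 1 ∨ w * y * w * y⁻¹ = z) →
        Commute (w * x * w * x⁻¹) y := by
      intro x hx y hy h
      set v := w * x * w * x⁻¹ with hv
      have hvQ : v ∈ Q := mul_mem (hwQ x hx) (inv_mem hx)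
      obtain ⟨k, hk, hwy⟩ : ∃ k, (k = 1 ∨ k = z) ∧ w * y * w = k * y :=
        ⟨_, h, (inv_mul_cancel_right _ _).symm⟩
      have hkc : ∀ a ∈ Q, Commute k a := fun a ha => by
        rcases hk with rfl | rfl
        exacts [Commute.one_left a, hQ.central a ha]
      have hwinv : w⁻¹ = w := inv_eq_of_mul_eq_one_right hw2
      have e1 : w * (y * x * y⁻¹ * x⁻¹) * w⁻¹ = y * x * y⁻¹ * x⁻¹ := by
        rcases hQ.comm y hy x hx with h' | h' <;> rw [h']
        · simp
        · rw [hwz.eq, mul_inv_cancel_right]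
      rw [show w * (y * x * y⁻¹ * x⁻¹) * w⁻¹ = (w * y * w⁻¹) * (w * x * w⁻¹) * (w * y * w⁻¹)⁻¹ *
        (w * x * w⁻¹)⁻¹ by group, hwinv, hwy, show w * x * w = v * x by rw [hv]; group] at e1
      have e2 : k * y * (v * x) * (k * y)⁻¹ * (v * x)⁻¹ = y * v * x * y⁻¹ * x⁻¹ * v⁻¹ := by
        have h1 : k * y * (v * x) = y * v * x * k := by
          rw [mul_assoc y v x, ← (hkc _ (mul_mem hy (mul_mem hvQ hx))).eq]; simp only [mul_assoc]
        rw [h1, (hkc y hy).eq]; group
      rw [e2] at e1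
      have e3 : y * v * x * y⁻¹ * x⁻¹ * v⁻¹ = (y * v * y⁻¹ * v⁻¹) * (y * x * y⁻¹ * x⁻¹) := by
        have hkey : Commute (y * x * y⁻¹ * x⁻¹) v⁻¹ := by
          rcases hQ.comm y hy x hx with h' | h' <;> rw [h']
          exacts [Commute.one_left _, hQ.central _ (inv_mem hvQ)]
        calc y * v * x * y⁻¹ * x⁻¹ * v⁻¹ = y * v * y⁻¹ * ((y * x * y⁻¹ * x⁻¹) * v⁻¹) := by group
          _ = _ := by rw [hkey.eq]; group
      rw [e3, mul_eq_right] at e1
      exact (mul_inv_eq_iff_eq_mul.1 (mul_inv_eq_one.1 e1)).symm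
    have hv : ∀ x ∈ Q, Commute (w * x * w * x⁻¹) w ∧
        w * x * w * x⁻¹ * (w * x * w * x⁻¹) = 1 ∧ Commute (w * x * w * x⁻¹) x := by
      intro x hx
      set v := w * x * w * x⁻¹ with hv
      have hvQ : v ∈ Q := mul_mem (hwQ x hx) (inv_mem hx)
      have hwvw : w * v * w = v⁻¹ := by
        calc w * v * w = (w * w) * x * w * x⁻¹ * w := by rw [hv]; group
          _ = x * w * x⁻¹ * w := by rw [hw2, one_mul]
          _ = v⁻¹ := by
            rw [hv, mul_inv_rev, mul_inv_rev, mul_inv_rev, inv_inv, inv_eq_of_mul_eq_one_right hw2]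
            simp only [mul_assoc]
      have hvC : w * v * w * v⁻¹ = 1 ∨ w * v * w * v⁻¹ = z := by
        rw [hwvw, ← mul_inv_rev]
        rcases hQ.sq v hvQ with h | h <;> rw [h]
        exacts [Or.inl inv_one, Or.inr hQ.inv_z]
      have hvw : Commute v w := by
        refine (hK v hvQ (hcen v hvQ hvC)).resolve_right fun h => hec ?_
        have h1 : Commute (e * v) c := hab _ (mul_mem he hvQ) c hcQ h hcw
        have h2 : Commute v c := hvcomm x hx c hcQ (Or.inl (by
          rw [← hcw.eq, mul_assoc c, hw2, mul_one, mul_inv_cancel]))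
        simpa using h1.mul_left h2.inv_left
      have hv2 : v * v = 1 := by
        have h1 : w * v * w = v := by rw [← hvw.eq, mul_assoc, hw2, mul_one]
        rw [hwvw] at h1
        exact inv_eq_iff_mul_eq_one.1 h1
      refine ⟨hvw, hv2, ?_⟩
      have h1 : w * (x * x) * w = x * x := by
        rcases hQ.sq x hx with h | h <;> rw [h]
        · rw [mul_one, hw2]
        · rw [hwz.eq, mul_assoc, hw2, mul_one]
      have h2 : v * x * (v * x) = x * x := by
        calc v * x * (v * x) = (w * x * w) * (w * x * w) := by rw [hv, inv_mul_cancel_right]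
          _ = w * x * (w * w) * x * w := by simp only [mul_assoc]
          _ = w * (x * x) * w := by rw [hw2, mul_one]; simp only [mul_assoc]
          _ = _ := h1
      have h3 : v * x * v = x := mul_right_cancel (b := x) (by rw [← h2]; simp only [mul_assoc])
      show v * x = x * v
      calc v * x = v * x * (v * v) := by rw [hv2, mul_one]
        _ = v * x * v * v := by simp only [mul_assoc]
        _ = x * v := by rw [h3]
    let W : Q ⧸ Z →* Q ⧸ Z := QuotientGroup.lift Z
      (MonoidHom.mk' (fun x : Q => mk ⟨w * x * w * (x : G)⁻¹, mul_mem (hwQ _ x.2) (inv_mem x.2)⟩) fun x y => by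
        have : (⟨w * (x * y : Q) * w * ((x * y : Q) : G)⁻¹,
              mul_mem (hwQ _ (x * y).2) (inv_mem (x * y).2)⟩ : Q) =
            ⟨w * x * w * (x : G)⁻¹, mul_mem (hwQ _ x.2) (inv_mem x.2)⟩ *
              (x * ⟨w * y * w * (y : G)⁻¹, mul_mem (hwQ _ y.2) (inv_mem y.2)⟩ * x⁻¹) := by
          refine Subtype.ext ?_
          simp only [Subgroup.coe_mul, Subgroup.coe_inv, mul_inv_rev]
          calc w * ((x : G) * y) * w * ((y : G)⁻¹ * (x : G)⁻¹)
              = w * x * (w * w) * (y * w * ((y : G)⁻¹ * (x : G)⁻¹)) := by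
                rw [hw2, mul_one]; simp only [mul_assoc]
            _ = _ := by group
        rw [this, map_mul, map_mul, map_mul, map_inv]
        congr 1
        rw [mul_comm (mk x), mul_inv_cancel_right])
      (fun x hx => mk_one.2 (Or.inl (by
        show w * (x : G) * w * (x : G)⁻¹ = 1
        rcases (hmemZ x).1 hx with h | h <;> rw [h]
        · rw [mul_one, hw2, inv_one, mul_one]
        · rw [hwz.eq, mul_assoc z, hw2, mul_one, mul_inv_cancel])))
    have hW : ∀ x : Q, W (mk x) = mk ⟨w * x * w * (x : G)⁻¹, mul_mem (hwQ _ x.2) (inv_mem x.2)⟩ :=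
      fun x => rfl
    have hAker : Aq ≤ W.ker := by
      intro q hq
      obtain ⟨x, rfl⟩ := mk_surj q
      refine MonoidHom.mem_ker.2 ((hW x).trans (mk_one.2 (Or.inl ?_)))
      show w * (x : G) * w * (x : G)⁻¹ = 1
      rw [← ((hmemA x).1 hq).eq, mul_assoc _ w w, hw2, mul_one, mul_inv_cancel]
    have hWA : W.range ≤ Aq := by
      rintro _ ⟨q, rfl⟩
      obtain ⟨x, rfl⟩ := mk_surj q
      rw [hW, hmemA]
      exact (hv x x.2).1
    have hlt : W.range < Aq := by
      refine lt_of_le_of_ne hWA fun h => ?_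
      obtain ⟨q, hq⟩ := h.symm ▸ hcbar
      obtain ⟨x, rfl⟩ := mk_surj q
      rw [hW] at hq
      have hvv := (hv x x.2).2.1
      rcases mk_eq.1 hq with h' | h'
      · have e1 : w * x * w * (x : G)⁻¹ = c := inv_mul_eq_one.1 h'
        rw [← e1, hvv] at hc2
        exact hQ.ne_one hc2.symm
      · have e1 : c = w * x * w * (x : G)⁻¹ * z := eq_mul_of_inv_mul_eq h'
        rw [e1, mul_assoc, ← mul_assoc z, (hQ.central _ (mul_mem (hwQ _ x.2) (inv_mem x.2))).eq,
          mul_assoc _ z z, hQ.sq_z, mul_one, hvv] at hc2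
        exact hQ.ne_one hc2.symm
    have himg : Nat.card W.range ≤ 2 := by
      have h1 := W.ker.card_mul_index
      rw [Subgroup.index_ker] at h1
      obtain ⟨j, hj⟩ := Subgroup.card_dvd_of_le hlt.le
      have hj2 : 2 ≤ j := by
        rcases j with _ | _ | j
        · have := Nat.card_pos (α := Aq); omega
        · exact absurd (Subgroup.eq_of_le_of_card_ge hlt.le (hj.trans (mul_one _)).le) hlt.ne
        · omega
      have h2 : Nat.card Aq ≤ Nat.card W.ker := Subgroup.card_le_of_le hAker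
      by_contra hcon
      push Not at hcon
      have h3 : 6 ≤ Nat.card W.range * j := (Nat.mul_le_mul hcon hj2 : (2 + 1) * 2 ≤ _)
      have h4 : 6 * 3 ≤ Nat.card W.ker * Nat.card W.range := Nat.mul_le_mul (by omega) hcon
      omega
    have hWone : ∀ x : Q, W (mk x) = 1 →
        (w * (x : G) * w * (x : G)⁻¹ = 1 ∨ w * (x : G) * w * (x : G)⁻¹ = z) :=
      fun x hx => mk_one.1 ((hW x).symm.trans hx)
    by_cases htriv : ∀ q, W q = 1
    · -- `C(w)` meets `Q` in an abelian subgroup of index two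
      have hall : ∀ x ∈ Q, Commute x w ∨ Commute (e * x) w := fun x hx =>
        hK x hx (hcen x hx (hWone ⟨x, hx⟩ (htriv _)))
      have hce : e * c * e⁻¹ = z * c := mul_inv_eq_iff_eq_mul.1
        ((hQ.comm e he c hcQ).resolve_left fun h => hec (mul_inv_eq_iff_eq_mul.1 (mul_inv_eq_one.1 h)))
      have hsub : ∀ a ∈ Q, Commute a c → a = 1 ∨ a = z ∨ a = c ∨ a = z * c := by
        intro a ha hac
        have hA : ∀ p ∈ Q, Commute p c → Commute p w := fun p hp hpc =>
          (hall p hp).resolve_right fun h => hec (by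
            simpa using (hab _ (mul_mem he hp) c hcQ h hcw).mul_left hpc.inv_left)
        exact hQ.double_centralizer hcQ hc1 hcz ha hac fun p hp hpc =>
          hab a ha p hp (hA a ha hac) (hA p hp hpc)
      let s : Finset G := [1, z, c, z * c, e⁻¹ * 1, e⁻¹ * z, e⁻¹ * c, e⁻¹ * (z * c)].toFinset
      have hle : (Q : Set G) ⊆ s := by
        intro a ha
        rcases hQ.commute_or he hce ha hcQ with h | h
        · rcases hsub a ha h with e1 | e1 | e1 | e1 <;> simp [s, e1]
        · have := hsub (e * a) (mul_mem he ha) h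
          rw [← eq_inv_mul_iff_mul_eq, ← eq_inv_mul_iff_mul_eq, ← eq_inv_mul_iff_mul_eq,
            ← eq_inv_mul_iff_mul_eq] at this
          rcases this with e1 | e1 | e1 | e1 <;> simp [s, e1]
      have h1 : Nat.card Q ≤ Nat.card s := Nat.card_mono (Finset.finite_toSet s) hle
      rw [Nat.card_eq_fintype_card (α := s), Fintype.card_coe] at h1
      have h8 : s.card ≤ 8 := (List.toFinset_card_le _).trans_eq rfl
      omega
    · -- the single commutator with `w` is central
      push Not at htriv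
      obtain ⟨q, hq⟩ := htriv
      obtain ⟨x, rfl⟩ := mk_surj q
      set v := w * (x : G) * w * (x : G)⁻¹ with hvdef
      have hvQ : v ∈ Q := mul_mem (hwQ _ x.2) (inv_mem x.2)
      have hrange : ∀ q, W q = 1 ∨ W q = W (mk x) := by
        intro q
        by_contra hcon
        push Not at hcon
        have hsub : ({1, W (mk x), W q} : Set (Q ⧸ Z)) ⊆ W.range := by
          rintro _ (rfl | rfl | rfl)
          exacts [one_mem _, ⟨_, rfl⟩, ⟨_, rfl⟩]
        have h3 := Set.ncard_le_ncard hsub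
        rw [Set.ncard_eq_three.2 ⟨_, _, _, hq.symm, hcon.1.symm, hcon.2.symm, rfl⟩,
          ← Nat.card_coe_set_eq] at h3
        exact absurd (h3.trans himg) (by norm_num)
      refine hq ((hW x).trans (mk_one.2 ?_))
      refine hQ.cent v fun y hy => ?_
      rcases hrange (mk ⟨y, hy⟩) with h | h
      · exact hvcomm x x.2 y hy (hWone _ h)
      · have h' : W (mk (⟨y, hy⟩ * x)) = 1 := by rw [map_mul, map_mul, h, hsq]
        have h1 := hvcomm x x.2 (y * x) (mul_mem hy x.2) (hWone _ h')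
        simpa using h1.mul_right (hv x x.2).2.2.inv_right
  · -- nilpotency
    push Not at hsmall
    let g : Aq →* Aq := (f.comp Aq.subtype).codRestrict Aq (by
      rintro ⟨q, hq⟩
      obtain ⟨x, rfl⟩ := mk_surj q
      show f (mk x) ∈ Aq
      rw [hf, hmemA]
      exact hδA _ ((hmemA x).1 hq))
    have hgval : ∀ (i : ℕ) (q : Aq), ((g^[i] q : Aq) : Q ⧸ Z) = f^[i] q := by
      intro i
      induction i with
      | zero => intro q; rfl
      | succ i ih => intro q; rw [Function.iterate_succ_apply, ih, Function.iterate_succ_apply]; rfl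
    let h : (Q ⧸ Z) ⧸ Aq →* (Q ⧸ Z) ⧸ Aq := QuotientGroup.map Aq Aq f fun q hq => (g ⟨q, hq⟩).2
    have hh : ∀ q : Q ⧸ Z, h (q : (Q ⧸ Z) ⧸ Aq) = ((f q : Q ⧸ Z) : (Q ⧸ Z) ⧸ Aq) := fun q => rfl
    have hhval : ∀ (i : ℕ) (q : Q ⧸ Z), h^[i] (q : (Q ⧸ Z) ⧸ Aq) = ((f^[i] q : Q ⧸ Z) : (Q ⧸ Z) ⧸ Aq) := by
      intro i
      induction i with
      | zero => intro q; rfl
      | succ i ih =>
        intro q
        rw [Function.iterate_succ_apply, Function.iterate_succ_apply, hh, ih]
    let ebar : (Q ⧸ Z) ⧸ Aq := ((mk ⟨e, he⟩ : Q ⧸ Z) : (Q ⧸ Z) ⧸ Aq)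
    have hebar : ebar ≠ 1 := fun h' => hew ((hmemA ⟨e, he⟩).1 ((QuotientGroup.eq_one_iff _).1 h'))
    have hge : h ebar = 1 := by
      refine (hh _).trans ?_
      rw [QuotientGroup.eq_one_iff, hf, hmemA]
      simp only [← hcdef]
      exact hcw
    have hker : ∀ q, h q = 1 → q = 1 ∨ q = ebar := by
      intro q hq
      induction q using QuotientGroup.induction_on with
      | _ q =>
      obtain ⟨x, rfl⟩ := mk_surj q
      rw [hh, QuotientGroup.eq_one_iff, hf, hmemA] at hq
      rcases hK x x.2 hq with h' | h'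
      · exact Or.inl ((QuotientGroup.eq_one_iff _).2 ((hmemA x).2 h'))
      · refine Or.inr (QuotientGroup.eq.2 ?_)
        have h'' := (hmemA (⟨e, he⟩ * x)).2 h'
        rw [map_mul, mul_comm] at h''
        rwa [inv_eq_of_mul_eq_one_right (hsq _)]
    have hP : IsPGroup 2 (Q ⧸ Z) := hQ.two.to_quotient Z
    haveI : Fact (Nat.Prime 2) := ⟨Nat.prime_two⟩
    obtain ⟨d, hd⟩ := (hP.to_subgroup Aq).exists_card_eq
    obtain ⟨m, hm⟩ := (hP.to_quotient Aq).exists_card_eq
    have hdm : 5 ≤ d + m := by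
      have h1 : Nat.card (Q ⧸ Z) = 2 ^ (d + m) := by
        rw [Subgroup.card_eq_card_quotient_mul_card_subgroup Aq, hd, hm, ← pow_add, add_comm]
      by_contra hcon
      push Not at hcon
      have : (2 : ℕ) ^ (d + m) ≤ 2 ^ 4 := Nat.pow_le_pow_right (by norm_num) (by omega)
      omega
    have hh4 : ∀ q, h^[4] q = 1 := by
      intro q
      induction q using QuotientGroup.induction_on with
      | _ q => rw [hhval, hf4, QuotientGroup.mk_one]
    obtain ⟨v, hv⟩ := Endo.ker_mem_range h hh4 hebar hge hker hm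
    have hg4 : ∀ q : Aq, g^[4] q = 1 := fun q => Subtype.ext (by rw [hgval, hf4]; rfl)
    -- the kernel of `g` has order at most two, so `c` generates
    let cA : Aq := ⟨mk ⟨c, hcQ⟩, hcbar⟩
    have hcnot : cA ∉ g.range := by
      rintro ⟨⟨q, hq⟩, hgq⟩
      obtain ⟨x, rfl⟩ := mk_surj q
      have hxw := (hmemA x).1 hq
      have h1 : f (mk x) = mk ⟨c, hcQ⟩ := congrArg Subtype.val hgq
      rw [hf] at h1
      have hxtw : Commute (t⁻¹ * (x : G)⁻¹ * t) w :=
        (hwt.symm.inv_left.mul_left hxw.inv_left).mul_left hwt.symm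
      have hcomm := hab _ (htQ _ (inv_mem x.2)) x x.2 hxtw hxw
      have hδ2 : t⁻¹ * (x : G)⁻¹ * t * x * (t⁻¹ * (x : G)⁻¹ * t * x) = 1 := by
        calc t⁻¹ * (x : G)⁻¹ * t * x * (t⁻¹ * (x : G)⁻¹ * t * x)
            = t⁻¹ * (x : G)⁻¹ * t * ((x : G) * (t⁻¹ * (x : G)⁻¹ * t)) * x := by simp only [mul_assoc]
          _ = t⁻¹ * (x : G)⁻¹ * t * (t⁻¹ * (x : G)⁻¹ * t * x) * x := by rw [hcomm.eq]
          _ = t⁻¹ * ((x : G)⁻¹ * (x : G)⁻¹) * t * (x * x) := by group
          _ = 1 := by rw [hsqz _ (inv_mem x.2), ← mul_inv_rev, inv_mul_cancel]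
      rcases mk_eq.1 h1 with h' | h'
      · have e1 : t⁻¹ * (x : G)⁻¹ * t * x = c := inv_mul_eq_one.1 h'
        rw [← e1, hδ2] at hc2
        exact hQ.ne_one hc2.symm
      · have e1 : c = t⁻¹ * (x : G)⁻¹ * t * x * z := eq_mul_of_inv_mul_eq h'
        rw [e1, mul_assoc, ← mul_assoc z, (hQ.central _ (hδQ _ x.2)).eq,
          mul_assoc _ z z, hQ.sq_z, mul_one, hδ2] at hc2
        exact hQ.ne_one hc2.symm
    have hgker : Nat.card g.ker ≤ 2 := by
      by_contra hcon
      push Not at hcon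
      have hidx : h.range.index ≤ 2 := by
        have h1 := h.range.card_mul_index
        have h2 := h.ker.card_mul_index
        rw [Subgroup.index_ker, ← h1, mul_comm] at h2
        rw [← Nat.eq_of_mul_eq_mul_left Nat.card_pos h2]
        let s : Finset ((Q ⧸ Z) ⧸ Aq) := {1, ebar}
        have hle : (h.ker : Set ((Q ⧸ Z) ⧸ Aq)) ⊆ s := fun q hq => by
          rcases hker q (MonoidHom.mem_ker.1 hq) with e1 | e1 <;> simp [s, e1]
        have := Nat.card_mono (Finset.finite_toSet s) hle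
        rw [SetLike.coe_sort_coe, Nat.card_coe_set_eq, Set.ncard_coe_finset] at this
        exact this.trans Finset.card_le_two
      -- a coset representative for the image of `h`
      obtain ⟨r, hr⟩ : ∃ r, ∀ q : (Q ⧸ Z) ⧸ Aq, q ∈ h.range ∨ r * q ∈ h.range := by
        rcases Nat.lt_or_ge h.range.index 2 with h1 | h1
        · have : h.range = ⊤ := Subgroup.index_eq_one.1 (by
            have := Nat.pos_of_ne_zero (Subgroup.index_ne_zero_of_finite (H := h.range))
            omega)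
          exact ⟨1, fun q => Or.inl (this ▸ Subgroup.mem_top q)⟩
        · obtain ⟨r, hr⟩ := Subgroup.index_eq_two_iff.1 (le_antisymm hidx h1)
          refine ⟨r, fun q => ?_⟩
          rcases hr q with ⟨h1, -⟩ | ⟨h1, -⟩
          · exact Or.inr (mul_comm q r ▸ h1)
          · exact Or.inl h1
      induction r using QuotientGroup.induction_on with
      | _ r =>
      obtain ⟨w₀, rfl⟩ := mk_surj r
      -- elements of the kernel commute with everything but `w₀`
      have hkey : ∀ y : Q, Commute (y : G) w → mk ⟨t⁻¹ * (y : G)⁻¹ * t * y, hδQ y y.2⟩ = 1 →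
          ∀ u : Q, ((mk u : Q ⧸ Z) : (Q ⧸ Z) ⧸ Aq) ∈ h.range → Commute (y : G) u := by
        intro y hyw hy u hu
        obtain ⟨p, hp⟩ := hu
        induction p using QuotientGroup.induction_on with
        | _ p =>
        obtain ⟨a, rfl⟩ := mk_surj p
        rw [hh, hf, QuotientGroup.eq, ← map_inv, ← map_mul, hmemA] at hp
        have hau : Commute (y : G) ((t⁻¹ * (a : G)⁻¹ * t * a)⁻¹ * u) := hab _ y.2 _
          (mul_mem (inv_mem (hδQ _ a.2)) u.2) hyw hp
        have hδ : Commute (y : G) (t⁻¹ * (a : G)⁻¹ * t * a) := by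
          have hk1 : t⁻¹ * ((y : G) * a * (y : G)⁻¹ * (a : G)⁻¹) * t = (y : G) * a * (y : G)⁻¹ * (a : G)⁻¹ := by
            rcases hQ.comm y y.2 a a.2 with h' | h' <;> rw [h']
            · simp
            · rw [mul_assoc, htz.symm.eq, inv_mul_cancel_left]
          obtain ⟨k, hk, hyt⟩ : ∃ k, (k = 1 ∨ k = z) ∧ t⁻¹ * (y : G) * t = y * k := by
            have hy' : t⁻¹ * (y : G)⁻¹ * t * y = 1 ∨ t⁻¹ * (y : G)⁻¹ * t * y = z := mk_one.1 hy
            rcases hy' with h' | h'
            · refine ⟨1, Or.inl rfl, ?_⟩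
              calc t⁻¹ * (y : G) * t = y * (t⁻¹ * (y : G)⁻¹ * t * y)⁻¹ := by group
                _ = _ := by rw [h', inv_one]
            · refine ⟨z, Or.inr rfl, ?_⟩
              calc t⁻¹ * (y : G) * t = y * (t⁻¹ * (y : G)⁻¹ * t * y)⁻¹ := by group
                _ = _ := by rw [h', hQ.inv_z]
          have hkc : ∀ b ∈ Q, Commute k b := fun b hb => by
            rcases hk with rfl | rfl
            exacts [Commute.one_left b, hQ.central b hb]
          rw [show t⁻¹ * ((y : G) * a * (y : G)⁻¹ * (a : G)⁻¹) * t = (t⁻¹ * y * t) * (t⁻¹ * a * t) *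
            (t⁻¹ * y * t)⁻¹ * (t⁻¹ * a * t)⁻¹ by group, hyt] at hk1
          set a' := t⁻¹ * (a : G) * t with ha'
          have h3 : (y : G) * k * a' * ((y : G) * k)⁻¹ = (y : G) * a' * (y : G)⁻¹ := by
            rw [mul_assoc (y : G) k a', (hkc a' (htQ _ a.2)).eq, mul_inv_rev]; group
          rw [h3] at hk1
          refine mul_inv_eq_iff_eq_mul.1 ?_
          rw [show t⁻¹ * (a : G)⁻¹ * t = a'⁻¹ by rw [ha']; group]
          set κ := (y : G) * a * (y : G)⁻¹ * (a : G)⁻¹ with hκ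
          calc (y : G) * (a'⁻¹ * a) * (y : G)⁻¹
              = ((y : G) * a' * (y : G)⁻¹)⁻¹ * ((y : G) * a * (y : G)⁻¹) := by group
            _ = (κ * a')⁻¹ * (κ * a) := by
                rw [mul_inv_eq_iff_eq_mul.1 hk1, hκ, inv_mul_cancel_right]
            _ = a'⁻¹ * a := by group
        have := hδ.mul_right hau
        rwa [mul_inv_cancel_left] at this
      have hcent : ∀ y : Q, Commute (y : G) w → mk ⟨t⁻¹ * (y : G)⁻¹ * t * y, hδQ y y.2⟩ = 1 →
          Commute (y : G) (w₀ : G) → mk y = 1 := by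
        intro y hyw hy hyw₀
        refine mk_one.2 (hQ.cent y fun u hu => ?_)
        rcases hr ((mk ⟨u, hu⟩ : Q ⧸ Z) : (Q ⧸ Z) ⧸ Aq) with h' | h'
        · exact hkey y hyw hy ⟨u, hu⟩ h'
        · have := hkey y hyw hy (w₀ * ⟨u, hu⟩) (by rw [map_mul, QuotientGroup.mk_mul]; exact h')
          simpa using hyw₀.inv_right.mul_right this
      have hsub : ∀ a b : g.ker, a.1 ≠ 1 → b.1 ≠ 1 → a.1 * b.1 = 1 := by
        rintro ⟨⟨p, hp⟩, hpk⟩ ⟨⟨q, hq⟩, hqk⟩ hp1 hq1
        obtain ⟨a, rfl⟩ := mk_surj p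
        obtain ⟨b, rfl⟩ := mk_surj q
        have haw := (hmemA a).1 hp
        have hbw := (hmemA b).1 hq
        have ha := (hf a).symm.trans (congrArg Subtype.val (MonoidHom.mem_ker.1 hpk))
        have hb := (hf b).symm.trans (congrArg Subtype.val (MonoidHom.mem_ker.1 hqk))
        refine Subtype.ext ?_
        show mk a * mk b = 1
        rw [← map_mul]
        refine hcent (a * b) (haw.mul_left hbw) ?_ ?_
        · rw [← hf, map_mul, map_mul, hf, hf, ha, hb]
          exact one_mul 1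
        · exact hQ.mul_mem_of_same a.2 b.2 w₀.2 (fun hc' => hp1 (Subtype.ext (hcent a haw ha hc')))
            (fun hc' => hq1 (Subtype.ext (hcent b hbw hb hc')))
      obtain ⟨a, ha⟩ : ∃ a : g.ker, a ≠ 1 := by
        by_contra hcon'
        push Not at hcon'
        haveI : Subsingleton g.ker := ⟨fun a b => (hcon' a).trans (hcon' b).symm⟩
        have := Nat.card_unique (α := g.ker)
        omega
      have hle : ∀ b : g.ker, b = 1 ∨ b = a⁻¹ := fun b => (em (b = 1)).imp_right fun hb =>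
        eq_inv_of_mul_eq_one_right (Subtype.ext (hsub a b (fun h' => ha (Subtype.ext h'))
          fun h' => hb (Subtype.ext h')))
      have := Nat.card_le_card_of_surjective (fun i : Fin 2 => if i = 0 then (1 : g.ker) else a⁻¹)
        fun b => by
          rcases hle b with e1 | e1
          · exact ⟨0, by simp [e1]⟩
          · exact ⟨1, by simp [e1]⟩
      rw [Nat.card_fin] at this
      omega
    have hgen : ∀ q : Aq, ∃ y, q = g y ∨ q = cA * g y := by
      have hidx : g.range.index ≤ 2 := by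
        have h1 := g.range.card_mul_index
        have h2 := g.ker.card_mul_index
        rw [Subgroup.index_ker, ← h1, mul_comm] at h2
        rwa [← Nat.eq_of_mul_eq_mul_left Nat.card_pos h2]
      have hidx2 : g.range.index = 2 := by
        refine le_antisymm hidx ?_
        have := Nat.pos_of_ne_zero (Subgroup.index_ne_zero_of_finite (H := g.range))
        by_contra hcon
        exact hcnot ((Subgroup.index_eq_one.1 (by omega : g.range.index = 1)).symm ▸ Subgroup.mem_top cA)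
      intro q
      by_cases hq : q ∈ g.range
      · obtain ⟨y, rfl⟩ := hq; exact ⟨y, Or.inl rfl⟩
      · obtain ⟨y, hy⟩ : cA⁻¹ * q ∈ g.range := by
          refine (Subgroup.mul_mem_iff_of_index_two hidx2).2 (iff_of_false ?_ hq)
          simpa using hcnot
        exact ⟨y, Or.inr (by rw [hy, mul_inv_cancel_left])⟩
    have hm1 : 1 ≤ m := by
      by_contra hcon
      have h1 : Nat.card ((Q ⧸ Z) ⧸ Aq) = 1 := by rw [hm, show m = 0 by omega, pow_zero]
      exact hebar ((Nat.card_eq_one_iff_unique.1 h1).1.elim _ _)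
    have hd1 : 1 ≤ d := by
      by_contra hcon
      have h1 : Nat.card Aq = 1 := by rw [hd, show d = 0 by omega, pow_zero]
      exact hcnot ((Nat.card_eq_one_iff_unique.1 h1).1.elim (g 1) cA ▸ ⟨1, rfl⟩)
    induction v using QuotientGroup.induction_on with
    | _ v =>
    rw [hhval, QuotientGroup.eq] at hv
    set a := (f^[m - 1] v)⁻¹ * mk ⟨e, he⟩ with hadef
    have hcval : ((g^[d - 1] cA : Aq) : Q ⧸ Z) = 1 := by
      have h1 : mk ⟨e, he⟩ = f^[m - 1] v * a := (mul_inv_cancel_left _ _).symm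
      have h2 : (cA : Q ⧸ Z) = f (mk ⟨e, he⟩) := by
        rw [hf]; exact congrArg mk (Subtype.ext hcdef)
      rw [hgval, h2, h1, ← Function.iterate_succ_apply, iterate_map_mul, ← Function.iterate_add_apply,
        show (d - 1).succ + (m - 1) = (d + m - 5) + 4 by omega, Function.iterate_add_apply f (d + m - 5),
        hf4, iterate_map_one, one_mul, show (d - 1).succ = d by omega]
      have := congrArg Subtype.val (Endo.iterate_card g hg4 hd ⟨a, hv⟩)
      rwa [hgval] at this
    have := Endo.card_le_of_cyclic g hg4 hgen (k := d - 1) (Subtype.ext hcval)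
    rw [hd] at this
    have := (Nat.pow_le_pow_iff_right (by norm_num : 1 < 2)).1 this
    omega

end Cfsg.Lib.Extra
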