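import Cfsg.Agent.Lib.Extra.Large
import Cfsg.Agent.Lib.Fusion.Basic
import Mathlib.GroupTheory.Transfer

/-!
# Transfer to the centralizer of the centre of a large extraspecial 2-subgroup

If `Q` is a large extraspecial 2-subgroup with centre `⟨z⟩` of width at least two, every
homomorphism from `C(z)` to an abelian group whose transfer is trivial kills `Q`.
-/

set_option autoImplicit false
set_option linter.style.haveILetI false

namespace Cfsg.Lib.Extra

open Subgroup MulAction
open scoped commutatorElement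

variable {G : Type*} [Group G] [Finite G]

/-- A function invariant under a 2-group action with values squaring to one has the same product
as on the fixed points. -/
theorem prod_eq_prod_fixed {U X A : Type*} [Group U] [CommGroup A] [MulAction U X] [Fintype X]
    [Fintype (fixedPoints U X)] (hU : IsPGroup 2 U) [Finite U] (f : X → A) (hinv : ∀ (u : U) (c : X), f (u • c) = f c)
    (hsq : ∀ c, f c * f c = 1) : ∏ c, f c = ∏ c : fixedPoints U X, f c := by
  classical
  haveI : Fact (Nat.Prime 2) := ⟨Nat.prime_two⟩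
  letI : ∀ x : X, Fintype (orbit U x) := fun x => Fintype.ofFinite _
  have h1 : ∏ c, f c = (∏ c ∈ Finset.univ.filter (fun c => c ∈ fixedPoints U X), f c) *
      ∏ c ∈ Finset.univ.filter (fun c => c ∉ fixedPoints U X), f c :=
    (Finset.prod_filter_mul_prod_filter_not Finset.univ _ _).symm
  have h2 : ∏ c ∈ Finset.univ.filter (fun c => c ∉ fixedPoints U X), f c = 1 := by
    rw [← Finset.prod_fiberwise_of_maps_to (g := fun c : X => orbit U c)
      (t := (Finset.univ : Finset X).image fun c => orbit U c)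
      (fun c _ => Finset.mem_image_of_mem _ (Finset.mem_univ c))]
    refine Finset.prod_eq_one fun o ho => ?_
    obtain ⟨x, -, rfl⟩ := Finset.mem_image.1 ho
    by_cases hx : x ∈ fixedPoints U X
    · refine Finset.prod_eq_one fun c hc => absurd hx ?_
      simp only [Finset.mem_filter, Finset.mem_univ, true_and] at hc
      obtain ⟨u, hu⟩ : x ∈ orbit U c := hc.2 ▸ mem_orbit_self x
      intro hx'
      refine hc.1 ?_
      have hcx : c = x := by
        have := hx' u⁻¹
        rw [← hu] at this ⊢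
        simpa using this
      exact hcx ▸ hx'
    · have hset : (Finset.univ.filter fun c => c ∉ fixedPoints U X).filter (fun c => orbit U c = orbit U x) =
          (orbit U x).toFinset := by
        ext c
        simp only [Finset.mem_filter, Finset.mem_univ, true_and, Set.mem_toFinset]
        refine ⟨fun h => h.2 ▸ mem_orbit_self c, fun h => ⟨fun hc => hx ?_, orbit_eq_iff.2 h⟩⟩
        obtain ⟨u, rfl⟩ := h
        have := hc u⁻¹
        rw [inv_smul_smul] at this
        exact this ▸ hc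
      rw [hset, Finset.prod_congr rfl (g := fun _ => f x) (fun c hc => by
        obtain ⟨u, rfl⟩ := Set.mem_toFinset.1 hc
        exact hinv u x), Finset.prod_const, Set.toFinset_card]
      obtain ⟨k, hk⟩ := hU.card_orbit x
      have hk0 : k ≠ 0 := by
        rintro rfl
        rw [pow_zero] at hk
        have hs : Subsingleton (orbit U x) := (Nat.card_eq_one_iff_unique.1 hk).1
        exact hx fun u => congrArg Subtype.val
          (hs.elim ⟨u • x, mem_orbit x u⟩ ⟨x, mem_orbit_self x⟩)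
      obtain ⟨j, rfl⟩ := Nat.exists_eq_succ_of_ne_zero hk0
      rw [← Nat.card_eq_fintype_card, hk, pow_succ, mul_comm, pow_mul, pow_two, hsq, one_pow]
  rw [h1, h2, mul_one, Finset.prod_subtype (p := fun c => c ∈ fixedPoints U X)]
  simp

/-- The transfer at an involution is the product over the fixed cosets. -/
theorem transfer_involution {H : Subgroup G} {A : Type*} [CommGroup A] (φ : H →* A) {x : G}
    (hx : x * x = 1) [Fintype (G ⧸ H)] :
    ∃ f : G ⧸ H → A, MonoidHom.transfer φ x = ∏ c, f c ∧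
      (∀ c, x • c ≠ c → f c = 1) ∧ (∀ c, f c * f c = 1) ∧
      ∀ (a : G) (h : a⁻¹ * x * a ∈ H), f a = φ ⟨a⁻¹ * x * a, h⟩ := by
  classical
  have hmem : ∀ a : G, x • (a : G ⧸ H) = (a : G ⧸ H) → a⁻¹ * x * a ∈ H := by
    intro a ha
    rw [MulAction.Quotient.smul_coe, smul_eq_mul] at ha
    have := inv_mem (QuotientGroup.eq.mp ha)
    simpa [mul_assoc] using this
  let f : G ⧸ H → A := fun c =>
    if h : x • c = c then φ ⟨c.out⁻¹ * x * c.out, hmem _ (by rw [QuotientGroup.out_eq']; exact h)⟩ else 1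
  have hfix : ∀ c, f c ≠ 1 → x • c = c := fun c hc => by
    by_contra h
    exact hc (dif_neg h)
  refine ⟨f, ?_, fun c hc => dif_neg hc, fun c => ?_, ?_⟩
  · rw [MonoidHom.transfer_eq_prod_quotient_orbitRel_zpowers_quot]
    have hterm : ∀ q : Quotient (orbitRel (zpowers x) (G ⧸ H)),
        φ ⟨q.out.out⁻¹ * x ^ Function.minimalPeriod (x • ·) q.out * q.out.out,
          QuotientGroup.out_conj_pow_minimalPeriod_mem H x q.out⟩ = f q.out := by
      intro q
      have hper : Function.IsPeriodicPt (fun c : G ⧸ H => x • c) 2 q.out := by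
        show x • x • q.out = q.out
        rw [smul_smul, hx, one_smul]
      rcases (Nat.dvd_prime Nat.prime_two).mp hper.minimalPeriod_dvd with h1 | h1
      · have hfix' : x • q.out = q.out := Function.minimalPeriod_eq_one_iff_isFixedPt.mp h1
        simp only [f, dif_pos hfix', h1, pow_one]
      · have hnf : ¬ x • q.out = q.out := fun h => by
          rw [Function.minimalPeriod_eq_one_iff_isFixedPt.mpr h] at h1
          omega
        simp only [f, dif_neg hnf, h1, pow_two, hx, mul_one, inv_mul_cancel]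
        exact map_one φ
    rw [Finset.prod_congr rfl (fun q _ => hterm q)]
    refine Finset.prod_bij_ne_one (fun q _ _ => q.out) (fun _ _ _ => Finset.mem_univ _)
      (fun q₁ _ _ q₂ _ _ h => Quotient.out_injective h) ?_ (fun _ _ _ => rfl)
    intro c _ hc
    have hout : (⟦c⟧ : Quotient (orbitRel (zpowers x) (G ⧸ H))).out = c := by
      obtain ⟨⟨u, k, rfl⟩, hu⟩ := Quotient.mk_out (s := orbitRel (zpowers x) (G ⧸ H)) c
      rw [← hu]
      show x ^ k • c = c
      exact mem_stabilizer_iff.mp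
        ((MulAction.stabilizer G c).zpow_mem (mem_stabilizer_iff.mpr (hfix c hc)) k)
    exact ⟨⟦c⟧, Finset.mem_univ _, by rw [hout]; exact hc, hout⟩
  · simp only [f]
    split
    · rw [← map_mul, ← map_one φ]
      refine congrArg φ (Subtype.ext ?_)
      show c.out⁻¹ * x * c.out * (c.out⁻¹ * x * c.out) = 1
      calc c.out⁻¹ * x * c.out * (c.out⁻¹ * x * c.out) = c.out⁻¹ * (x * x) * c.out := by group
        _ = 1 := by rw [hx]; simp
    · exact one_mul _
  · intro a h
    have ha : x • (a : G ⧸ H) = (a : G ⧸ H) := by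
      rw [MulAction.Quotient.smul_coe, smul_eq_mul, QuotientGroup.eq]
      have := inv_mem h
      simpa [mul_assoc] using this
    simp only [f, dif_pos ha]
    obtain ⟨s, hs⟩ := QuotientGroup.mk_out_eq_mul H a
    have he : (⟨(QuotientGroup.mk a : G ⧸ H).out⁻¹ * x * (QuotientGroup.mk a : G ⧸ H).out,
        hmem _ (by rw [QuotientGroup.out_eq']; exact ha)⟩ : H) = s⁻¹ * ⟨a⁻¹ * x * a, h⟩ * s := by
      apply Subtype.ext
      simp only [hs, Subgroup.coe_mul, Subgroup.coe_inv]
      group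
    rw [he, map_mul, map_mul, map_inv, mul_comm, mul_inv_cancel_left]

namespace Ctx

variable {Q : Subgroup G} {z : G}

omit [Finite G] in
/-- An element centralizing `z` and the centralizer in `Q` of the involution `x ∈ Q`. -/
theorem centralizer_of_hyperplane (hQ : Ctx Q z) {x g : G} (hx : x ∈ Q) (hx2 : x * x = 1) (h1 : x ≠ 1)
    (hxz : x ≠ z) (hgz : Commute g z) (hg : ∀ p ∈ Q, Commute p x → Commute g p) :
    g = 1 ∨ g = z ∨ g = x ∨ g = z * x := by
  obtain ⟨y, hy, hyx⟩ := hQ.exists_move hx h1 hxz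
  have hall : ∀ w : G, (∀ p ∈ Q, Commute p x → Commute w p) → Commute w y → w = 1 ∨ w = z := by
    intro w hw hwy
    refine hQ.cent w fun a ha => ?_
    rcases hQ.commute_or hy hyx ha hx with h | h
    · exact hw a ha h
    · have h2 := hwy.inv_right.mul_right (hw _ (mul_mem hy ha) h)
      rwa [inv_mul_cancel_left] at h2
  have hgy : g * y * g⁻¹ ∈ Q := (Subgroup.mem_normalizer_iff.1 (hQ.norm g hgz) y).1 hy
  obtain ⟨c, hc, hgyc⟩ : ∃ c ∈ Q, g * y * g⁻¹ = y * c :=
    ⟨y⁻¹ * (g * y * g⁻¹), mul_mem (inv_mem hy) hgy, (mul_inv_cancel_left _ _).symm⟩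
  have hcomm : ∀ p ∈ Q, Commute p x → Commute c p := by
    intro p hp hpx
    have hgp : g * p * g⁻¹ = p := by rw [(hg p hp hpx).eq, mul_inv_cancel_right]
    have hz' : g * (y * p * y⁻¹ * p⁻¹) * g⁻¹ = y * p * y⁻¹ * p⁻¹ := by
      rcases hQ.comm y hy p hp with h | h <;> rw [h]
      · simp
      · rw [hgz.eq, mul_inv_cancel_right]
    have e : g * (y * p * y⁻¹ * p⁻¹) * g⁻¹ = g * y * g⁻¹ * (g * p * g⁻¹) * (g * y * g⁻¹)⁻¹ *
        (g * p * g⁻¹)⁻¹ := by group
    rw [e, hgyc, hgp] at hz'
    have e2 : y * c * p * (y * c)⁻¹ * p⁻¹ = y * (c * p * c⁻¹) * y⁻¹ * p⁻¹ := by group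
    rw [e2] at hz'
    exact mul_inv_eq_iff_eq_mul.1 (mul_left_cancel (mul_right_cancel (mul_right_cancel hz')))
  have hcx : Commute c x := hcomm x hx (Commute.refl x)
  have hsq : y * c * (y * c) = y * y := by
    have : g * (y * y) * g⁻¹ = y * y := by
      rcases hQ.sq y hy with h | h <;> rw [h]
      · simp
      · rw [hgz.eq, mul_inv_cancel_right]
    rw [← hgyc]
    calc g * y * g⁻¹ * (g * y * g⁻¹) = g * (y * y) * g⁻¹ := by group
      _ = _ := this
  have hcyc : c * y * c = y := mul_left_cancel (a := y) (by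
    calc y * (c * y * c) = y * c * (y * c) := by simp only [mul_assoc]
      _ = _ := hsq)
  have hxyx : x * y * x = z * y := by
    have hxy : y * x = z * x * y := mul_inv_eq_iff_eq_mul.1 hyx
    calc x * y * x = x * (z * x * y) := by rw [mul_assoc, hxy]
      _ = z * (x * x) * y := by rw [← mul_assoc, ← mul_assoc, ← (hQ.central x hx).eq]; simp only [mul_assoc]
      _ = z * y := by rw [hx2, mul_one]
  have hzy : z * y ≠ y := fun h => hQ.ne_one (mul_eq_right.1 h)
  rcases hQ.double_centralizer hx h1 hxz hc hcx hcomm with rfl | rfl | rfl | rfl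
  · rcases hall g hg (mul_inv_eq_iff_eq_mul.1 (by rw [hgyc, mul_one])) with h | h
    exacts [Or.inl h, Or.inr (Or.inl h)]
  · have hgxy : Commute (g * x) y := mul_inv_eq_iff_eq_mul.1 (by
      calc g * x * y * (g * x)⁻¹ = g * (x * y * x⁻¹) * g⁻¹ := by group
        _ = g * (c * y) * g⁻¹ := by rw [inv_eq_of_mul_eq_one_right hx2, hxyx]
        _ = g * c * g⁻¹ * (g * y * g⁻¹) := by group
        _ = c * (y * c) := by rw [hgyc, hgz.eq, mul_inv_cancel_right]
        _ = y := by rw [← mul_assoc, hcyc])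
    rcases hall (g * x) (fun p hp hpx => (hg p hp hpx).mul_left hpx.symm) hgxy with h | h
    · exact Or.inr (Or.inr (Or.inl ((eq_inv_of_mul_eq_one_left h).trans (inv_eq_of_mul_eq_one_right hx2))))
    · exact Or.inr (Or.inr (Or.inr (by rw [← inv_eq_of_mul_eq_one_right hx2]; exact eq_mul_inv_of_mul_eq h)))
  · exact absurd (hxyx ▸ hcyc) hzy
  · refine absurd (Eq.trans ?_ hcyc) hzy
    calc z * y = x * y * x := hxyx.symm
      _ = z * z * (x * y * x) := by rw [hQ.sq_z, one_mul]
      _ = z * (z * (x * y)) * x := by simp only [mul_assoc]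
      _ = z * (x * y * z) * x := by rw [(hQ.central (x * y) (mul_mem hx hy)).eq]
      _ = z * x * y * (z * x) := by simp only [mul_assoc]

/-- A homomorphism on `C(z)` with trivial transfer kills a noncentral involution of `Q` with
nonabelian centralizer in `Q`. -/
theorem map_involution (hQ : Ctx Q z) {A : Type*} [CommGroup A]
    (φ : Subgroup.centralizer ({z} : Set G) →* A) (hV : ∀ g : G, MonoidHom.transfer φ g = 1)
    {x : G} (hx : x ∈ Q) (hx2 : x * x = 1) (h1 : x ≠ 1) (hxz : x ≠ z) {u v : G} (hu : u ∈ Q)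
    (hv : v ∈ Q) (hux : Commute u x) (hvx : Commute v x) (huv : u * v * u⁻¹ * v⁻¹ = z) :
    φ ⟨x, hQ.le_centralizer' hx⟩ = 1 := by
  classical
  haveI : Fact (Nat.Prime 2) := ⟨Nat.prime_two⟩
  have hmH : ∀ {w : G}, w ∈ (Subgroup.centralizer ({z} : Set G)) ↔ w * z = z * w := Subgroup.mem_centralizer_singleton_iff
  have hzH : z ∈ (Subgroup.centralizer ({z} : Set G)) := hmH.2 rfl
  letI := (Subgroup.centralizer ({z} : Set G)).fintypeQuotientOfFiniteIndex
  let U : Subgroup G := Q ⊓ Subgroup.centralizer ({x} : Set G)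
  have hmU : ∀ {w : G}, w ∈ U ↔ w ∈ Q ∧ Commute w x := fun {w} => by
    simp only [U, Subgroup.mem_inf, Subgroup.mem_centralizer_singleton_iff]; rfl
  letI : Fintype (fixedPoints U (G ⧸ (Subgroup.centralizer ({z} : Set G)))) := Fintype.ofFinite _
  obtain ⟨f, hVf, hf1, hf2, hfrep⟩ := transfer_involution φ hx2
  have hrepmem : ∀ a : G, x • (a : G ⧸ (Subgroup.centralizer ({z} : Set G))) = (a : G ⧸ (Subgroup.centralizer ({z} : Set G))) → a⁻¹ * x * a ∈ (Subgroup.centralizer ({z} : Set G)) := fun a ha => by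
    rw [MulAction.Quotient.smul_coe, smul_eq_mul] at ha
    have := inv_mem (QuotientGroup.eq.mp ha)
    simpa [mul_assoc] using this
  have hinv : ∀ (w : U) (c : G ⧸ (Subgroup.centralizer ({z} : Set G))), f (w • c) = f c := by
    intro w c
    obtain ⟨a, rfl⟩ := QuotientGroup.mk_surjective c
    have hwx : Commute (w : G) x := (hmU.1 w.2).2
    show f ((w : G) • (a : G ⧸ (Subgroup.centralizer ({z} : Set G)))) = f (a : G ⧸ (Subgroup.centralizer ({z} : Set G)))
    by_cases ha : x • (a : G ⧸ (Subgroup.centralizer ({z} : Set G))) = (a : G ⧸ (Subgroup.centralizer ({z} : Set G)))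
    · have e : ((w : G) * a)⁻¹ * x * ((w : G) * a) = a⁻¹ * x * a := by
        calc ((w : G) * a)⁻¹ * x * ((w : G) * a) = a⁻¹ * ((w : G)⁻¹ * (x * w)) * a := by group
          _ = _ := by rw [← hwx.eq, inv_mul_cancel_left]
      rw [MulAction.Quotient.smul_coe, smul_eq_mul, hfrep a (hrepmem a ha),
        hfrep ((w : G) * a) (e ▸ hrepmem a ha)]
      exact congrArg φ (Subtype.ext e)
    · rw [hf1 _ ha, hf1]
      rw [smul_smul, ← hwx.eq, ← smul_smul]
      exact fun h => ha (smul_left_cancel _ h)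
  have key := hV x
  rw [hVf, prod_eq_prod_fixed (U := U) (hQ.two.to_le inf_le_left) f hinv hf2] at key
  have hzc : φ ⟨z, hzH⟩ = 1 := by
    have e : (⟨z, hzH⟩ : (Subgroup.centralizer ({z} : Set G))) = ⁅(⟨u, hQ.le_centralizer' hu⟩ : (Subgroup.centralizer ({z} : Set G))), ⟨v, hQ.le_centralizer' hv⟩⁆ := by
      apply Subtype.ext
      rw [commutatorElement_def]
      exact huv.symm
    rw [e, map_commutatorElement]
    exact commutatorElement_eq_one_iff_mul_comm.2 (mul_comm _ _)
  have hone : ((1 : G) : G ⧸ (Subgroup.centralizer ({z} : Set G))) ∈ fixedPoints U (G ⧸ (Subgroup.centralizer ({z} : Set G))) := fun w => by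
    show (w : G) • ((1 : G) : G ⧸ (Subgroup.centralizer ({z} : Set G))) = _
    rw [MulAction.Quotient.smul_coe, smul_eq_mul, mul_one, QuotientGroup.eq, mul_one]
    exact inv_mem (hQ.le_centralizer' (hmU.1 w.2).1)
  rw [Fintype.prod_eq_single ⟨_, hone⟩] at key
  · rw [hfrep 1 (by simpa using hQ.le_centralizer' hx)] at key
    simpa using key
  rintro ⟨c, hc⟩ hne
  obtain ⟨a, rfl⟩ := QuotientGroup.mk_surjective c
  show f (a : G ⧸ (Subgroup.centralizer ({z} : Set G))) = 1
  set z' := a * z * a⁻¹ with hz'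
  have hUa : ∀ w ∈ U, a⁻¹ * w * a ∈ (Subgroup.centralizer ({z} : Set G)) := fun w hw => by
    have h : (w : G) • (a : G ⧸ (Subgroup.centralizer ({z} : Set G))) = (a : G ⧸ (Subgroup.centralizer ({z} : Set G))) := hc ⟨w, hw⟩
    rw [MulAction.Quotient.smul_coe, smul_eq_mul] at h
    have := inv_mem (QuotientGroup.eq.mp h)
    simpa [mul_assoc] using this
  have hcomm : ∀ w ∈ U, Commute z' w := fun w hw => by
    have h1 : Commute z (a⁻¹ * w * a) := (hmH.1 (hUa w hw)).symm
    have h2 := (Commute.conj_iff a).2 h1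
    rwa [show a * (a⁻¹ * w * a) * a⁻¹ = w by group] at h2
  have hgz : Commute z' z := hcomm z (hmU.2 ⟨hQ.mem, hQ.central x hx⟩)
  have hcases := hQ.centralizer_of_hyperplane hx hx2 h1 hxz hgz
    (fun p hp hpx => hcomm p (hmU.2 ⟨hp, hpx⟩))
  have hza : a⁻¹ * z * a ∈ (Subgroup.centralizer ({z} : Set G)) := hUa z (hmU.2 ⟨hQ.mem, hQ.central x hx⟩)
  have hφza : φ ⟨a⁻¹ * z * a, hza⟩ = 1 := by
    have e : (⟨a⁻¹ * z * a, hza⟩ : (Subgroup.centralizer ({z} : Set G))) =
        ⁅(⟨a⁻¹ * u * a, hUa u (hmU.2 ⟨hu, hux⟩)⟩ : (Subgroup.centralizer ({z} : Set G))), ⟨a⁻¹ * v * a, hUa v (hmU.2 ⟨hv, hvx⟩)⟩⁆ := by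
      apply Subtype.ext
      show a⁻¹ * z * a = a⁻¹ * u * a * (a⁻¹ * v * a) * (a⁻¹ * u * a)⁻¹ * (a⁻¹ * v * a)⁻¹
      rw [← huv]; group
    rw [e, map_commutatorElement]
    exact commutatorElement_eq_one_iff_mul_comm.2 (mul_comm _ _)
  have haz : a⁻¹ * z' * a = z := by rw [hz']; group
  have hxH : a⁻¹ * x * a ∈ (Subgroup.centralizer ({z} : Set G)) := hUa x (hmU.2 ⟨hx, Commute.refl x⟩)
  rw [hfrep a hxH]
  rcases hcases with h | h | h | h
  · exact absurd (conj_eq_one_iff.1 (hz'.symm.trans h)) hQ.ne_one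
  · refine absurd (Subtype.ext ?_) hne
    show (a : G ⧸ (Subgroup.centralizer ({z} : Set G))) = ((1 : G) : G ⧸ (Subgroup.centralizer ({z} : Set G)))
    rw [QuotientGroup.eq, mul_one]
    exact inv_mem (hmH.2 (mul_inv_eq_iff_eq_mul.1 (hz'.symm.trans h)))
  · rw [h] at haz
    rw [← hzc]
    exact congrArg φ (Subtype.ext haz)
  · have hx' : x = z * z' := by rw [h, ← mul_assoc, hQ.sq_z, one_mul]
    have e : (⟨a⁻¹ * x * a, hxH⟩ : (Subgroup.centralizer ({z} : Set G))) = ⟨a⁻¹ * z * a, hza⟩ * ⟨z, hzH⟩ := by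
      apply Subtype.ext
      show a⁻¹ * x * a = a⁻¹ * z * a * z
      conv_rhs => arg 2; rw [← haz]
      rw [hx']; group
    rw [e, map_mul, hφza, hzc, one_mul]

/-- If `Q` has order at least `32`, every homomorphism on `C(z)` with trivial transfer kills `Q`. -/
theorem map_eq_one (hQ : Ctx Q z) (hcard : 16 ≤ Nat.card Q) {A : Type*} [CommGroup A]
    (φ : Subgroup.centralizer ({z} : Set G) →* A) (hV : ∀ g : G, MonoidHom.transfer φ g = 1)
    {e : G} (he : e ∈ Q) : φ ⟨e, hQ.le_centralizer' he⟩ = 1 := by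
  classical
  -- centralizers in `Q` of noncentral elements are nonabelian
  have hna : ∀ w ∈ Q, w ≠ 1 → w ≠ z →
      ∃ u ∈ Q, ∃ v ∈ Q, Commute u w ∧ Commute v w ∧ u * v * u⁻¹ * v⁻¹ = z := by
    intro w hw hw1 hwz
    by_contra hcon
    push Not at hcon
    obtain ⟨y, hy, hyw⟩ := hQ.exists_move hw hw1 hwz
    have hsub : ∀ a ∈ Q, Commute a w → a = 1 ∨ a = z ∨ a = w ∨ a = z * w := fun a ha haw =>
      hQ.double_centralizer hw hw1 hwz ha haw fun p hp hpw =>
        mul_inv_eq_iff_eq_mul.1 (mul_inv_eq_one.1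
          ((hQ.comm a ha p hp).resolve_right (hcon a ha p hp haw hpw)))
    let s : Finset G := {1, z, w, z * w, y⁻¹ * 1, y⁻¹ * z, y⁻¹ * w, y⁻¹ * (z * w)}
    have hle : (Q : Set G) ⊆ s := by
      intro a ha
      rcases hQ.commute_or hy hyw ha hw with h | h
      · rcases hsub a ha h with e1 | e1 | e1 | e1 <;> simp [s, e1]
      · have := hsub (y * a) (mul_mem hy ha) h
        rw [← eq_inv_mul_iff_mul_eq, ← eq_inv_mul_iff_mul_eq, ← eq_inv_mul_iff_mul_eq,
          ← eq_inv_mul_iff_mul_eq] at this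
        rcases this with e1 | e1 | e1 | e1 <;> simp [s, e1]
    have h1 : Nat.card Q ≤ Nat.card s := Nat.card_mono (Finset.finite_toSet s) hle
    rw [Nat.card_eq_fintype_card (α := s), Fintype.card_coe] at h1
    have h8 : s.card ≤ 8 := by
      refine (List.toFinset_card_le [1, z, w, z * w, y⁻¹ * 1, y⁻¹ * z, y⁻¹ * w, y⁻¹ * (z * w)]).trans'
        (le_of_eq ?_)
      simp [s]
    omega
  have hz1 : φ ⟨z, hQ.le_centralizer' hQ.mem⟩ = 1 := by
    obtain ⟨w, hw, hw1, hwz⟩ : ∃ w ∈ Q, w ≠ 1 ∧ w ≠ z := by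
      by_contra hcon
      push Not at hcon
      have h1 : Nat.card Q ≤ Nat.card ({1, z} : Set G) :=
        Nat.card_mono (Set.toFinite _) fun a ha => by
          by_cases h : a = 1
          · simp [h]
          · simp [hcon a ha h]
      rw [Nat.card_coe_set_eq] at h1
      have h2 : ({1, z} : Set G).ncard ≤ 2 := (Set.ncard_insert_le _ _).trans (by simp)
      omega
    obtain ⟨u, hu, v, hv, -, -, huv⟩ := hna w hw hw1 hwz
    have e1 : (⟨z, hQ.le_centralizer' hQ.mem⟩ : Subgroup.centralizer ({z} : Set G)) =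
        ⁅(⟨u, hQ.le_centralizer' hu⟩ : Subgroup.centralizer ({z} : Set G)),
          ⟨v, hQ.le_centralizer' hv⟩⁆ := Subtype.ext huv.symm
    rw [e1, map_commutatorElement]
    exact commutatorElement_eq_one_iff_mul_comm.2 (mul_comm _ _)
  have hinvol : ∀ w (hw : w ∈ Q), w * w = 1 → φ ⟨w, hQ.le_centralizer' hw⟩ = 1 := by
    intro w hw hw2
    by_cases hw1 : w = 1
    · subst hw1; exact map_one φ
    by_cases hwz : w = z
    · subst hwz; exact hz1
    obtain ⟨u, hu, v, hv, huw, hvw, huv⟩ := hna w hw hw1 hwz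
    exact hQ.map_involution φ hV hw hw2 hw1 hwz hu hv huw hvw huv
  rcases hQ.sq e he with he2 | he2
  · exact hinvol e he he2
  have he1 : e ≠ 1 := fun h => hQ.ne_one (by rw [← he2, h, one_mul])
  have hez : e ≠ z := fun h => hQ.ne_one (by rw [← he2, h, hQ.sq_z])
  obtain ⟨u, hu, v, hv, hue, hve, huv⟩ := hna e he he1 hez
  -- replace `u`, `v` by involutions in their cosets modulo `⟨e⟩`
  have fix : ∀ w ∈ Q, Commute w e → ∃ w' ∈ Q, Commute w' e ∧ w' * w' = 1 ∧
      (w' = w ∨ w' = w * e) := by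
    intro w hw hwe
    rcases hQ.sq w hw with h | h
    · exact ⟨w, hw, hwe, h, Or.inl rfl⟩
    · refine ⟨w * e, mul_mem hw he, hwe.mul_left (Commute.refl e), ?_, Or.inr rfl⟩
      calc w * e * (w * e) = w * (e * w) * e := by simp only [mul_assoc]
        _ = w * (w * e) * e := by rw [hwe.eq]
        _ = w * w * (e * e) := by simp only [mul_assoc]
        _ = 1 := by rw [h, he2, hQ.sq_z]
  obtain ⟨u', hu', hue', hu2, hu3⟩ := fix u hu hue
  obtain ⟨v', hv', hve', hv2, hv3⟩ := fix v hv hve
  have hnc : ¬ Commute u' v' := by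
    intro h
    refine hQ.ne_one (huv.symm.trans ?_)
    have huv' : Commute u v := by
      have h' : Commute u' v := by
        rcases hv3 with rfl | rfl
        · exact h
        · simpa [mul_assoc] using h.mul_right hue'.inv_right
      rcases hu3 with rfl | rfl
      · exact h'
      · simpa [mul_assoc] using h'.mul_left hve.symm.inv_left
    rw [huv'.eq]; group
  have hcuv : u' * v' * (u' * v') = z := by
    refine ((hQ.sq _ (mul_mem hu' hv')).resolve_left fun h => hnc ?_)
    calc u' * v' = (u' * v')⁻¹ := (inv_eq_of_mul_eq_one_right h).symm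
      _ = v' * u' := by
        rw [mul_inv_rev, inv_eq_of_mul_eq_one_right hu2, inv_eq_of_mul_eq_one_right hv2]
  have hprod : e * (u' * v') * (e * (u' * v')) = 1 := by
    calc e * (u' * v') * (e * (u' * v')) = e * (u' * v' * e) * (u' * v') := by simp only [mul_assoc]
      _ = e * (e * (u' * v')) * (u' * v') := by rw [(hue'.mul_left hve').eq]
      _ = e * e * (u' * v' * (u' * v')) := by simp only [mul_assoc]
      _ = 1 := by rw [he2, hcuv, hQ.sq_z]
  have hh := hinvol _ (mul_mem he (mul_mem hu' hv')) hprod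
  have e1 : (⟨e * (u' * v'), hQ.le_centralizer' (mul_mem he (mul_mem hu' hv'))⟩ :
      Subgroup.centralizer ({z} : Set G)) = ⟨e, hQ.le_centralizer' he⟩ *
      (⟨u', hQ.le_centralizer' hu'⟩ * ⟨v', hQ.le_centralizer' hv'⟩) := rfl
  rw [e1, map_mul, map_mul, hinvol u' hu' hu2, hinvol v' hv' hv2, mul_one, mul_one] at hh
  exact hh

end Ctx

end Cfsg.Lib.Extra
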