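import Cfsg.Agent.Lib.Extra.LargeTwoCore
import Mathlib.GroupTheory.Perm.Fin

/-!
# The centralizer of the centre of a self-centralizing extraspecial 2-core of order eight
-/

set_option autoImplicit false
set_option linter.style.haveILetI false

namespace Cfsg.Lib.Extra

open scoped commutatorElement

variable {G : Type*} [Group G] [Finite G] {Q : Subgroup G} {z : G}

theorem perm_three {X : Type*} [Fintype X] [DecidableEq X] (hX : Fintype.card X ≤ 3) (σ : Equiv.Perm X) :
    σ ^ 2 = 1 ∨ (σ ^ 3 = 1 ∧ ∀ x, σ x ≠ x) := by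
  have key : ∀ n ≤ 3, ∀ τ : Equiv.Perm (Fin n), τ ^ 2 = 1 ∨ (τ ^ 3 = 1 ∧ ∀ x, τ x ≠ x) := by decide
  let e := Fintype.equivFin X
  rcases key _ hX (e.permCongrHom σ) with h | ⟨h, hx⟩
  · exact Or.inl (e.permCongrHom.injective (by rw [map_pow, h, map_one]))
  · refine Or.inr ⟨e.permCongrHom.injective (by rw [map_pow, h, map_one]), fun x hσ => hx (e x) ?_⟩
    show e (σ (e.symm (e x))) = e x
    rw [e.symm_apply_apply, hσ]

/-- For a 2-core of order eight the abelianization 2-part has exponent at most two. -/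
theorem Ctx.sq_eq_one_of_small (hQ : Ctx Q z)
    (hQcore : Q = (Cfsg.pCore 2 ↥(Subgroup.centralizer ({z} : Set G))).map
      (Subgroup.centralizer ({z} : Set G)).subtype)
    (hcard : Nat.card Q < 16) (hna : ∃ u ∈ Q, ∃ v ∈ Q, ¬ Commute u v)
    {A : Type*} [CommGroup A] (hA : IsPGroup 2 A) (φ : Subgroup.centralizer ({z} : Set G) →* A)
    (h : Subgroup.centralizer ({z} : Set G)) : φ h ^ 2 = 1 := by
  classical
  haveI : Fact (Nat.Prime 2) := ⟨Nat.prime_two⟩
  have hQH := hQ.le_centralizer'
  obtain ⟨u, hu, v, hv, huv⟩ := hna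
  have huv' : u * v * u⁻¹ * v⁻¹ = z := (hQ.comm u hu v hv).resolve_left fun h' =>
    huv (mul_inv_eq_iff_eq_mul.1 (mul_inv_eq_one.1 h'))
  have hφz : φ ⟨z, hQH hQ.mem⟩ = 1 := by
    have e1 : (⟨z, hQH hQ.mem⟩ : Subgroup.centralizer ({z} : Set G)) =
        ⁅(⟨u, hQH hu⟩ : Subgroup.centralizer ({z} : Set G)), ⟨v, hQH hv⟩⁆ := Subtype.ext huv'.symm
    rw [e1, map_commutatorElement]
    exact commutatorElement_eq_one_iff_mul_comm.2 (mul_comm _ _)
  have hφsq : ∀ x (hx : x ∈ Q), φ ⟨x, hQH hx⟩ ^ 2 = 1 := fun x hx => by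
    rw [← map_pow]
    rcases hQ.sq x hx with h' | h'
    · rw [← map_one φ]
      exact congrArg φ (Subtype.ext (by simpa [pow_two] using h'))
    · rw [← hφz]
      exact congrArg φ (Subtype.ext (by simpa [pow_two] using h'))
  -- the four classes modulo the centre
  set Z := (Subgroup.zpowers z).subgroupOf (Subgroup.centralizer ({z} : Set G)) with hZ
  haveI : Z.Normal := ⟨fun x hx y => by
    have hc : Commute (y : G) x := by
      obtain ⟨i, hi⟩ := Subgroup.mem_zpowers_iff.1 (Subgroup.mem_subgroupOf.1 hx)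
      rw [← hi]
      exact Commute.zpow_right (Subgroup.mem_centralizer_singleton_iff.1 y.2) i
    have : y * x * y⁻¹ = x := Subtype.ext (by
      show (y : G) * x * (y : G)⁻¹ = x
      rw [hc.eq, mul_inv_cancel_right])
    rwa [this]⟩
  have hmemZ : ∀ x : Subgroup.centralizer ({z} : Set G), x ∈ Z ↔ (x : G) = 1 ∨ (x : G) = z := fun x => by
    constructor
    · intro h'
      obtain ⟨k, hk⟩ := Subgroup.mem_zpowers_iff.1 (Subgroup.mem_subgroupOf.1 h')
      rw [← hk]
      have h2 : z ^ (2 : ℤ) = 1 := by rw [zpow_two, hQ.sq_z]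
      rcases Int.even_or_odd' k with ⟨j, rfl | rfl⟩
      · exact Or.inl (by rw [zpow_mul, h2, one_zpow])
      · exact Or.inr (by rw [zpow_add_one, zpow_mul, h2, one_zpow, one_mul])
    · rintro (h' | h') <;> rw [hZ, Subgroup.mem_subgroupOf, h']
      · exact one_mem _
      · exact Subgroup.mem_zpowers z
  set E : Subgroup ((Subgroup.centralizer ({z} : Set G)) ⧸ Z) :=
    (Q.subgroupOf (Subgroup.centralizer ({z} : Set G))).map (QuotientGroup.mk' Z) with hE
  haveI : (Q.subgroupOf (Subgroup.centralizer ({z} : Set G))).Normal :=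
    (Subgroup.normal_subgroupOf_iff_le_normalizer hQH).2 fun c hc =>
      hQ.norm c (Subgroup.mem_centralizer_singleton_iff.1 hc)
  haveI : E.Normal := Subgroup.Normal.map inferInstance _ (QuotientGroup.mk'_surjective Z)
  have hEmem : ∀ x : Subgroup.centralizer ({z} : Set G), ((x : (Subgroup.centralizer ({z} : Set G)) ⧸ Z)) ∈ E ↔ (x : G) ∈ Q := fun x => by
    constructor
    · rintro ⟨y, hy, hxy⟩
      rcases (hmemZ _).1 (QuotientGroup.eq.1 hxy) with h' | h' <;>
        simp only [Subgroup.coe_mul, Subgroup.coe_inv] at h'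
      · rw [← inv_mul_eq_one.1 h']; exact hy
      · rw [eq_mul_of_inv_mul_eq h']; exact mul_mem hy hQ.mem
    · exact fun h' => ⟨x, h', rfl⟩
  have hQcard : ∀ y : E, ∃ x, ∃ hx : x ∈ Q, ((⟨x, hQH hx⟩ : Subgroup.centralizer ({z} : Set G)) :
      (Subgroup.centralizer ({z} : Set G)) ⧸ Z) = y := fun y => by
    obtain ⟨x, hx, hxy⟩ := y.2
    exact ⟨x, hx, hxy⟩
  choose rep hrep hrep' using hQcard
  have hEcard : Nat.card E ≤ 4 := by
    let F : Bool × E → Q := fun p => if p.1 then ⟨rep p.2 * z, mul_mem (hrep p.2) hQ.mem⟩ else ⟨rep p.2, hrep p.2⟩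
    have hF : Function.Injective F := by
      rintro ⟨b, y⟩ ⟨b', y'⟩ hbb
      have hG : (F (b, y) : G) = F (b', y') := congrArg Subtype.val hbb
      have hy : y = y' := by
        refine Subtype.ext ?_
        rw [← hrep' y, ← hrep' y']
        refine QuotientGroup.eq.2 ((hmemZ _).2 ?_)
        simp only [Subgroup.coe_mul, Subgroup.coe_inv]
        revert hG
        cases b <;> cases b' <;> simp only [F, Bool.false_eq_true, if_false, if_true] <;> intro hG
        · exact Or.inl (by rw [hG, inv_mul_cancel])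
        · refine Or.inr ?_
          rw [hG, mul_inv_rev, mul_assoc, inv_mul_cancel, mul_one, hQ.inv_z]
        · refine Or.inr ?_
          rw [← hG, inv_mul_cancel_left]
        · exact Or.inl (by rw [mul_right_cancel hG, inv_mul_cancel])
      subst hy
      refine Prod.ext ?_ rfl
      cases b <;> cases b' <;> simp only [F, Bool.false_eq_true, if_false, if_true] at hG <;>
        first | rfl | exact absurd hG (by simp [hQ.ne_one])
    have h1 := Nat.card_le_card_of_injective F hF
    rw [Nat.card_prod, Nat.card_eq_fintype_card (α := Bool), Fintype.card_bool] at h1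
    obtain ⟨i, hi⟩ := hQ.two.exists_card_eq
    have hi3 : i ≤ 3 := by
      by_contra hcon
      have : (2 : ℕ) ^ 4 ≤ 2 ^ i := Nat.pow_le_pow_right (by norm_num) (by omega)
      omega
    have : (2 : ℕ) ^ i ≤ 2 ^ 3 := Nat.pow_le_pow_right (by norm_num) hi3
    omega
  letI : Fintype E := Fintype.ofFinite _
  let X := {y : E // y ≠ 1}
  have hXcard : Fintype.card X ≤ 3 := by
    have h1 := Fintype.card_subtype_compl (fun y : E => y = 1)
    rw [Fintype.card_subtype_eq] at h1
    change Fintype.card X = _ at h1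
    rw [← Nat.card_eq_fintype_card (α := E)] at h1
    omega
  let π : Subgroup.centralizer ({z} : Set G) → MulAut E := fun g =>
    MulAut.conjNormal ((g : (Subgroup.centralizer ({z} : Set G)) ⧸ Z))
  have hπpow : ∀ g n, π (g ^ n) = π g ^ n := fun g n => by
    simp only [π]; rw [← map_pow, ← QuotientGroup.mk_pow]
  have hker : ∀ g, π g = 1 → (g : G) ∈ Q := by
    intro g hg
    have hfix : ∀ x ∈ Q, (g : G) * x * (g : G)⁻¹ = x ∨ (g : G) * x * (g : G)⁻¹ = z * x := by
      intro x hx
      have h1 := congrArg Subtype.val (DFunLike.congr_fun hg ⟨_, (hEmem ⟨x, hQH hx⟩).2 hx⟩)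
      simp only [π, MulAut.conjNormal_apply, MulAut.one_apply] at h1
      rw [← QuotientGroup.mk_inv, ← QuotientGroup.mk_mul, ← QuotientGroup.mk_mul, eq_comm,
        QuotientGroup.eq, hmemZ] at h1
      simp only [Subgroup.coe_mul, Subgroup.coe_inv] at h1
      rcases h1 with h' | h'
      · exact Or.inl (inv_mul_eq_one.1 h').symm
      · exact Or.inr ((eq_mul_of_inv_mul_eq h').trans (hQ.central x hx).symm.eq)
    have hz : Commute (g : G) z := Subgroup.mem_centralizer_singleton_iff.1 g.2
    -- correct `g` by a product of `u` and `v`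
    have hvu : v * u * v⁻¹ = z * u := mul_inv_eq_iff_eq_mul.1 (by
      calc v * u * v⁻¹ * u⁻¹ = (u * v * u⁻¹ * v⁻¹)⁻¹ := by group
        _ = z := by rw [huv', hQ.inv_z])
    have huv2 : u * v * u⁻¹ = z * v := mul_inv_eq_iff_eq_mul.1 huv'
    have adjust : ∀ g' : G, (g' * u * g'⁻¹ = u ∨ g' * u * g'⁻¹ = z * u) →
        (g' * v * g'⁻¹ = v ∨ g' * v * g'⁻¹ = z * v) → Commute g' z →
        ∃ q ∈ Q, Commute (g' * q) u ∧ Commute (g' * q) v := by
      intro g' h1 h2 hz'
      have conjq : ∀ {q x k : G}, q * x * q⁻¹ = k * x → Commute g' k →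
          g' * q * x * (g' * q)⁻¹ = k * (g' * x * g'⁻¹) := by
        intro q x k hq hk
        calc g' * q * x * (g' * q)⁻¹ = g' * (q * x * q⁻¹) * g'⁻¹ := by group
          _ = g' * k * x * g'⁻¹ := by rw [hq]; simp only [mul_assoc]
          _ = k * (g' * x * g'⁻¹) := by rw [hk.eq]; simp only [mul_assoc]
      have hone : ∀ {q x : G}, q * x * q⁻¹ = x → g' * q * x * (g' * q)⁻¹ = g' * x * g'⁻¹ :=
        fun {q x} hq => by simpa using conjq (k := 1) (by rw [hq, one_mul]) (Commute.one_right g')
      have hzz : ∀ x, z * (z * x) = x := fun x => by rw [← mul_assoc, hQ.sq_z, one_mul]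
      have huu : u * u * u⁻¹ = u := mul_inv_cancel_right u u
      have hvv : v * v * v⁻¹ = v := mul_inv_cancel_right v v
      rcases h1 with h1 | h1 <;> rcases h2 with h2 | h2
      · exact ⟨1, one_mem _, mul_inv_eq_iff_eq_mul.1 (by simpa using h1),
          mul_inv_eq_iff_eq_mul.1 (by simpa using h2)⟩
      · exact ⟨u, hu, mul_inv_eq_iff_eq_mul.1 ((hone huu).trans h1),
          mul_inv_eq_iff_eq_mul.1 ((conjq huv2 hz').trans (by rw [h2, hzz]))⟩
      · exact ⟨v, hv, mul_inv_eq_iff_eq_mul.1 ((conjq hvu hz').trans (by rw [h1, hzz])),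
          mul_inv_eq_iff_eq_mul.1 ((hone hvv).trans h2)⟩
      · have e1 : (v * u) * u * (v * u)⁻¹ = z * u := by rw [← hvu]; group
        have e2 : (v * u) * v * (v * u)⁻¹ = z * v := by
          calc (v * u) * v * (v * u)⁻¹ = v * (u * v * u⁻¹) * v⁻¹ := by group
            _ = _ := by rw [huv2, ← mul_assoc v z, ← (hQ.central v hv).eq]; group
        exact ⟨v * u, mul_mem hv hu, mul_inv_eq_iff_eq_mul.1 ((conjq e1 hz').trans (by rw [h1, hzz])),
          mul_inv_eq_iff_eq_mul.1 ((conjq e2 hz').trans (by rw [h2, hzz]))⟩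
    obtain ⟨q, hq, hqu, hqv⟩ := adjust g (hfix u hu) (hfix v hv) hz
    have hgq : ∀ x ∈ Q, Commute ((g : G) * q) x := by
      intro x hx
      -- `Q` is covered by the classes of `u`, `v`
      let T : Subgroup G := Q ⊓ Subgroup.centralizer ({u} : Set G)
      have hT : ∀ {a : G}, a ∈ T ↔ a ∈ Q ∧ Commute a u := fun {a} => by
        simp only [T, Subgroup.mem_inf, Subgroup.mem_centralizer_singleton_iff]; rfl
      have hzc : Commute ((g : G) * q) z := hz.mul_left (hQ.central q hq).symm
      have hu1 : u ≠ 1 := fun h' => huv (h' ▸ Commute.one_left v)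
      have huz : u ≠ z := fun h' => huv (h' ▸ hQ.central v hv)
      have hTcases : ∀ a ∈ T, a = 1 ∨ a = z ∨ a = u ∨ a = z * u := by
        intro a ha
        by_contra hcon
        push Not at hcon
        have hsub : ({1, z, u, z * u, a} : Set G) ⊆ (T : Set G) := by
          intro w hw
          simp only [Set.mem_insert_iff, Set.mem_singleton_iff] at hw
          rcases hw with hw | hw | hw | hw | hw <;> rw [hw]
          exacts [one_mem _, hT.2 ⟨hQ.mem, hQ.central u hu⟩, hT.2 ⟨hu, Commute.refl u⟩,
            hT.2 ⟨mul_mem hQ.mem hu, (hQ.central u hu).mul_left (Commute.refl u)⟩, ha]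
        have h5 := Set.ncard_le_ncard hsub
        have e5 : ({1, z, u, z * u, a} : Set G).ncard = 5 := by
          have h1 : z * u ≠ 1 := fun h' => huz ((eq_inv_of_mul_eq_one_right h').trans hQ.inv_z)
          have h2 : z * u ≠ z := fun h' => hu1 (mul_eq_left.1 h')
          have h3 : z * u ≠ u := fun h' => hQ.ne_one (mul_eq_right.1 h')
          rw [Set.ncard_insert_of_notMem (by simp [hQ.ne_one.symm, hu1.symm, h1.symm, hcon.1.symm]),
            Set.ncard_insert_of_notMem (by simp [huz.symm, h2.symm, hcon.2.1.symm]),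
            Set.ncard_insert_of_notMem (by simp [h3.symm, hcon.2.2.1.symm]),
            Set.ncard_pair hcon.2.2.2.symm]
        rw [e5, ← Nat.card_coe_set_eq] at h5
        let F : Bool × T → Q := fun p => if p.1 then ⟨v * p.2, mul_mem hv (hT.1 p.2.2).1⟩
          else ⟨p.2, (hT.1 p.2.2).1⟩
        have hF : Function.Injective F := by
          rintro ⟨b, y⟩ ⟨b', y'⟩ hbb
          have hG : (F (b, y) : G) = F (b', y') := congrArg Subtype.val hbb
          have hvT : ∀ y y' : T, (y : G) ≠ v * y' := fun y y' e => huv (Commute.symm (by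
            have h1 : Commute (v * (y' : G)) u := e ▸ (hT.1 y.2).2
            simpa using h1.mul_left (hT.1 y'.2).2.inv_left))
          cases b <;> cases b' <;> simp only [F, Bool.false_eq_true, if_false, if_true] at hG
          · rw [Subtype.ext hG]
          · exact absurd hG (hvT y y')
          · exact absurd hG.symm (hvT y' y)
          · rw [Subtype.ext (mul_left_cancel hG)]
        have h1 := Nat.card_le_card_of_injective F hF
        rw [Nat.card_prod, Nat.card_eq_fintype_card (α := Bool), Fintype.card_bool] at h1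
        change 5 ≤ Nat.card T at h5
        obtain ⟨i, hi⟩ := hQ.two.exists_card_eq
        have hi3 : i ≤ 3 := by
          by_contra hcon'
          have : (2 : ℕ) ^ 4 ≤ 2 ^ i := Nat.pow_le_pow_right (by norm_num) (by omega)
          omega
        have : (2 : ℕ) ^ i ≤ 2 ^ 3 := Nat.pow_le_pow_right (by norm_num) hi3
        omega
      have hTc : ∀ a ∈ T, Commute ((g : G) * q) a := fun a ha => by
        rcases hTcases a ha with e | e | e | e <;> rw [e]
        exacts [Commute.one_right _, hzc, hqu, hzc.mul_right hqu]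
      rcases hQ.commute_or hv hvu hx hu with h' | h'
      · exact hTc x (hT.2 ⟨hx, h'⟩)
      · simpa using hqv.inv_right.mul_right (hTc _ (hT.2 ⟨mul_mem hv hx, h'⟩))
    have hgqQ : (g : G) * q ∈ Q := by
      rcases hQ.cent _ hgq with h' | h' <;> rw [h']
      exacts [one_mem _, hQ.mem]
    simpa using mul_mem hgqQ (inv_mem hq)
  let ρ : MulAut E → Equiv.Perm X := fun σ =>
    Equiv.Perm.subtypePerm (σ.toEquiv : Equiv.Perm E) fun y => by simp
  have hρ1 : ∀ σ, ρ σ = 1 → σ = 1 := fun σ h' => MulEquiv.ext fun y => by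
    by_cases hy : y = 1
    · simp [hy]
    · exact congrArg Subtype.val (Equiv.congr_fun h' ⟨y, hy⟩)
  have hρpow : ∀ σ n, ρ (σ ^ n) = ρ σ ^ n := by
    intro σ n
    induction n with
    | zero => ext y; rfl
    | succ n ih => rw [pow_succ, pow_succ, ← ih]; ext y; rfl
  have hcases : ∀ g : Subgroup.centralizer ({z} : Set G), ((g : G) ^ 2 ∈ Q) ∨
      ((g : G) ^ 3 ∈ Q ∧ ∀ y : E, y ≠ 1 → π g y ≠ y) := by
    intro g
    rcases perm_three hXcard (ρ (π g)) with h' | ⟨h', hx⟩
    · left
      rw [← hρpow, ← hπpow] at h'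
      exact hker _ (hρ1 _ h')
    · right
      rw [← hρpow, ← hπpow] at h'
      exact ⟨hker _ (hρ1 _ h'), fun y hy e => hx ⟨y, hy⟩ (Subtype.ext e)⟩
  by_cases hall : ∀ g : Subgroup.centralizer ({z} : Set G), (g : G) ^ 2 ∈ Q
  · -- then `C(z)` is a 2-group, hence equal to `Q`
    have hH2 : IsPGroup 2 (Subgroup.centralizer ({z} : Set G)) := fun g => by
      obtain ⟨i, hi⟩ := hQ.two ⟨_, hall g⟩
      refine ⟨i + 1, Subtype.ext ?_⟩
      rw [SubgroupClass.coe_pow, pow_succ', pow_mul]
      exact congrArg Subtype.val hi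
    have htop := Lib.Core.pCore_eq_top hH2
    have hhQ : (h : G) ∈ Q := by rw [hQcore, htop]; exact ⟨h, Subgroup.mem_top h, rfl⟩
    exact hφsq _ hhQ
  · push Not at hall
    obtain ⟨g, hg⟩ := hall
    obtain ⟨hg3, hfree⟩ := (hcases g).resolve_left hg
    -- `φ` kills `Q`
    have hkill : ∀ x (hx : x ∈ Q), φ ⟨x, hQH hx⟩ = 1 := by
      let Φ : (Subgroup.centralizer ({z} : Set G)) ⧸ Z →* A := QuotientGroup.lift Z φ fun a ha => by
        rcases (hmemZ a).1 ha with h' | h'
        · rw [show a = 1 from Subtype.ext h']; exact map_one φ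
        · rw [show a = ⟨z, hQH hQ.mem⟩ from Subtype.ext h']; exact hφz
      have hinv : ∀ y : E, Φ (π g y : E) = Φ y := fun y => by
        simp only [π, MulAut.conjNormal_apply]
        rw [map_mul, map_mul, map_inv, mul_comm, inv_mul_cancel_left]
      have hkey : ∀ y : E, y ≠ 1 → Φ y = 1 := by
        intro y hy
        have hne : π g y ≠ 1 := fun e => hy ((π g).injective (e.trans (map_one _).symm))
        have h2 := hfree y hy
        have h3 := hfree _ hne
        have h1 : π g (π g y) ≠ y := by
          intro e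
          have e3 : π g (π g (π g y)) = y := by
            have h3' : π g ^ 3 = 1 := by
              rw [← hπpow]
              refine MulEquiv.ext fun w => Subtype.ext ?_
              obtain ⟨w', hw', hww⟩ := w.2
              simp only [π, MulAut.conjNormal_apply, MulAut.one_apply]
              rw [← hww]
              show ((g ^ 3 * w' * (g ^ 3)⁻¹ : Subgroup.centralizer ({z} : Set G)) :
                (Subgroup.centralizer ({z} : Set G)) ⧸ Z) = (w' : _ ⧸ Z)
              rw [eq_comm, QuotientGroup.eq, hmemZ]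
              have := hQ.comm _ (inv_mem (show (w' : G) ∈ Q from hw')) _
                (show ((g ^ 3 : Subgroup.centralizer ({z} : Set G)) : G) ∈ Q by simpa using hg3)
              simpa [mul_assoc] using this
            simpa [pow_succ, MulAut.mul_apply] using DFunLike.congr_fun h3' y
          rw [e] at e3
          exact h2 e3
        -- the third class is the product
        have hprod : π g (π g y) = y * π g y := by
          by_contra hne3
          have hy1 : y * π g y ≠ 1 := by
            intro e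
            have hyy : y * y = 1 := by
              obtain ⟨x, hx, hxy⟩ := y.2
              refine Subtype.ext ?_
              show (y : (Subgroup.centralizer ({z} : Set G)) ⧸ Z) * y = 1
              rw [← hxy, ← map_mul]
              refine (QuotientGroup.eq_one_iff _).2 ((hmemZ _).2 ?_)
              exact hQ.sq _ hx
            exact h2 (mul_left_cancel (e.trans hyy.symm))
          let S : Finset X := {⟨y, hy⟩, ⟨π g y, hne⟩,
            ⟨π g (π g y), fun e => hne ((π g).injective (e.trans (map_one _).symm))⟩, ⟨y * π g y, hy1⟩}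
          have hS : S.card = 4 := by
            rw [Finset.card_insert_of_notMem, Finset.card_insert_of_notMem, Finset.card_pair]
            · exact fun e => hne3 (congrArg Subtype.val e)
            · simp only [Finset.mem_insert, Finset.mem_singleton, not_or]
              exact ⟨fun e => h3 (congrArg Subtype.val e).symm,
                fun e => hy (mul_eq_right.1 (congrArg Subtype.val e).symm)⟩
            · simp only [Finset.mem_insert, Finset.mem_singleton, not_or]
              exact ⟨fun e => h2 (congrArg Subtype.val e).symm, fun e => h1 (congrArg Subtype.val e).symm,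
                fun e => hne (mul_eq_left.1 (congrArg Subtype.val e).symm)⟩
          have := Finset.card_le_univ S
          omega
        have h4 : Φ ((π g (π g y) : E)) = Φ y := (hinv _).trans (hinv y)
        rw [hprod, Subgroup.coe_mul, map_mul, hinv, mul_eq_left] at h4
        exact h4
      intro x hx
      by_cases hx1 : (⟨_, (hEmem ⟨x, hQH hx⟩).2 hx⟩ : E) = 1
      · have := congrArg (fun y : E => Φ (y : _ ⧸ Z)) hx1
        simp only [Subgroup.coe_one, map_one] at this
        exact this
      · exact hkey _ hx1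
    rcases hcases h with h' | ⟨h', -⟩
    · rw [← map_pow]
      exact (congrArg φ (Subtype.ext rfl : h ^ 2 = ⟨_, hQH h'⟩)).trans (hkill _ h')
    · have h3 : φ h ^ 3 = 1 := by
        rw [← map_pow]
        exact (congrArg φ (Subtype.ext rfl : h ^ 3 = ⟨_, hQH h'⟩)).trans (hkill _ h')
      obtain ⟨i, hi⟩ := hA (φ h)
      have hcop : Nat.Coprime (2 ^ i) 3 := Nat.Coprime.pow_left _ (by norm_num)
      have h5 := pow_gcd_eq_one.mpr ⟨hi, h3⟩
      rw [hcop.gcd_eq_one, pow_one] at h5
      rw [h5, one_pow]

end Cfsg.Lib.Extra
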