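import Cfsg.Agent.Lib.Extra.CocycleModel
import Cfsg.Agent.Lib.Extra.Structure
import Cfsg.Agent.Lib.PGroup.ExtraspecialClassify
import Cfsg.Prelude.Def_KGroupFacts
import Cfsg.Prelude.Def_Classical

/-!
# Outer automorphisms of extraspecial two-groups
-/

set_option autoImplicit false

namespace Cfsg.Lib.Extra

open Module
open scoped Matrix

variable {V : Type} [AddCommGroup V] [Module (ZMod 2) V]
  (β : LinearMap.BilinForm (ZMod 2) V)

/-- The linear automorphisms preserving the squaring form. -/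
def qAut : Subgroup (V ≃ₗ[ZMod 2] V) where
  carrier := {L | ∀ v, β (L v) (L v) = β v v}
  one_mem' := fun _ => rfl
  mul_mem' := fun {L K} hL hK v => (hL (K v)).trans (hK v)
  inv_mem' := fun {L} hL v => by
    have h := hL (L.symm v)
    rw [L.apply_symm_apply] at h
    exact h.symm

theorem mem_qAut {L : V ≃ₗ[ZMod 2] V} : L ∈ qAut β ↔ ∀ v, β (L v) (L v) = β v v := Iff.rfl

variable {β}

/-- An alternating form is the polar of a quadratic form. -/
theorem exists_polar [Finite V] (D : LinearMap.BilinForm (ZMod 2) V) (hD : ∀ v, D v v = 0) :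
    ∃ c : V → ZMod 2, ∀ u v, c (u + v) = c u + c v + D u v := by
  classical
  haveI : Fact (Nat.Prime 2) := ⟨Nat.prime_two⟩
  haveI : Module.Finite (ZMod 2) V := Module.Finite.of_finite
  let b := Module.finBasis (ZMod 2) V
  let C : LinearMap.BilinForm (ZMod 2) V :=
    Matrix.toBilin b (Matrix.of fun i j => if i < j then D (b i) (b j) else 0)
  have hsym : ∀ u v, D u v = D v u := fun u v => by
    have e := hD (u + v)
    simp only [map_add, LinearMap.add_apply, hD, zero_add, add_zero] at e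
    exact (CharTwo.add_eq_zero.mp e).symm
  have key : C + C.flip = D := by
    refine LinearMap.BilinForm.ext_basis b fun i j => ?_
    have hC : ∀ i j, C (b i) (b j) = if i < j then D (b i) (b j) else 0 := fun i j => by
      rw [← LinearMap.BilinForm.toMatrix_apply (b := b)]
      rw [show LinearMap.BilinForm.toMatrix b C = _ from LinearMap.BilinForm.toMatrix_toBilin b _]
      rfl
    show C (b i) (b j) + C (b j) (b i) = D (b i) (b j)
    rw [hC, hC]
    rcases lt_trichotomy i j with h | h | h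
    · rw [if_pos h, if_neg (by omega), add_zero]
    · subst h
      simp [hD]
    · rw [if_neg (by omega), if_pos h, zero_add, hsym]
  refine ⟨fun v => C v v, fun u v => ?_⟩
  rw [show D u v = C u v + C v u by rw [← key]; rfl]
  simp only [map_add, LinearMap.add_apply]
  ring

/-- The central elements are fixed by every automorphism. -/
theorem aut_fix_center (hnd : ∀ v : V, (∀ w, β v w = β w v) → v = 0)
    (φ : MulAut (Cocycle β)) (s : ZMod 2) : φ ⟨s, 0⟩ = ⟨s, 0⟩ := by
  have hv : (φ ⟨s, 0⟩).v = 0 := by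
    refine hnd _ fun w => (commute_iff (φ ⟨s, 0⟩) ⟨0, w⟩).1 ?_
    obtain ⟨y, hy⟩ := φ.surjective ⟨0, w⟩
    rw [← hy]
    refine Commute.map ((commute_iff _ _).2 ?_) φ.toMonoidHom
    simp
  rcases (by decide : ∀ a : ZMod 2, a = 0 ∨ a = 1) s with rfl | rfl
  · exact map_one φ
  rcases (by decide : ∀ a : ZMod 2, a = 0 ∨ a = 1) (φ ⟨1, 0⟩).s with h | h
  · exfalso
    have e : φ ⟨1, 0⟩ = φ 1 := by
      rw [map_one]
      exact Cocycle.ext' h hv
    exact one_ne_zero (congrArg Cocycle.s (φ.injective e) : (1 : ZMod 2) = 0)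
  · exact Cocycle.ext' h hv

theorem mk_eq (s : ZMod 2) (v : V) : (⟨s, v⟩ : Cocycle β) = ⟨s, 0⟩ * ⟨0, v⟩ :=
  Cocycle.ext' (by simp [mul_s]) (by simp [mul_v])

theorem aut_v (hnd : ∀ v : V, (∀ w, β v w = β w v) → v = 0) (φ : MulAut (Cocycle β))
    (x : Cocycle β) : (φ x).v = (φ ⟨0, x.v⟩).v := by
  obtain ⟨s, v⟩ := x
  rw [mk_eq s v, map_mul, mul_v, aut_fix_center hnd φ s, mul_v, zero_add, zero_add]

/-- The action of an automorphism on `V`. -/
def autLin (hnd : ∀ v : V, (∀ w, β v w = β w v) → v = 0) (φ : MulAut (Cocycle β)) :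
    V ≃ₗ[ZMod 2] V :=
  (show V ≃+ V from
    { toFun := fun v => (φ ⟨0, v⟩).v
      invFun := fun v => (φ.symm ⟨0, v⟩).v
      left_inv := fun v => by
        show (φ.symm ⟨0, (φ ⟨0, v⟩).v⟩).v = v
        rw [← aut_v hnd φ.symm (φ ⟨0, v⟩), φ.symm_apply_apply]
      right_inv := fun v => by
        show (φ ⟨0, (φ.symm ⟨0, v⟩).v⟩).v = v
        rw [← aut_v hnd φ (φ.symm ⟨0, v⟩), φ.apply_symm_apply]
      map_add' := fun u v => by
        rw [← mul_v, ← map_mul, aut_v hnd φ (⟨0, u⟩ * ⟨0, v⟩)]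
        rfl }).toLinearEquiv fun c v => ZMod.map_smul _ c v

theorem autLin_apply (hnd : ∀ v : V, (∀ w, β v w = β w v) → v = 0) (φ : MulAut (Cocycle β))
    (v : V) : autLin hnd φ v = (φ ⟨0, v⟩).v := rfl

/-- The map onto the automorphisms of the form. -/
def autHom (hnd : ∀ v : V, (∀ w, β v w = β w v) → v = 0) : MulAut (Cocycle β) →* qAut β :=
  MonoidHom.mk' (fun φ => ⟨autLin hnd φ, fun v => by
    have h : φ (⟨0, v⟩ ^ 2) = (φ ⟨0, v⟩) ^ 2 := map_pow φ _ _
    rw [sq_eq, sq_eq, aut_fix_center hnd φ] at h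
    exact (congrArg Cocycle.s h).symm⟩) fun φ ψ => by
      refine Subtype.ext (LinearEquiv.ext fun v => ?_)
      show (φ (ψ ⟨0, v⟩)).v = (φ ⟨0, (ψ ⟨0, v⟩).v⟩).v
      exact aut_v hnd φ _

theorem autHom_surjective [Finite V] (hnd : ∀ v : V, (∀ w, β v w = β w v) → v = 0) :
    Function.Surjective (autHom hnd) := by
  rintro ⟨L, hL⟩
  obtain ⟨c, hc⟩ := exists_polar (β.compl₁₂ L.toLinearMap L.toLinearMap - β) (fun v => by
    show β (L v) (L v) - β v v = 0
    rw [hL v, sub_self])
  have hc' : ∀ u v, c (u + v) = c u + c v + (β (L u) (L v) - β u v) := hc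
  have hc0 : c 0 = 0 := by
    have := hc' 0 0
    simpa using this
  let φ : Cocycle β →* Cocycle β := MonoidHom.mk' (fun x => ⟨x.s + c x.v, L x.v⟩) fun x y =>
    Cocycle.ext' (by
      show x.s + y.s + β x.v y.v + c (x.v + y.v) =
        x.s + c x.v + (y.s + c y.v) + β (L x.v) (L y.v)
      rw [hc']
      ring) (map_add L _ _)
  have hφ : Function.Injective φ := fun x y h => by
    have hv : x.v = y.v := L.injective (congrArg Cocycle.v h)
    refine Cocycle.ext' ?_ hv
    have hs : x.s + c x.v = y.s + c y.v := congrArg Cocycle.s h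
    rw [hv] at hs
    exact add_right_cancel hs
  exact ⟨MulEquiv.ofBijective φ ((Finite.injective_iff_bijective).1 hφ),
    Subtype.ext (LinearEquiv.ext fun v => rfl)⟩

theorem autHom_ker [Finite V] (hnd : ∀ v : V, (∀ w, β v w = β w v) → v = 0) :
    (autHom hnd).ker = Cfsg.Inn (Cocycle β) := by
  haveI : Fact (Nat.Prime 2) := ⟨Nat.prime_two⟩
  haveI : Module.Finite (ZMod 2) V := Module.Finite.of_finite
  ext φ
  constructor
  · intro hφ
    have hid : ∀ v, (φ ⟨0, v⟩).v = v := fun v =>
      LinearEquiv.congr_fun (congrArg Subtype.val (MonoidHom.mem_ker.1 hφ)) v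
    let δ : V →+ ZMod 2 :=
      { toFun := fun v => (φ ⟨0, v⟩).s
        map_zero' := congrArg Cocycle.s (map_one φ)
        map_add' := fun u v => by
          have h : φ (⟨0, u⟩ * ⟨0, v⟩) = φ ⟨0, u⟩ * φ ⟨0, v⟩ := map_mul φ _ _
          rw [show (⟨0, u⟩ * ⟨0, v⟩ : Cocycle β) = ⟨β u v, 0⟩ * ⟨0, u + v⟩ from
            Cocycle.ext' (by simp [mul_s]) (by simp [mul_v]), map_mul, aut_fix_center hnd] at h
          have hs := congrArg Cocycle.s h
          simp only [mul_s, hid, map_zero, LinearMap.zero_apply, add_zero] at hs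
          linear_combination hs }
    have hbij : Function.Surjective (β + β.flip) := by
      refine (LinearMap.injective_iff_surjective_of_finrank_eq_finrank
        (Subspace.dual_finrank_eq).symm).1 ?_
      rw [injective_iff_map_eq_zero]
      intro v hv
      refine hnd v fun w => ?_
      have : β v w + β w v = 0 := LinearMap.congr_fun hv w
      exact CharTwo.add_eq_zero.mp this
    obtain ⟨w, hw⟩ := hbij (δ.toZModLinearMap 2)
    refine ⟨⟨0, w⟩, MulEquiv.ext fun x => ?_⟩
    obtain ⟨s, v⟩ := x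
    rw [mk_eq s v, map_mul, map_mul, aut_fix_center hnd, aut_fix_center hnd]
    congr 1
    refine Cocycle.ext' ?_ ?_
    · have hwv : β w v + β v w = (φ ⟨0, v⟩).s := LinearMap.congr_fun hw v
      rw [MulAut.conj_apply, ← hwv]
      show 0 + 0 + β w v + (-0 + β w w) + β (w + v) (-w) = β w v + β v w
      simp only [map_add, map_neg, LinearMap.add_apply, neg_zero, zero_add, ZModModule.neg_eq_self]
      have h2 : β w w + β w w = 0 := CharTwo.add_self_eq_zero _
      linear_combination h2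
    · rw [MulAut.conj_apply, hid]
      show w + v + -w = v
      abel
  · rintro ⟨g, rfl⟩
    refine MonoidHom.mem_ker.2 (Subtype.ext (LinearEquiv.ext fun v => ?_))
    show (g * ⟨0, v⟩ * g⁻¹).v = v
    show g.v + v + -g.v = v
    abel

/-- Outer automorphisms of a cocycle group. -/
theorem out_equiv [Finite V] (hnd : ∀ v : V, (∀ w, β v w = β w v) → v = 0) :
    Nonempty (Cfsg.Out (Cocycle β) ≃* qAut β) :=
  ⟨(QuotientGroup.quotientMulEquivOfEq (autHom_ker hnd).symm).trans
    (QuotientGroup.quotientKerEquivOfSurjective _ (autHom_surjective hnd))⟩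

/-- The form read through coordinates. -/
theorem qAut_equiv_isometry {ι : Type} [Fintype ι] [DecidableEq ι]
    (σ : (ι → ZMod 2) ≃ₗ[ZMod 2] V) {q : (ι → ZMod 2) → ZMod 2}
    (hq : ∀ x, q x = β (σ x) (σ x)) : Nonempty (qAut β ≃* Cfsg.isometryGroup (ZMod 2) q) := by
  let T : GL ι (ZMod 2) ≃* ((ι → ZMod 2) ≃ₗ[ZMod 2] (ι → ZMod 2)) :=
    Matrix.GeneralLinearGroup.toLin.trans
      (LinearMap.GeneralLinearGroup.generalLinearEquiv (ZMod 2) (ι → ZMod 2))
  have hT : ∀ g x, T g x = g.val *ᵥ x := fun g x => rfl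
  let S : (V ≃ₗ[ZMod 2] V) ≃* ((ι → ZMod 2) ≃ₗ[ZMod 2] (ι → ZMod 2)) :=
    { toFun := fun L => (σ.trans L).trans σ.symm
      invFun := fun L => (σ.symm.trans L).trans σ
      left_inv := fun L => LinearEquiv.ext fun x => by simp
      right_inv := fun L => LinearEquiv.ext fun x => by simp
      map_mul' := fun L K => LinearEquiv.ext fun x => by simp }
  have hmem : ∀ L, S.trans T.symm L ∈ Cfsg.isometryGroup (ZMod 2) q ↔ L ∈ qAut β := by
    intro L
    have hx : ∀ x, (S.trans T.symm L).val *ᵥ x = σ.symm (L (σ x)) := fun x => by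
      rw [← hT]
      show T (T.symm (S L)) x = _
      rw [T.apply_symm_apply]
      rfl
    constructor
    · intro h
      refine (mem_qAut β).2 fun v => ?_
      have e : q ((S.trans T.symm L).val *ᵥ σ.symm v) = q (σ.symm v) := h _ (σ.symm v)
      rwa [hx, hq, hq, σ.apply_symm_apply, σ.apply_symm_apply] at e
    · intro h u x
      show q ((S.trans T.symm L).val *ᵥ u) = q u
      rw [hx, hq, hq, σ.apply_symm_apply]
      exact (mem_qAut β).1 h (σ u)
  refine ⟨((S.trans T.symm).subgroupMap (qAut β)).trans (MulEquiv.subgroupCongr ?_)⟩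
  ext g
  constructor
  · rintro ⟨L, hL, rfl⟩
    exact (hmem L).2 hL
  · intro hg
    refine ⟨(S.trans T.symm).symm g, (hmem _).1 ?_, (S.trans T.symm).apply_symm_apply g⟩
    rwa [MulEquiv.apply_symm_apply]

/-- Isomorphic groups have isomorphic outer automorphism groups. -/
theorem out_congr {A B : Type*} [Group A] [Group B] (e : A ≃* B) :
    Nonempty (Cfsg.Out A ≃* Cfsg.Out B) := by
  refine ⟨QuotientGroup.congr _ _ (MulAut.congr e) ?_⟩
  ext φ
  constructor
  · rintro ⟨_, ⟨a, rfl⟩, rfl⟩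
    exact ⟨e a, MulEquiv.ext fun b => by simp [MulAut.congr]⟩
  · rintro ⟨b, rfl⟩
    exact ⟨MulAut.conj (e.symm b), ⟨_, rfl⟩, MulEquiv.ext fun x => by simp [MulAut.congr]⟩

end Cfsg.Lib.Extra
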