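import Cfsg.Agent.Lib.Extra.Large

/-!
# Two extraspecial subgroups with centres in each other
-/

set_option autoImplicit false
set_option linter.style.haveILetI false

namespace Cfsg.Lib.Extra

open Cfsg
open scoped Pointwise

variable {G : Type*} [Group G]

/-- Two extraspecial subgroups, each containing the centre of the other. -/
structure Pair (Q : Subgroup G) (z : G) (Q' : Subgroup G) (x : G) : Prop where
  fst : Ctx Q z
  snd : Ctx Q' x
  mem_fst : x ∈ Q
  mem_snd : z ∈ Q'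
  ne : x ≠ z

/-- The product of the two cross centralizers. -/
def pairR (Q : Subgroup G) (z : G) (Q' : Subgroup G) (x : G) : Subgroup G :=
  (Q' ⊓ Subgroup.centralizer ({z} : Set G)) ⊔ (Q ⊓ Subgroup.centralizer ({x} : Set G))

namespace Pair

variable {Q Q' : Subgroup G} {z x : G} (h : Pair Q z Q' x)

include h

theorem symm : Pair Q' x Q z := ⟨h.snd, h.fst, h.mem_snd, h.mem_fst, h.ne.symm⟩

omit h in
theorem pairR_comm : pairR Q' x Q z = pairR Q z Q' x := sup_comm _ _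

theorem comm_zx : Commute z x := h.fst.central x h.mem_fst

omit h in
theorem mem_cz {a b : G} : a ∈ Subgroup.centralizer ({b} : Set G) ↔ Commute a b :=
  Subgroup.mem_centralizer_singleton_iff

theorem cross_normalizes {a : G} (ha : a ∈ Q' ⊓ Subgroup.centralizer ({z} : Set G)) :
    ∀ p ∈ Q ⊓ Subgroup.centralizer ({x} : Set G), a * p * a⁻¹ ∈ Q ⊓ Subgroup.centralizer ({x} : Set G) := by
  intro p hp
  refine ⟨(Subgroup.mem_normalizer_iff.1 (h.fst.norm a (mem_cz.1 ha.2)) p).1 hp.1, mem_cz.2 ?_⟩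
  have h1 := (Commute.conj_iff a).2 (mem_cz.1 hp.2)
  rwa [show a * x * a⁻¹ = x from mul_inv_eq_iff_eq_mul.2 (h.snd.central a ha.1).symm] at h1

theorem le_cen : pairR Q z Q' x ≤ Subgroup.centralizer ({z} : Set G) ⊓ Subgroup.centralizer ({x} : Set G) :=
  sup_le (fun _ ha => ⟨ha.2, mem_cz.2 (h.snd.central _ ha.1).symm⟩)
    fun _ ha => ⟨mem_cz.2 (h.fst.central _ ha.1).symm, ha.2⟩

theorem conj_self_mem {q p : G} (hq : q ∈ Q) (hp : p ∈ Q ⊓ Subgroup.centralizer ({x} : Set G)) :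
    q * p * q⁻¹ ∈ Q ⊓ Subgroup.centralizer ({x} : Set G) := by
  rw [show q * p * q⁻¹ = q * p * q⁻¹ * p⁻¹ * p by group]
  rcases h.fst.comm q hq p hp.1 with e | e <;> rw [e]
  · rwa [one_mul]
  · exact mul_mem ⟨h.fst.mem, mem_cz.2 h.comm_zx⟩ hp

theorem conj_cross_mem {q a : G} (hq : q ∈ Q) (ha : a ∈ Q' ⊓ Subgroup.centralizer ({z} : Set G)) :
    q * a * q⁻¹ ∈ pairR Q z Q' x := by
  rw [show q * a * q⁻¹ = q * a * q⁻¹ * a⁻¹ * a by group]
  refine mul_mem (Subgroup.mem_sup_right ⟨?_, mem_cz.2 ?_⟩) (Subgroup.mem_sup_left ha)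
  · rw [show q * a * q⁻¹ * a⁻¹ = q * (a * q⁻¹ * a⁻¹) by group]
    exact mul_mem hq ((Subgroup.mem_normalizer_iff.1 (h.fst.norm a (mem_cz.1 ha.2)) _).1 (inv_mem hq))
  · have hax : Commute a x := (h.snd.central a ha.1).symm
    have haz : Commute a z := mem_cz.1 ha.2
    refine Commute.mul_left (mul_inv_eq_iff_eq_mul.1 ?_) hax.inv_left
    rcases h.fst.comm q⁻¹ (inv_mem hq) x h.mem_fst with e | e
    · have e' : q⁻¹ * x * q = x := by
        have := mul_inv_eq_iff_eq_mul.1 e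
        simpa [mul_assoc] using this
      calc q * a * q⁻¹ * x * (q * a * q⁻¹)⁻¹ = q * (a * (q⁻¹ * x * q) * a⁻¹) * q⁻¹ := by group
        _ = q * x * q⁻¹ := by rw [e', hax.eq, mul_inv_cancel_right]
        _ = x := by nth_rewrite 1 [← e']; group
    · have e' : q⁻¹ * x * q = z * x := by
        have := mul_inv_eq_iff_eq_mul.1 e
        simpa [mul_assoc] using this
      calc q * a * q⁻¹ * x * (q * a * q⁻¹)⁻¹ = q * (a * (q⁻¹ * x * q) * a⁻¹) * q⁻¹ := by group
        _ = q * (q⁻¹ * x * q) * q⁻¹ := by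
          rw [e', (haz.mul_right hax).eq, mul_inv_cancel_right]
        _ = x := by group

theorem fst_le_normalizer [Finite G] : Q ≤ Subgroup.normalizer (pairR Q z Q' x : Set G) := by
  intro q hq
  refine Subgroup.mem_normalizer_fintype fun w hw => ?_
  have hle : pairR Q z Q' x ≤ (pairR Q z Q' x).comap (MulAut.conj q).toMonoidHom :=
    sup_le (fun a ha => h.conj_cross_mem hq ha) fun p hp => Subgroup.mem_sup_right (h.conj_self_mem hq hp)
  exact hle hw

theorem snd_le_normalizer [Finite G] : Q' ≤ Subgroup.normalizer (pairR Q z Q' x : Set G) := by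
  rw [← pairR_comm]; exact h.symm.fst_le_normalizer

theorem pairR_le_sup : pairR Q z Q' x ≤ Q ⊔ Q' :=
  sup_le (inf_le_left.trans le_sup_right) (inf_le_left.trans le_sup_left)

theorem isPGroup_pairR [Finite G] : IsPGroup 2 (pairR Q z Q' x) :=
  (h.snd.two.to_le inf_le_left).to_sup_of_normal_right' (h.fst.two.to_le inf_le_left)
    fun a ha => Subgroup.mem_normalizer_fintype fun p hp => h.cross_normalizes ha p hp

theorem exists_moves : (∃ y ∈ Q, y * x * y⁻¹ = z * x) ∧ ∃ r ∈ Q', r * z * r⁻¹ = x * z :=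
  ⟨h.fst.exists_move h.mem_fst h.snd.ne_one h.ne, h.snd.exists_move h.mem_snd h.fst.ne_one h.ne.symm⟩

/-- The braid relation modulo the cross product. -/
theorem braid_mem [Finite G] {g : G} (hQ' : Q' = Q.map (MulAut.conj g).toMonoidHom) (hx : x = g * z * g⁻¹)
    {y r : G} (hy : y ∈ Q) (hyx : y * x * y⁻¹ = z * x)
    (hr : r ∈ Q') (hrz : r * z * r⁻¹ = x * z) :
    (y * r * y⁻¹)⁻¹ * (r * y * r⁻¹) ∈ pairR Q z Q' x := by
  have hyz : y * z * y⁻¹ = z := mul_inv_eq_iff_eq_mul.2 (h.fst.central y hy).symm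
  have hrx : r * x * r⁻¹ = x := mul_inv_eq_iff_eq_mul.2 (h.snd.central r hr).symm
  have hax : y * x * y⁻¹ = r * z * r⁻¹ := by rw [hyx, hrz, h.comm_zx.eq]
  set P := Q.map (MulAut.conj r).toMonoidHom
  have hctx : Ctx P (r * z * r⁻¹) := h.fst.conj r
  have hkey : y * g * z * (y * g)⁻¹ = r * z * r⁻¹ := by rw [← hax, hx]; group
  have hto : ∀ e ∈ Q', y * e * y⁻¹ ∈ P := fun e he => by
    rw [hQ'] at he
    obtain ⟨e', he', rfl⟩ := he
    refine h.fst.conj_mem_iff_of_commute hkey ⟨e', he', ?_⟩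
    show y * g * e' * (y * g)⁻¹ = y * (g * e' * g⁻¹) * y⁻¹
    group
  have ha : y * r * y⁻¹ ∈ P := hto r hr
  have hb : r * y * r⁻¹ ∈ P := ⟨y, hy, rfl⟩
  have hzP : z ∈ P := by
    have := hto z h.mem_snd
    rwa [hyz] at this
  set a := y * r * y⁻¹
  set b := r * y * r⁻¹
  set w := r * z * r⁻¹
  have hwz : w = x * z := hrz
  have haz : a * z * a⁻¹ ≠ z := by
    intro e
    have e' : r * (y⁻¹ * z * y) * r⁻¹ = y⁻¹ * z * y := by
      calc r * (y⁻¹ * z * y) * r⁻¹ = y⁻¹ * (a * z * a⁻¹) * y := by simp only [a]; group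
        _ = _ := by rw [e]
    rw [show y⁻¹ * z * y = z by rw [mul_assoc, (h.fst.central y hy).eq, inv_mul_cancel_left],
      show r * z * r⁻¹ = x * z from hwz] at e'
    exact h.snd.ne_one (mul_eq_right.1 e')
  have hbz : b * z * b⁻¹ ≠ z := by
    intro e
    have e' : y * (r⁻¹ * z * r) * y⁻¹ = r⁻¹ * z * r := by
      calc y * (r⁻¹ * z * r) * y⁻¹ = r⁻¹ * (b * z * b⁻¹) * r := by simp only [b]; group
        _ = _ := by rw [e]
    have e2 : r⁻¹ * z * r = x * z := by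
      calc r⁻¹ * z * r = r⁻¹ * ((x * x) * z) * r := by rw [h.snd.sq_z, one_mul]
        _ = r⁻¹ * x * (x * z) * r := by simp only [mul_assoc]
        _ = x * r⁻¹ * (x * z) * r := by rw [((h.snd.central r hr).inv_right).eq]
        _ = x * z := by rw [mul_assoc x, mul_assoc x, show r⁻¹ * (x * z) * r = z by rw [← hwz]; simp only [w]; group]
    rw [e2, show y * (x * z) * y⁻¹ = (y * x * y⁻¹) * (y * z * y⁻¹) by group, hyx, hyz] at e'
    exact h.fst.ne_one (mul_eq_right.1 (mul_right_cancel e'))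
  have hcz : Commute (a⁻¹ * b) z := by
    have ea : a * z * a⁻¹ = w * z := by
      rcases hctx.comm a ha z hzP with e | e
      · exact absurd (mul_inv_eq_one.1 e) haz
      · exact mul_inv_eq_iff_eq_mul.1 e
    have eb : b * z * b⁻¹ = w * z := by
      rcases hctx.comm b hb z hzP with e | e
      · exact absurd (mul_inv_eq_one.1 e) hbz
      · exact mul_inv_eq_iff_eq_mul.1 e
    refine mul_inv_eq_iff_eq_mul.1 ?_
    calc a⁻¹ * b * z * (a⁻¹ * b)⁻¹ = a⁻¹ * (b * z * b⁻¹) * a := by group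
      _ = z := by rw [eb, ← ea]; group
  -- pull back by `y`
  have h1 : a⁻¹ * b ∈ Q'.map (MulAut.conj y).toMonoidHom := by
    obtain ⟨e', he', hee⟩ := h.fst.conj_mem_iff_of_commute hkey.symm (mul_mem (inv_mem ha) hb)
    have hee' : y * g * e' * (y * g)⁻¹ = a⁻¹ * b := hee
    refine ⟨g * e' * g⁻¹, hQ' ▸ ⟨e', he', rfl⟩, ?_⟩
    show y * (g * e' * g⁻¹) * y⁻¹ = a⁻¹ * b
    rw [← hee']; group
  obtain ⟨e, he, hee⟩ := h1
  have hee' : y * e * y⁻¹ = a⁻¹ * b := hee
  have hez : Commute e z := by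
    rw [← hee', ← hyz] at hcz
    exact (Commute.conj_iff y).1 (by rwa [hyz] at hcz ⊢)
  rw [← hee']
  exact (Subgroup.mem_normalizer_iff.1 (h.fst_le_normalizer hy) e).1 (Subgroup.mem_sup_left ⟨he, mem_cz.2 hez⟩)

theorem y_sq_mem {y : G} (hy : y ∈ Q) : y * y ∈ pairR Q z Q' x := by
  rcases h.fst.sq y hy with e | e <;> rw [e]
  · exact one_mem _
  · exact Subgroup.mem_sup_right ⟨h.fst.mem, mem_cz.2 h.comm_zx⟩

theorem mem_or_mem {y q : G} (hy : y ∈ Q) (hyx : y * x * y⁻¹ = z * x) (hq : q ∈ Q) :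
    q ∈ pairR Q z Q' x ∨ y * q ∈ pairR Q z Q' x :=
  (h.fst.commute_or hy hyx hq h.mem_fst).imp (fun e => Subgroup.mem_sup_right ⟨hq, mem_cz.2 e⟩)
    fun e => Subgroup.mem_sup_right ⟨mul_mem hy hq, mem_cz.2 e⟩

/-- Six elements realize the permutations of the three involutions and cover the join modulo the cross product. -/
theorem six [Finite G] {g : G} (hQ' : Q' = Q.map (MulAut.conj g).toMonoidHom) (hx : x = g * z * g⁻¹) :
    ∃ y ∈ Q, ∃ r ∈ Q', y * x * y⁻¹ = z * x ∧ r * z * r⁻¹ = x * z ∧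
      ∀ w ∈ Q ⊔ Q', ∃ s ∈ ({1, y, r, y * r, r * y, y * r * y} : Set G), s⁻¹ * w ∈ pairR Q z Q' x := by
  obtain ⟨⟨y, hy, hyx⟩, r, hr, hrz⟩ := h.exists_moves
  refine ⟨y, hy, r, hr, hyx, hrz, ?_⟩
  set X := Q ⊔ Q'
  set N := (pairR Q z Q' x).subgroupOf X with hN
  haveI hNn : N.Normal := (Subgroup.normal_subgroupOf_iff_le_normalizer h.pairR_le_sup).2
    (sup_le h.fst_le_normalizer h.snd_le_normalizer)
  have hyX : y ∈ X := Subgroup.mem_sup_left hy
  have hrX : r ∈ X := Subgroup.mem_sup_right hr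
  let π := QuotientGroup.mk' N
  set Y := π ⟨y, hyX⟩
  set R := π ⟨r, hrX⟩
  have hY : Y * Y = 1 := by
    rw [← map_mul]; exact (QuotientGroup.eq_one_iff _).2 (h.y_sq_mem hy)
  have hR : R * R = 1 := by
    rw [← map_mul]; refine (QuotientGroup.eq_one_iff _).2 ?_
    show r * r ∈ pairR Q z Q' x
    rw [← pairR_comm]; exact h.symm.y_sq_mem hr
  have hYi : Y⁻¹ = Y := inv_eq_of_mul_eq_one_right hY
  have hRi : R⁻¹ = R := inv_eq_of_mul_eq_one_right hR
  have hB : Y * R * Y = R * Y * R := by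
    have h1 : (π ⟨y, hyX⟩ * π ⟨r, hrX⟩ * (π ⟨y, hyX⟩)⁻¹)⁻¹ * (π ⟨r, hrX⟩ * π ⟨y, hyX⟩ * (π ⟨r, hrX⟩)⁻¹) = 1 := by
      simp only [← map_inv, ← map_mul]
      exact (QuotientGroup.eq_one_iff _).2 (h.braid_mem hQ' hx hy hyx hr hrz)
    have h2 := inv_mul_eq_one.1 h1
    change Y * R * Y⁻¹ = R * Y * R⁻¹ at h2
    rwa [hYi, hRi] at h2
  let S : Set (X ⧸ N) := {1, Y, R, Y * R, R * Y, Y * R * Y}
  have hmulY : ∀ s ∈ S, Y * s ∈ S := by
    rintro s (rfl | rfl | rfl | rfl | rfl | rfl)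
    · simp [S]
    · simp [S, hY]
    · simp [S]
    · simp [S, ← mul_assoc, hY]
    · simp [S, ← mul_assoc]
    · simp [S, ← mul_assoc, hY]
  have hmulR : ∀ s ∈ S, R * s ∈ S := by
    rintro s (rfl | rfl | rfl | rfl | rfl | rfl)
    · simp [S]
    · simp [S]
    · simp [S, hR]
    · simp [S, ← mul_assoc, ← hB]
    · simp [S, ← mul_assoc, hR]
    · rw [hB]; simp [S, ← mul_assoc, hR]
  have hgen : ∀ (a : G) (ha : a ∈ X), π ⟨a, ha⟩ ∈ S := by
    intro a ha
    suffices h' : ∀ s ∈ S, π ⟨a, ha⟩ * s ∈ S by simpa using h' 1 (by simp [S])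
    have hcl : X = Subgroup.closure ((Q : Set G) ∪ (Q' : Set G)) := by
      rw [Subgroup.closure_union, Subgroup.closure_eq, Subgroup.closure_eq]
    have ha' : a ∈ Subgroup.closure ((Q : Set G) ∪ (Q' : Set G)) := hcl ▸ ha
    have hbase : ∀ (b : G) (hb : b ∈ X), b ∈ (Q : Set G) ∪ (Q' : Set G) → ∀ s ∈ S, π ⟨b, hb⟩ * s ∈ S := by
      intro b hb hb' s hs
      rcases hb' with hb' | hb'
      · rcases h.mem_or_mem hy hyx hb' with e | e
        · rwa [show π ⟨b, hb⟩ = 1 from (QuotientGroup.eq_one_iff _).2 e, one_mul]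
        · have h1 : Y * π ⟨b, hb⟩ = 1 := by rw [← map_mul]; exact (QuotientGroup.eq_one_iff _).2 e
          rw [eq_inv_of_mul_eq_one_right h1, hYi]; exact hmulY s hs
      · have e' := h.symm.mem_or_mem hr hrz hb'
        rw [pairR_comm] at e'
        rcases e' with e | e
        · rwa [show π ⟨b, hb⟩ = 1 from (QuotientGroup.eq_one_iff _).2 e, one_mul]
        · have h1 : R * π ⟨b, hb⟩ = 1 := by rw [← map_mul]; exact (QuotientGroup.eq_one_iff _).2 e
          rw [eq_inv_of_mul_eq_one_right h1, hRi]; exact hmulR s hs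
    induction ha' using Subgroup.closure_induction'' with
    | mem b hb => exact hbase b ha hb
    | inv_mem b hb => exact hbase b⁻¹ ha (hb.imp (fun e => inv_mem e) fun e => inv_mem e)
    | one => intro s hs; rwa [show π ⟨1, ha⟩ = 1 from map_one π, one_mul]
    | mul u v hu hv ihu ihv =>
      intro s hs
      have hu' : u ∈ X := hcl.symm ▸ hu
      have hv' : v ∈ X := hcl.symm ▸ hv
      rw [show (⟨u * v, ha⟩ : X) = ⟨u, hu'⟩ * ⟨v, hv'⟩ from rfl, map_mul, mul_assoc]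
      exact ihu hu' _ (ihv hv' s hs)
  intro w hw
  have key : ∀ (s : G) (hs : s ∈ X), π ⟨w, hw⟩ = π ⟨s, hs⟩ → s⁻¹ * w ∈ pairR Q z Q' x :=
    fun s hs e => (QuotientGroup.eq (s := N)).1 e.symm
  rcases hgen w hw with e | e | e | e | e | e
  · exact ⟨1, by simp, key 1 (one_mem X) (e.trans (map_one π).symm)⟩
  · exact ⟨y, by simp, key y hyX e⟩
  · exact ⟨r, by simp, key r hrX e⟩
  · exact ⟨y * r, by simp, key _ (mul_mem hyX hrX) (e.trans (map_mul π ⟨y, hyX⟩ ⟨r, hrX⟩).symm)⟩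
  · exact ⟨r * y, by simp, key _ (mul_mem hrX hyX) (e.trans (map_mul π ⟨r, hrX⟩ ⟨y, hyX⟩).symm)⟩
  · exact ⟨y * r * y, by simp, key _ (mul_mem (mul_mem hyX hrX) hyX) (e.trans (by
      show π ⟨y, hyX⟩ * π ⟨r, hrX⟩ * π ⟨y, hyX⟩ = π (⟨y, hyX⟩ * ⟨r, hrX⟩ * ⟨y, hyX⟩)
      rw [map_mul, map_mul]))⟩

omit h in
/-- The images of the pair under the six elements. -/
theorem images {y r : G} (hyz : y * z * y⁻¹ = z) (hyx : y * x * y⁻¹ = z * x) (hrx : r * x * r⁻¹ = x)
    (hrz : r * z * r⁻¹ = z * x) (hzz : z * z = 1) (hxx : x * x = 1) (hc : z * x = x * z) :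
    (y * r * z * (y * r)⁻¹ = x ∧ y * r * x * (y * r)⁻¹ = z * x) ∧
      (r * y * z * (r * y)⁻¹ = z * x ∧ r * y * x * (r * y)⁻¹ = z) ∧
        (y * r * y * z * (y * r * y)⁻¹ = x ∧ y * r * y * x * (y * r * y)⁻¹ = z) := by
  have cj : ∀ a b w : G, a * b * w * (a * b)⁻¹ = a * (b * w * b⁻¹) * a⁻¹ := fun a b w => by group
  have hy' : y * (z * x) * y⁻¹ = x := by
    rw [show y * (z * x) * y⁻¹ = y * z * y⁻¹ * (y * x * y⁻¹) by group, hyz, hyx, ← mul_assoc, hzz, one_mul]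
  have hr' : r * (z * x) * r⁻¹ = z := by
    rw [show r * (z * x) * r⁻¹ = r * z * r⁻¹ * (r * x * r⁻¹) by group, hrz, hrx, mul_assoc, hxx, mul_one]
  refine ⟨⟨?_, ?_⟩, ⟨?_, ?_⟩, ⟨?_, ?_⟩⟩
  · rw [cj, hrz, hy']
  · rw [cj, hrx, hyx]
  · rw [cj, hyz, hrz]
  · rw [cj, hyx, hr']
  · rw [cj, hyz, cj, hrz, hy']
  · rw [cj, hyx, cj, hr', hyz]

theorem three_distinct : z ≠ x ∧ z ≠ z * x ∧ x ≠ z * x :=
  ⟨h.ne.symm, fun e => h.snd.ne_one (mul_eq_left.1 e.symm), fun e => h.fst.ne_one (mul_eq_right.1 e.symm)⟩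

/-- The elements of the join fixing both centres form the cross product. -/
theorem kernel [Finite G] {g : G} (hQ' : Q' = Q.map (MulAut.conj g).toMonoidHom) (hx : x = g * z * g⁻¹)
    {w : G} (hw : w ∈ Q ⊔ Q') (hwz : Commute w z) (hwx : Commute w x) : w ∈ pairR Q z Q' x := by
  obtain ⟨y, hy, r, hr, hyx, hrz, hsix⟩ := h.six hQ' hx
  obtain ⟨s, hs, hsw⟩ := hsix w hw
  have hle := h.le_cen hsw
  have hsz : Commute s z := by
    have := hwz.mul_left ((mem_cz.1 hle.1).inv_left)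
    rwa [_root_.mul_inv_rev, inv_inv, mul_inv_cancel_left] at this
  have hsx : Commute s x := by
    have := hwx.mul_left ((mem_cz.1 hle.2).inv_left)
    rwa [_root_.mul_inv_rev, inv_inv, mul_inv_cancel_left] at this
  have hsz' : s * z * s⁻¹ = z := mul_inv_eq_iff_eq_mul.2 hsz
  have hsx' : s * x * s⁻¹ = x := mul_inv_eq_iff_eq_mul.2 hsx
  have hyz : y * z * y⁻¹ = z := mul_inv_eq_iff_eq_mul.2 (h.fst.central y hy).symm
  have hrx : r * x * r⁻¹ = x := mul_inv_eq_iff_eq_mul.2 (h.snd.central r hr).symm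
  have hrz' : r * z * r⁻¹ = z * x := hrz.trans h.comm_zx.eq.symm
  obtain ⟨⟨a1, -⟩, ⟨b1, -⟩, ⟨c1, -⟩⟩ := images hyz hyx hrx hrz' h.fst.sq_z h.snd.sq_z h.comm_zx.eq
  obtain ⟨d1, d2, d3⟩ := h.three_distinct
  rcases hs with rfl | rfl | rfl | rfl | rfl | rfl
  · simpa using hsw
  · exact absurd (hsx'.symm.trans hyx) d3
  · exact absurd (hsz'.symm.trans hrz') d2
  · exact absurd (hsz'.symm.trans a1) d1
  · exact absurd (hsz'.symm.trans b1) d2
  · exact absurd (hsz'.symm.trans c1) d1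

/-- Every arrangement of the three involutions is induced by the join. -/
theorem hit {a b : G} (ha : a = z ∨ a = x ∨ a = z * x) (hb : b = z ∨ b = x ∨ b = z * x) (hab : a ≠ b) :
    ∃ w ∈ Q ⊔ Q', w * z * w⁻¹ = a ∧ w * x * w⁻¹ = b := by
  obtain ⟨⟨y, hy, hyx⟩, r, hr, hrz⟩ := h.exists_moves
  have hyX : y ∈ Q ⊔ Q' := Subgroup.mem_sup_left hy
  have hrX : r ∈ Q ⊔ Q' := Subgroup.mem_sup_right hr
  have hyz : y * z * y⁻¹ = z := mul_inv_eq_iff_eq_mul.2 (h.fst.central y hy).symm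
  have hrx : r * x * r⁻¹ = x := mul_inv_eq_iff_eq_mul.2 (h.snd.central r hr).symm
  have hrz' : r * z * r⁻¹ = z * x := hrz.trans h.comm_zx.eq.symm
  obtain ⟨a', b', c'⟩ := images hyz hyx hrx hrz' h.fst.sq_z h.snd.sq_z h.comm_zx.eq
  have h1 : ∀ w : G, (1 : G) * w * (1 : G)⁻¹ = w := fun w => by simp
  rcases ha with ha | ha | ha <;> rcases hb with hb | hb | hb <;> rw [ha, hb] at hab ⊢
  all_goals first
    | exact absurd rfl hab
    | exact ⟨1, one_mem _, h1 z, h1 x⟩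
    | exact ⟨y, hyX, hyz, hyx⟩
    | exact ⟨r, hrX, hrz', hrx⟩
    | exact ⟨y * r, mul_mem hyX hrX, a'⟩
    | exact ⟨r * y, mul_mem hrX hyX, b'⟩
    | exact ⟨y * r * y, mul_mem (mul_mem hyX hrX) hyX, c'⟩

theorem moved_mem {V : Subgroup G} (hV : V = Subgroup.closure ({z, x} : Set G)) {w : G} :
    w ∈ V ↔ w = 1 ∨ w = z ∨ w = x ∨ w = z * x := by
  have hzi := h.fst.inv_z
  have hxi := h.snd.inv_z
  have hc : x * z = z * x := h.comm_zx.eq.symm
  subst hV
  constructor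
  · intro hw
    have e1 : z * (z * x) = x := by rw [← mul_assoc, h.fst.sq_z, one_mul]
    have e2 : x * (z * x) = z := by rw [← mul_assoc, hc, mul_assoc, h.snd.sq_z, mul_one]
    induction hw using Subgroup.closure_induction_left with
    | one => exact Or.inl rfl
    | mul_left a ha b _ ih =>
      rcases ha with ha | ha <;> (try rw [Set.mem_singleton_iff] at ha) <;> rcases ih with ih | ih | ih | ih <;>
        rw [ha, ih]
      · exact Or.inr (Or.inl (mul_one z))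
      · exact Or.inl h.fst.sq_z
      · exact Or.inr (Or.inr (Or.inr rfl))
      · exact Or.inr (Or.inr (Or.inl e1))
      · exact Or.inr (Or.inr (Or.inl (mul_one x)))
      · exact Or.inr (Or.inr (Or.inr hc))
      · exact Or.inl h.snd.sq_z
      · exact Or.inr (Or.inl e2)
    | inv_mul_cancel a ha b _ ih =>
      rcases ha with ha | ha <;> (try rw [Set.mem_singleton_iff] at ha) <;> rcases ih with ih | ih | ih | ih <;>
        rw [ha, ih] <;> (first | rw [hzi] | rw [hxi])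
      · exact Or.inr (Or.inl (mul_one z))
      · exact Or.inl h.fst.sq_z
      · exact Or.inr (Or.inr (Or.inr rfl))
      · exact Or.inr (Or.inr (Or.inl e1))
      · exact Or.inr (Or.inr (Or.inl (mul_one x)))
      · exact Or.inr (Or.inr (Or.inr hc))
      · exact Or.inl h.snd.sq_z
      · exact Or.inr (Or.inl e2)
  · rintro (rfl | rfl | rfl | rfl)
    · exact one_mem _
    · exact Subgroup.subset_closure (by simp)
    · exact Subgroup.subset_closure (by simp)
    · exact mul_mem (Subgroup.subset_closure (by simp)) (Subgroup.subset_closure (by simp))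

end Pair

end Cfsg.Lib.Extra
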