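import Cfsg.Agent.Lib.Extra.OuterModel
import Cfsg.Agent.Lib.Extra.Structure
import Cfsg.Agent.Lib.Extra.AffineLarge

/-!
The extensions of extraspecial 2-groups of plus type by groups of isometries, realised in the
normalizer of the Pauli group over the field with three elements.
-/

set_option autoImplicit false
set_option linter.style.haveILetI false

namespace Cfsg.Lib.Extra.Pauli

open Module
open scoped Matrix

variable (n : ℕ)

/-- The space carrying the form. -/
abbrev Sp := (Fin n → ZMod 2) × (Fin n → ZMod 2)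

/-- The module of the Pauli group. -/
abbrev Md := (Fin n → ZMod 2) → ZMod 3

/-- The cocycle. -/
def β : LinearMap.BilinForm (ZMod 2) (Sp n) :=
  LinearMap.mk₂ (ZMod 2) (fun u v => u.2 ⬝ᵥ v.1)
    (fun u u' v => by simp [add_dotProduct])
    (fun c u v => by simp [smul_dotProduct])
    (fun u v v' => by simp [dotProduct_add])
    (fun c u v => by simp [dotProduct_smul])

variable {n}

theorem β_apply (u v : Sp n) : β n u v = u.2 ⬝ᵥ v.1 := rfl

theorem dot_single (a : Fin n → ZMod 2) (i : Fin n) : a ⬝ᵥ Pi.single i 1 = a i := by simp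

theorem nondeg (v : Sp n) (h : ∀ w, β n v w = β n w v) : v = 0 := by
  refine Prod.ext (funext fun i => ?_) (funext fun i => ?_)
  · have := h (0, Pi.single i 1)
    simpa [β_apply, single_dotProduct] using this.symm
  · have := h (Pi.single i 1, 0)
    simpa [β_apply] using this

/-- Signs. -/
def σ (a : ZMod 2) : ZMod 3 := if a = 0 then 1 else -1

theorem σ_add : ∀ a b : ZMod 2, σ (a + b) = σ a * σ b := by decide

theorem σ_zero : σ 0 = 1 := rfl

theorem σ_ne_zero : ∀ a : ZMod 2, σ a ≠ 0 := by decide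

theorem eq_zero_of_σ : ∀ a : ZMod 2, σ a = 1 → a = 0 := by decide

theorem σ_sq : ∀ a : ZMod 2, σ a * σ a = 1 := by decide

theorem zmod3_cases : ∀ c : ZMod 3, c ≠ 0 → ∃ t : ZMod 2, c = σ t := by decide

/-- The Pauli operators. -/
def op (x : Cocycle (β n)) : Md n →ₗ[ZMod 3] Md n where
  toFun f y := σ (x.s + x.v.1 ⬝ᵥ y) * f (y + x.v.2)
  map_add' f g := by funext y; simp [mul_add]
  map_smul' c f := by funext y; simp [mul_left_comm]

theorem op_apply (x : Cocycle (β n)) (f : Md n) (y : Fin n → ZMod 2) :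
    op x f y = σ (x.s + x.v.1 ⬝ᵥ y) * f (y + x.v.2) := rfl

theorem op_mul (x x' : Cocycle (β n)) : op (x * x') = (op x).comp (op x') := by
  refine LinearMap.ext fun f => funext fun y => ?_
  rw [LinearMap.comp_apply, op_apply, op_apply, op_apply, ← mul_assoc, ← σ_add, mul_s, mul_v,
    β_apply]
  simp only [Prod.fst_add, Prod.snd_add, dotProduct_add, add_dotProduct, dotProduct_comm x.v.2 x'.v.1]
  congr 2
  · ring
  · abel

theorem op_one : op (1 : Cocycle (β n)) = LinearMap.id := by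
  refine LinearMap.ext fun f => funext fun y => ?_
  rw [op_apply, one_s, one_v, LinearMap.id_apply]
  simp [σ_zero]

/-- The representation of the cocycle group. -/
def rep : Cocycle (β n) →* (Md n ≃ₗ[ZMod 3] Md n) where
  toFun x := LinearEquiv.ofLinear (op x) (op x⁻¹)
    (by rw [← op_mul, mul_inv_cancel, op_one]) (by rw [← op_mul, inv_mul_cancel, op_one])
  map_one' := by
    refine LinearEquiv.ext fun f => ?_
    show op 1 f = f
    rw [op_one]; rfl
  map_mul' x y := by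
    refine LinearEquiv.ext fun f => ?_
    show op (x * y) f = op x (op y f)
    rw [op_mul]; rfl

theorem rep_apply (x : Cocycle (β n)) (f : Md n) (y : Fin n → ZMod 2) :
    rep x f y = σ (x.s + x.v.1 ⬝ᵥ y) * f (y + x.v.2) := rfl

theorem rep_injective : Function.Injective (rep (n := n)) := by
  classical
  refine (injective_iff_map_eq_one _).2 fun x hx => ?_
  have h : ∀ f y, rep x f y = f y := fun f y => by rw [hx]; rfl
  have h1 : ∀ y, x.s + x.v.1 ⬝ᵥ y = 0 := fun y => by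
    have := h (fun _ => 1) y
    rw [rep_apply, mul_one] at this
    exact eq_zero_of_σ _ this
  have hs : x.s = 0 := by simpa using h1 0
  have ha : x.v.1 = 0 := funext fun i => by simpa [hs] using h1 (Pi.single i 1)
  have hb : x.v.2 = 0 := by
    have := h (Pi.single 0 1) 0
    rw [rep_apply, h1, σ_zero, one_mul, zero_add, Pi.single_eq_same] at this
    by_contra hne
    rw [Pi.single_eq_of_ne hne] at this
    exact absurd this (by decide)
  exact Cocycle.ext' hs (Prod.ext ha hb)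

theorem rep_scalar (t : ZMod 2) (f : Md n) : rep (⟨t, 0⟩ : Cocycle (β n)) f = σ t • f := by
  funext y
  simp [rep_apply]

theorem scalar_comm (g : Md n ≃ₗ[ZMod 3] Md n) (t : ZMod 2) :
    g * rep (⟨t, 0⟩ : Cocycle (β n)) = rep ⟨t, 0⟩ * g := by
  refine LinearEquiv.ext fun f => ?_
  rw [LinearEquiv.mul_apply, LinearEquiv.mul_apply, rep_scalar, rep_scalar, map_smul]

/-- An element of the group is a scalar times a standard one. -/
theorem split_scalar (x : Cocycle (β n)) (t : ZMod 2) : x = ⟨x.s + t, 0⟩ * ⟨t, x.v⟩ := by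
  refine Cocycle.ext' ?_ (by simp [mul_v])
  rw [mul_s]
  simp [β_apply, add_assoc, CharTwo.add_self_eq_zero]

/-- The character sums. -/
theorem char_sum (c : Fin n → ZMod 2) :
    ∑ a : Fin n → ZMod 2, σ (a ⬝ᵥ c) = if c = 0 then (2 : ZMod 3) ^ n else 0 := by
  classical
  by_cases hc : c = 0
  · subst hc
    simp [σ_zero]
  · rw [if_neg hc]
    obtain ⟨i, hi⟩ := Function.ne_iff.1 hc
    have hi1 : c i = 1 := (by decide : ∀ a : ZMod 2, a ≠ 0 → a = 1) _ hi
    have hS : ∑ a : Fin n → ZMod 2, σ (a ⬝ᵥ c) = - ∑ a : Fin n → ZMod 2, σ (a ⬝ᵥ c) := by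
      rw [← Finset.sum_neg_distrib]
      refine Fintype.sum_equiv (Equiv.addRight (Pi.single i 1)) _ _ fun a => ?_
      simp only [Equiv.coe_addRight, add_dotProduct, single_dotProduct, one_mul, σ_add, hi1]
      have : σ 1 = -1 := rfl
      rw [this]; ring
    exact (by decide : ∀ s : ZMod 3, s = -s → s = 0) _ hS

theorem two_pow_ne_zero : (2 : ZMod 3) ^ n ≠ 0 := pow_ne_zero _ (by decide)

/-- Every automorphism of the cocycle group is induced by the normalizer. -/
theorem exists_intertwiner (φ : MulAut (Cocycle (β n))) :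
    ∃ g : Md n ≃ₗ[ZMod 3] Md n, ∀ x, g * rep x * g⁻¹ = rep (φ x) := by
  classical
  let N : Cocycle (β n) →* (Md n ≃ₗ[ZMod 3] Md n) := rep.comp φ.toMonoidHom
  let A : (Fin n → ZMod 2) → (Md n ≃ₗ[ZMod 3] Md n) := fun a => N ⟨0, (a, 0)⟩
  let B : (Fin n → ZMod 2) → (Md n ≃ₗ[ZMod 3] Md n) := fun b => N ⟨0, (0, b)⟩
  have hNs : ∀ t f, N ⟨t, 0⟩ f = σ t • f := fun t f => by
    show rep (φ ⟨t, 0⟩) f = _
    rw [aut_fix_center nondeg, rep_scalar]
  have hA : ∀ a a' f, A a (A a' f) = A (a + a') f := fun a a' f => by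
    show (N ⟨0, (a, 0)⟩ * N ⟨0, (a', 0)⟩) f = N ⟨0, (a + a', 0)⟩ f
    rw [← map_mul]
    congr 2
    exact Cocycle.ext' (by simp [mul_s, β_apply]) (by simp [mul_v])
  have hAB : ∀ a b f, A a (B b f) = σ (a ⬝ᵥ b) • B b (A a f) := fun a b f => by
    rw [← hNs]
    show (N ⟨0, (a, 0)⟩ * N ⟨0, (0, b)⟩) f = (N ⟨a ⬝ᵥ b, 0⟩ * (N ⟨0, (0, b)⟩ * N ⟨0, (a, 0)⟩)) f
    rw [← map_mul, ← map_mul, ← map_mul]
    congr 2
    refine Cocycle.ext' ?_ (by simp [mul_v])
    simp [mul_s, β_apply, dotProduct_comm b a, CharTwo.add_self_eq_zero]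
  have hA0 : ∀ f, A 0 f = f := fun f => by
    show N 1 f = f
    rw [map_one]; rfl
  -- a common eigenvector
  obtain ⟨v, hv0, hv⟩ : ∃ v : Md n, v ≠ 0 ∧ ∀ a, A a v = v := by
    let f₀ : Md n := Pi.single 0 1
    have hf₀ : f₀ ≠ 0 := fun h => one_ne_zero (α := ZMod 3) (by simpa [f₀] using congrFun h 0)
    obtain ⟨e, he⟩ : ∃ e : Fin n → ZMod 2, ∑ a, σ (a ⬝ᵥ e) • A a f₀ ≠ 0 := by
      by_contra hcon
      push_neg at hcon
      have h : ∑ e : Fin n → ZMod 2, ∑ a, σ (a ⬝ᵥ e) • A a f₀ = 0 :=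
        Finset.sum_eq_zero fun e _ => hcon e
      rw [Finset.sum_comm, Finset.sum_eq_single (0 : Fin n → ZMod 2) (fun a _ ha => ?_) (by simp),
        ← Finset.sum_smul, hA0] at h
      · simp only [zero_dotProduct, σ_zero, Finset.sum_const, Finset.card_univ, Fintype.card_fun,
          ZMod.card, Fintype.card_fin, nsmul_eq_mul, mul_one, Nat.cast_pow, Nat.cast_ofNat] at h
        exact hf₀ ((smul_eq_zero.1 h).resolve_left two_pow_ne_zero)
      · rw [← Finset.sum_smul, Finset.sum_congr rfl fun e _ => by rw [dotProduct_comm], char_sum,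
          if_neg ha, zero_smul]
    refine ⟨B e (∑ a, σ (a ⬝ᵥ e) • A a f₀), fun h => he ((LinearEquiv.map_eq_zero_iff _).1 h),
      fun a => ?_⟩
    rw [hAB, ← map_smul, map_sum]
    congr 1
    rw [Finset.smul_sum]
    refine Fintype.sum_equiv (Equiv.addLeft a) _ _ fun a' => ?_
    rw [map_smul, hA, smul_smul, ← σ_add, Equiv.coe_addLeft, add_dotProduct]
  let T : Md n →ₗ[ZMod 3] Md n := ∑ b : Fin n → ZMod 2, (LinearMap.proj b).smulRight (B b v)
  have hT : ∀ f : Md n, T f = ∑ b, f b • B b v := fun f => by simp [T]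
  have hTinj : Function.Injective T := by
    refine (injective_iff_map_eq_zero T).2 fun f hf => funext fun b0 => ?_
    have h : ∑ a : Fin n → ZMod 2, σ (a ⬝ᵥ b0) • A a (T f) = 0 := by simp [hf]
    simp only [hT, map_sum, map_smul, hAB, hv, Finset.smul_sum, smul_smul] at h
    rw [Finset.sum_comm, Finset.sum_eq_single b0 (fun b _ hb => ?_) (by simp), ← Finset.sum_smul] at h
    · simp only [mul_left_comm (σ (_ ⬝ᵥ b0)) (f b0), σ_sq, mul_one, Finset.sum_const, Finset.card_univ,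
        Fintype.card_fun, ZMod.card, Fintype.card_fin, nsmul_eq_mul, Nat.cast_pow, Nat.cast_ofNat] at h
      rcases smul_eq_zero.1 h with h1 | h1
      · exact (mul_eq_zero.1 h1).resolve_left two_pow_ne_zero
      · exact absurd ((LinearEquiv.map_eq_zero_iff _).1 h1) hv0
    · rw [← Finset.sum_smul]
      have : ∑ a : Fin n → ZMod 2, σ (a ⬝ᵥ b0) * (f b * σ (a ⬝ᵥ b)) = 0 := by
        rw [Finset.sum_congr rfl fun a _ => by
          rw [mul_left_comm, ← σ_add, ← dotProduct_add], ← Finset.mul_sum, char_sum, if_neg, mul_zero]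
        intro h0
        exact hb (funext fun i => (CharTwo.add_eq_zero.1 (congrFun h0 i)).symm)
      rw [this, zero_smul]
  let g : Md n ≃ₗ[ZMod 3] Md n := LinearEquiv.ofBijective T (Finite.injective_iff_bijective.1 hTinj)
  refine ⟨g, fun x => mul_inv_eq_iff_eq_mul.2 (LinearEquiv.ext fun f => ?_)⟩
  show T (rep x f) = N x (T f)
  rw [hT, hT, map_sum]
  refine Fintype.sum_equiv (Equiv.addRight x.v.2) _ _ fun b => ?_
  rw [map_smul, Equiv.coe_addRight, rep_apply, mul_comm, mul_smul]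
  congr 1
  have hx : x * ⟨0, (0, b + x.v.2)⟩ = ⟨x.s + x.v.1 ⬝ᵥ b, 0⟩ * (⟨0, (0, b)⟩ * ⟨0, (x.v.1, 0)⟩) := by
    refine Cocycle.ext' ?_ ?_
    · simp [mul_s, β_apply, dotProduct_comm b x.v.1, add_assoc, CharTwo.add_self_eq_zero]
    · refine Prod.ext (by simp [mul_v]) (funext fun i => ?_)
      simp only [mul_v, Prod.snd_add, Pi.add_apply, Pi.zero_apply, Prod.snd_zero, zero_add, add_zero]
      rw [add_left_comm, CharTwo.add_self_eq_zero, add_zero]
  show σ (x.s + x.v.1 ⬝ᵥ b) • B b v = (N x * N ⟨0, (0, b + x.v.2)⟩) v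
  rw [← map_mul, hx, map_mul, map_mul]
  show _ = N ⟨_, 0⟩ (B b (A x.v.1 v))
  rw [hv, hNs]

/-- The elements acting trivially on the vectors come from the group. -/
theorem mem_range_of_trivial (g : Md n ≃ₗ[ZMod 3] Md n)
    (h : ∀ x : Cocycle (β n), ∃ s, g * rep x * g⁻¹ = rep ⟨s, x.v⟩) : ∃ y, rep y = g := by
  classical
  choose ch hch using fun v : Sp n => h ⟨0, v⟩
  have hmove : ∀ (v : Sp n) (f : Md n), g (rep ⟨0, v⟩ f) = rep ⟨ch v, v⟩ (g f) := fun v f => by
    have e := mul_inv_eq_iff_eq_mul.1 (hch v)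
    exact LinearEquiv.congr_fun e f
  have hadd : ∀ u v : Sp n, ch (u + v) = ch u + ch v := fun u v => by
    have e : (⟨0, u⟩ : Cocycle (β n)) * ⟨0, v⟩ = ⟨β n u v, 0⟩ * ⟨0, u + v⟩ :=
      Cocycle.ext' (by simp [mul_s]) (by simp [mul_v])
    have h1 : g * rep ((⟨0, u⟩ : Cocycle (β n)) * ⟨0, v⟩) * g⁻¹ = rep (⟨ch u, u⟩ * ⟨ch v, v⟩) := by
      rw [map_mul, map_mul, ← hch u, ← hch v]; group
    rw [e, map_mul, ← mul_assoc g, scalar_comm, mul_assoc (rep _) g, mul_assoc (rep _), hch,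
      ← map_mul] at h1
    have h2 := congrArg Cocycle.s (rep_injective h1)
    simp only [mul_s, map_zero, LinearMap.zero_apply, add_zero] at h2
    linear_combination h2
  obtain ⟨p, hp⟩ := Affine.exists_dot
    ((AddMonoidHom.mk' (fun a : Fin n → ZMod 2 => ch (a, 0))
      fun a a' => by rw [← hadd]; simp).toZModLinearMap 2)
  obtain ⟨r, hr⟩ := Affine.exists_dot
    ((AddMonoidHom.mk' (fun b : Fin n → ZMod 2 => ch (0, b))
      fun b b' => by rw [← hadd]; simp).toZModLinearMap 2)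
  have hp' : ∀ a, ch (a, 0) = p ⬝ᵥ a := hp
  have hr' : ∀ b, ch (0, b) = r ⬝ᵥ b := hr
  set d : Md n := Pi.single 0 1 with hd
  set w := g d with hw
  have hwy : ∀ y, y ≠ p → w y = 0 := fun y hy => by
    obtain ⟨i, hi⟩ := Function.ne_iff.1 hy
    have hfix : rep (⟨0, (Pi.single i 1, 0)⟩ : Cocycle (β n)) d = d := by
      funext z
      rw [rep_apply, add_zero]
      by_cases hz : z = 0
      · subst hz; simp [σ_zero]
      · simp [hd, Pi.single_eq_of_ne hz]
    have e := congrFun (hmove (Pi.single i 1, 0) d) y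
    rw [hfix, rep_apply, add_zero, hp'] at e
    rw [dot_single, single_dotProduct, one_mul,
      (by decide : ∀ a b : ZMod 2, a ≠ b → b + a = 1) _ _ hi] at e
    exact (by decide : ∀ s : ZMod 3, s = σ 1 * s → s = 0) _ e
  have hwp : w p ≠ 0 := fun h0 => by
    have : w = 0 := funext fun y => by
      by_cases hy : y = p
      · subst hy; exact h0
      · exact hwy y hy
    have hd0 := (LinearEquiv.map_eq_zero_iff g).1 this
    exact one_ne_zero (α := ZMod 3) (by simpa [hd] using congrFun hd0 0)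
  obtain ⟨t, ht⟩ := zmod3_cases _ hwp
  refine ⟨⟨t + r ⬝ᵥ p, (r, p)⟩, LinearEquiv.toLinearMap_injective (LinearMap.pi_ext' fun b => ?_)⟩
  refine LinearMap.ext_ring (funext fun y => ?_)
  show rep _ (Pi.single b 1 : Md n) y = g (Pi.single b 1) y
  have hb : (Pi.single b 1 : Md n) = rep (⟨0, (0, b)⟩ : Cocycle (β n)) d := by
    funext z
    rw [rep_apply, zero_dotProduct, add_zero, σ_zero, one_mul, hd, Pi.single_apply, Pi.single_apply]
    congr 1
    exact propext ⟨fun h => by subst h; exact funext fun i => CharTwo.add_self_eq_zero _,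
      fun h => funext fun i => CharTwo.add_eq_zero.1 (congrFun h i)⟩
  conv_rhs => rw [hb, hmove]
  rw [rep_apply, rep_apply, hr', zero_dotProduct, add_zero]
  by_cases hy : y + b = p
  · subst hy
    have e : y + (y + b) = b := funext fun i => by
      simp only [Pi.add_apply]; rw [← add_assoc, CharTwo.add_self_eq_zero, zero_add]
    rw [e, Pi.single_eq_same, mul_one, ← hw, ht, ← σ_add]
    congr 1
    simp only [dotProduct_add]
    have h2 : r ⬝ᵥ y + r ⬝ᵥ y = 0 := CharTwo.add_self_eq_zero _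
    linear_combination h2
  · have hne : y + p ≠ b := fun h => hy (by
      subst h; exact funext fun i => by
        simp only [Pi.add_apply]; rw [← add_assoc, CharTwo.add_self_eq_zero, zero_add])
    rw [Pi.single_eq_of_ne hne, ← hw, hwy _ hy, mul_zero, mul_zero]

/-- Coordinates for a form of plus type. -/
theorem exists_coords {U : Type*} [AddCommGroup U] [Module (ZMod 2) U] [Module.Finite (ZMod 2) U] (m : ℕ)
    (hm : finrank (ZMod 2) U = 2 * m) (q : QuadraticForm (ZMod 2) U)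
    (hnd : (QuadraticMap.polarBilin q).Nondegenerate)
    (hplus : ∃ W : Submodule (ZMod 2) U, finrank (ZMod 2) ↥W = m ∧ ∀ w ∈ W, q w = 0) :
    ∃ e : Sp m ≃ₗ[ZMod 2] U, ∀ x, q (e x) = β m x x := by
  classical
  haveI : Fact (Nat.Prime 2) := ⟨Nat.prime_two⟩
  obtain ⟨W, hWd, hW⟩ := hplus
  obtain ⟨C, hC⟩ := Submodule.exists_isCompl W
  have hCd : finrank (ZMod 2) ↥C = m := by
    have := Submodule.finrank_add_eq_of_isCompl hC
    omega
  set B := QuadraticMap.polarBilin q with hB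
  have hBadd : ∀ x y, q (x + y) = q x + q y + B x y := QuadraticMap.map_add _
  let L : ↥W →ₗ[ZMod 2] Module.Dual (ZMod 2) ↥C := (B.domRestrict₁₂ C W).flip
  have hL : ∀ (w : ↥W) (c : ↥C), L w c = B (c : U) (w : U) := fun _ _ => rfl
  have hLinj : Function.Injective L := by
    refine (injective_iff_map_eq_zero L).2 fun w hw => Subtype.ext (hnd.2 _ fun x => ?_)
    have hx : x ∈ W ⊔ C := by rw [hC.sup_eq_top]; trivial
    obtain ⟨a, ha, b, hb, rfl⟩ := Submodule.mem_sup.1 hx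
    have h1 : B a (w : U) = 0 := by
      have := hBadd a (w : U)
      rw [hW _ (W.add_mem ha w.2), hW a ha, hW _ w.2] at this
      simpa using this.symm
    have h2 : B b (w : U) = 0 := LinearMap.congr_fun hw ⟨b, hb⟩
    rw [map_add, LinearMap.add_apply, h1, h2, add_zero]
  have hLbij : Function.Bijective L :=
    ⟨hLinj, (LinearMap.injective_iff_surjective_of_finrank_eq_finrank
      (by rw [Subspace.dual_finrank_eq, hWd, hCd])).1 hLinj⟩
  let Le := LinearEquiv.ofBijective L hLbij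
  have hLe : ∀ (d : Module.Dual (ZMod 2) ↥C) (c : ↥C), B (c : U) (Le.symm d : U) = d c := fun d c => by
    rw [← hL]
    exact LinearMap.congr_fun (Le.apply_symm_apply d) c
  let bC : Basis (Fin m) (ZMod 2) ↥C := Module.finBasisOfFinrankEq (ZMod 2) ↥C hCd
  let β₀ := (q.comp C.subtype).toBilin bC
  have hβ₀ : ∀ c : ↥C, β₀ c c = q (c : U) := fun c => by
    have := congrArg (fun Q : QuadraticMap (ZMod 2) ↥C (ZMod 2) => Q c)
      (QuadraticMap.toQuadraticMap_toBilin (q.comp C.subtype) bC)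
    simpa using this
  let ψ : ↥C →ₗ[ZMod 2] U := C.subtype + W.subtype.comp (Le.symm.toLinearMap.comp β₀.flip)
  have hψ : ∀ c : ↥C, ψ c = (c : U) + (Le.symm (β₀.flip c) : U) := fun _ => rfl
  have hqψ : ∀ c : ↥C, q (ψ c) = 0 := fun c => by
    rw [hψ, hBadd, hW _ (Le.symm (β₀.flip c)).2, hLe, LinearMap.flip_apply, hβ₀, add_zero,
      CharTwo.add_self_eq_zero]
  let dd : (Fin m → ZMod 2) →ₗ[ZMod 2] Module.Dual (ZMod 2) ↥C :=
    (bC.equivFun.toLinearMap.dualMap).comp (dotProductEquiv (ZMod 2) (Fin m)).toLinearMap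
  have hdd : ∀ b c, dd b c = b ⬝ᵥ bC.equivFun c := fun _ _ => rfl
  let Φ : Sp m →ₗ[ZMod 2] U :=
    (ψ.comp bC.equivFun.symm.toLinearMap).coprod (W.subtype.comp (Le.symm.toLinearMap.comp dd))
  have hΦ : ∀ x : Sp m, Φ x = ψ (bC.equivFun.symm x.1) + (Le.symm (dd x.2) : U) := fun _ => rfl
  have hinj : Function.Injective Φ := by
    refine (injective_iff_map_eq_zero Φ).2 fun x hx => ?_
    rw [hΦ, hψ] at hx
    set c := bC.equivFun.symm x.1 with hc
    have hcW : (c : U) ∈ W := by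
      rw [add_assoc, add_eq_zero_iff_eq_neg] at hx
      rw [hx]
      exact W.neg_mem (W.add_mem (Le.symm (β₀.flip c)).2 (Le.symm (dd x.2)).2)
    have hc0 : c = 0 := Subtype.ext
      ((Submodule.disjoint_def.1 hC.disjoint) _ hcW c.2)
    have hx1 : x.1 = 0 := (LinearEquiv.map_eq_zero_iff bC.equivFun.symm).1 hc0
    rw [hc0, map_zero, map_zero, Submodule.coe_zero, Submodule.coe_zero, zero_add, zero_add] at hx
    have hd : dd x.2 = 0 := by
      have := Subtype.ext (a1 := Le.symm (dd x.2)) (a2 := 0) hx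
      simpa using this
    have hx2 : x.2 = 0 := funext fun i => by
      have := LinearMap.congr_fun hd (bC.equivFun.symm (Pi.single i 1))
      rw [hdd, LinearEquiv.apply_symm_apply, dotProduct_single, mul_one] at this
      simpa using this
    exact Prod.ext hx1 hx2
  have hbij : Function.Bijective Φ :=
    ⟨hinj, (LinearMap.injective_iff_surjective_of_finrank_eq_finrank (by simp [hm, two_mul])).1 hinj⟩
  refine ⟨LinearEquiv.ofBijective Φ hbij, fun x => ?_⟩
  show q (Φ x) = _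
  set c := bC.equivFun.symm x.1 with hc
  rw [hΦ, hBadd, hqψ, hW _ (Le.symm (dd x.2)).2, zero_add, zero_add, hψ, map_add, LinearMap.add_apply,
    hLe, hdd, β_apply]
  have h0 : B (Le.symm (β₀.flip c) : U) (Le.symm (dd x.2) : U) = 0 := by
    have := hBadd (Le.symm (β₀.flip c) : U) (Le.symm (dd x.2) : U)
    rw [hW _ (W.add_mem (Le.symm _).2 (Le.symm _).2), hW _ (Le.symm _).2, hW _ (Le.symm _).2] at this
    simpa using this.symm
  rw [h0, add_zero, LinearEquiv.apply_symm_apply]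

variable {K : Type*} [Group K] (T : K →* qAut (β n)) (hT : Function.Injective T)

/-- The extension. -/
def ext : Subgroup (Md n ≃ₗ[ZMod 3] Md n) where
  carrier := {g | ∃ k, ∀ x : Cocycle (β n), ∃ s, g * rep x * g⁻¹ = rep ⟨s, (T k).1 x.v⟩}
  one_mem' := ⟨1, fun x => ⟨x.s, by simp⟩⟩
  mul_mem' := by
    rintro g g' ⟨k, hk⟩ ⟨k', hk'⟩
    refine ⟨k * k', fun x => ?_⟩
    obtain ⟨s, hs⟩ := hk' x
    obtain ⟨s', hs'⟩ := hk ⟨s, (T k').1 x.v⟩
    refine ⟨s', ?_⟩
    rw [show g * g' * rep x * (g * g')⁻¹ = g * (g' * rep x * g'⁻¹) * g⁻¹ by group, hs, hs', map_mul]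
    rfl
  inv_mem' := by
    rintro g ⟨k, hk⟩
    refine ⟨k⁻¹, fun x => ?_⟩
    obtain ⟨s, hs⟩ := hk ⟨0, (T k⁻¹).1 x.v⟩
    have hv : (T k).1 ((T k⁻¹).1 x.v) = x.v := by
      show ((T k * T k⁻¹ : qAut (β n)) : Sp n ≃ₗ[ZMod 2] Sp n) x.v = x.v
      rw [← map_mul, mul_inv_cancel, map_one]; rfl
    dsimp only at hs
    rw [hv] at hs
    refine ⟨x.s + s, ?_⟩
    conv_lhs => rw [split_scalar x s, map_mul, ← mul_assoc, scalar_comm, ← hs]
    rw [show (⟨x.s + s, (T k⁻¹).1 x.v⟩ : Cocycle (β n)) = ⟨x.s + s, 0⟩ * ⟨0, (T k⁻¹).1 x.v⟩ from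
      mk_eq _ _, map_mul]
    group

include hT in
theorem ext_unique {g : Md n ≃ₗ[ZMod 3] Md n} {k k' : K}
    (h : ∀ x : Cocycle (β n), ∃ s, g * rep x * g⁻¹ = rep ⟨s, (T k).1 x.v⟩)
    (h' : ∀ x : Cocycle (β n), ∃ s, g * rep x * g⁻¹ = rep ⟨s, (T k').1 x.v⟩) : k = k' := by
  refine hT (Subtype.ext (LinearEquiv.ext fun v => ?_))
  obtain ⟨s, hs⟩ := h ⟨0, v⟩
  obtain ⟨s', hs'⟩ := h' ⟨0, v⟩
  exact congrArg Cocycle.v (rep_injective (hs.symm.trans hs'))

theorem rep_mem_ext (y : Cocycle (β n)) : rep y ∈ ext T := by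
  refine ⟨1, fun x => ⟨(y * x * y⁻¹).s, ?_⟩⟩
  rw [← map_inv, ← map_mul, ← map_mul]
  congr 1
  refine Cocycle.ext' rfl ?_
  rw [map_one]
  show y.v + x.v + -y.v = x.v
  abel

/-- The main construction. -/
theorem main (hn : 1 ≤ n) (hT : Function.Injective T) :
    ∃ (R : Type) (_ : Group R) (_ : Finite R) (Q : Subgroup R) (hN : Q.Normal) (e : R ⧸ Q ≃* K)
      (ι : Cocycle (β n) ≃* ↥Q),
      Cfsg.IsExtraspecial 2 ↥Q ∧ ∀ (r : R) (a : ↥Q),
        (ι.symm ⟨r * a * r⁻¹, hN.conj_mem (a : R) a.2 r⟩).v = (T (e (r : R ⧸ Q))).1 (ι.symm a).v := by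
  classical
  haveI : Fact (Nat.Prime 2) := ⟨Nat.prime_two⟩
  haveI : Finite (Md n ≃ₗ[ZMod 3] Md n) :=
    Finite.of_injective (fun g => (g : Md n → Md n)) DFunLike.coe_injective
  choose π hπ using fun g : ↥(ext T) => g.2
  let Pm : ↥(ext T) →* K := MonoidHom.mk' π fun g g' => ext_unique T hT (hπ (g * g')) fun x => by
    obtain ⟨s, hs⟩ := hπ g' x
    obtain ⟨s', hs'⟩ := hπ g ⟨s, (T (π g')).1 x.v⟩
    refine ⟨s', ?_⟩
    rw [show ((g * g' : ↥(ext T)) : Md n ≃ₗ[ZMod 3] Md n) * rep x * ((g * g' : ↥(ext T)) : Md n ≃ₗ[ZMod 3] Md n)⁻¹ =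
      g.1 * (g'.1 * rep x * g'.1⁻¹) * g.1⁻¹ by simp [mul_assoc], hs, hs', map_mul]
    rfl
  let i : Cocycle (β n) →* ↥(ext T) := rep.codRestrict (ext T) (rep_mem_ext T)
  have hi : Function.Injective i := fun a b h => rep_injective (congrArg Subtype.val h)
  have hker : Pm.ker = i.range := by
    ext g
    constructor
    · intro hg
      have h1 : π g = 1 := hg
      obtain ⟨y, hy⟩ := mem_range_of_trivial g.1 fun x => by
        obtain ⟨s, hs⟩ := hπ g x
        exact ⟨s, by rw [hs, h1, map_one]; rfl⟩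
      exact ⟨y, Subtype.ext hy⟩
    · rintro ⟨y, rfl⟩
      refine ext_unique T hT (hπ (i y)) fun x => ⟨(y * x * y⁻¹).s, ?_⟩
      show rep y * rep x * (rep y)⁻¹ = _
      rw [← map_inv, ← map_mul, ← map_mul]
      congr 1
      refine Cocycle.ext' rfl ?_
      rw [map_one]
      show y.v + x.v + -y.v = x.v
      abel
  have hsurj : Function.Surjective Pm := fun k => by
    obtain ⟨φ, hφ⟩ := autHom_surjective (β := β n) nondeg (T k)
    obtain ⟨g, hg⟩ := exists_intertwiner φ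
    have h : ∀ x : Cocycle (β n), ∃ s, g * rep x * g⁻¹ = rep ⟨s, (T k).1 x.v⟩ := fun x => by
      refine ⟨(φ x).s, (hg x).trans (congrArg rep (Cocycle.ext' rfl ?_))⟩
      show (φ x).v = _
      rw [aut_v nondeg φ x, ← hφ]
      rfl
    exact ⟨⟨g, k, h⟩, ext_unique T hT (hπ _) h⟩
  haveI : i.range.Normal := hker ▸ inferInstance
  let e : ↥(ext T) ⧸ i.range ≃* K :=
    (QuotientGroup.quotientMulEquivOfEq hker.symm).trans (QuotientGroup.quotientKerEquivOfSurjective Pm hsurj)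
  have he : ∀ r : ↥(ext T), e (r : ↥(ext T) ⧸ i.range) = Pm r := fun r => rfl
  refine ⟨↥(ext T), inferInstance, inferInstance, i.range, inferInstance, e, MonoidHom.ofInjective hi, ?_, ?_⟩
  · refine isExtraspecial_congr (MonoidHom.ofInjective hi) (isExtraspecial nondeg
      ⟨(0, Pi.single ⟨0, hn⟩ 1), (Pi.single ⟨0, hn⟩ 1, 0), ?_⟩)
    simp [β_apply]
  · intro r a
    obtain ⟨x, rfl⟩ := (MonoidHom.ofInjective hi).surjective a
    rw [MulEquiv.symm_apply_apply, he]
    obtain ⟨s, hs⟩ := hπ r x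
    have : (⟨r * ((MonoidHom.ofInjective hi x : ↥i.range) : ↥(ext T)) * r⁻¹, (inferInstance : i.range.Normal).conj_mem _
        (MonoidHom.ofInjective hi x).2 r⟩ : ↥i.range) = MonoidHom.ofInjective hi ⟨s, (T (Pm r)).1 x.v⟩ :=
      Subtype.ext (Subtype.ext hs)
    rw [this, MulEquiv.symm_apply_apply]

end Cfsg.Lib.Extra.Pauli
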