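import Cfsg.Agent.Lib.Extra.AffineLarge
import Cfsg.Agent.Lib.Extra.Large
import Cfsg.Agent.Lib.Extra.Structure

/-!
# The large extraspecial subgroup at a transvection of a special linear group over two elements
-/

set_option autoImplicit false

namespace Cfsg.Lib.Extra.Affine

open Cfsg
open scoped Matrix

variable {n : ℕ}

/-- The affine space with a marked axis. -/
abbrev W (n : ℕ) := ZMod 2 × (Fin (n + 1) → ZMod 2)

/-- Coordinates in `n + 2` dimensions. -/
def consEquiv (n : ℕ) : W n ≃ₗ[ZMod 2] (Fin (n + 2) → ZMod 2) where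
  toFun p := Fin.cons p.1 p.2
  invFun x := (x 0, Fin.tail x)
  map_add' p q := by
    funext i
    refine Fin.cases ?_ (fun j => ?_) i <;> simp
  map_smul' c p := by
    funext i
    refine Fin.cases ?_ (fun j => ?_) i <;> simp
  left_inv p := by simp
  right_inv x := Fin.cons_self_tail x

theorem det_eq_one (L : (Fin (n + 2) → ZMod 2) ≃ₗ[ZMod 2] (Fin (n + 2) → ZMod 2)) :
    (LinearMap.toMatrix' L.toLinearMap).det = 1 := by
  have h : (LinearMap.toMatrix' L.toLinearMap).det *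
      (LinearMap.toMatrix' L.symm.toLinearMap).det = 1 := by
    rw [← Matrix.det_mul, ← LinearMap.toMatrix'_comp, LinearEquiv.comp_symm,
      LinearMap.toMatrix'_id, Matrix.det_one]
  exact zmod2_eq_one _ fun h0 => by rw [h0, zero_mul] at h; exact zero_ne_one h

/-- The special linear group as the group of linear automorphisms. -/
noncomputable def toSL (n : ℕ) :
    (W n ≃ₗ[ZMod 2] W n) →* Matrix.SpecialLinearGroup (Fin (n + 2)) (ZMod 2) :=
  MonoidHom.mk' (fun L => (⟨_, det_eq_one (((consEquiv n).symm.trans L).trans (consEquiv n))⟩ :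
      Matrix.SpecialLinearGroup (Fin (n + 2)) (ZMod 2)))
    fun L K => by
      refine Subtype.ext ?_
      show LinearMap.toMatrix' _ = LinearMap.toMatrix' _ * LinearMap.toMatrix' _
      rw [← LinearMap.toMatrix'_comp]
      congr 1

theorem toSL_act (L : W n ≃ₗ[ZMod 2] W n) (p : W n) :
    (toSL n L : Matrix (Fin (n + 2)) (Fin (n + 2)) (ZMod 2)) *ᵥ consEquiv n p = consEquiv n (L p) := by
  show LinearMap.toMatrix' _ *ᵥ _ = _
  rw [LinearMap.toMatrix'_mulVec]
  simp

theorem toSL_injective : Function.Injective (toSL n) := fun L K h => LinearEquiv.ext fun p =>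
  (consEquiv n).injective (by rw [← toSL_act, ← toSL_act, h])

theorem toSL_surjective : Function.Surjective (toSL n) := by
  intro g
  let e : (Fin (n + 2) → ZMod 2) ≃ₗ[ZMod 2] (Fin (n + 2) → ZMod 2) :=
    Matrix.SpecialLinearGroup.toLin' g
  refine ⟨((consEquiv n).trans e).trans (consEquiv n).symm, Subtype.ext (Matrix.ext_of_mulVec_single fun i => ?_)⟩
  obtain ⟨p, hp⟩ := (consEquiv n).surjective (Pi.single i 1)
  rw [← hp, toSL_act]
  simp only [LinearEquiv.trans_apply, LinearEquiv.apply_symm_apply]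
  rfl

/-- The special and the general linear groups over two elements coincide. -/
theorem gl_equiv_sl (m : ℕ) :
    Nonempty (Matrix.GeneralLinearGroup (Fin m) (ZMod 2) ≃* Matrix.SpecialLinearGroup (Fin m) (ZMod 2)) := by
  refine ⟨(MulEquiv.ofBijective Matrix.SpecialLinearGroup.toGL ⟨?_, fun g => ?_⟩).symm⟩
  · exact Matrix.SpecialLinearGroup.toGL_injective
  · exact ⟨⟨g.val, zmod2_eq_one _ (Matrix.GeneralLinearGroup.det g).ne_zero⟩, Units.ext rfl⟩

/-- The stabilizer of the marked axis. -/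
def stab (n : ℕ) : Subgroup (W n ≃ₗ[ZMod 2] W n) where
  carrier := {L | L (1, 0) = (1, 0)}
  one_mem' := rfl
  mul_mem' := fun {L K} hL hK => by
    show L (K (1, 0)) = (1, 0)
    rw [hK, hL]
  inv_mem' := fun {L} hL => by
    have h : L (1, 0) = (1, 0) := hL
    show L.symm (1, 0) = (1, 0)
    rw [L.symm_apply_eq]
    exact h.symm

theorem mem_stab {L : W n ≃ₗ[ZMod 2] W n} : L ∈ stab n ↔ L (1, 0) = (1, 0) := Iff.rfl

/-- The hypotheses of `main` for the stabilizer. -/
theorem stab_hyp (n : ℕ) : ∃ (U M : Subgroup ↥(stab n)), U.Normal ∧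
    Cfsg.IsElementaryAbelian 2 U ∧ Nat.card ↥U = 2 ^ (n + 1) ∧ U ⊓ M = ⊥ ∧ U ⊔ M = ⊤ ∧
    (∀ m ∈ M, (∀ u ∈ U, m * u * m⁻¹ = u) → m = 1) ∧
    (∀ φ : ↥U ≃* ↥U, ∃ m ∈ M, ∀ u : ↥U, ((φ u : ↥U) : ↥(stab n)) = m * u * m⁻¹) ∧
    ∀ b, ∃ u ∈ U, (u : W n ≃ₗ[ZMod 2] W n) = tHom (Multiplicative.ofAdd b) := by
  classical
  have ht : ∀ b, tHom (Multiplicative.ofAdd b) ∈ stab n := fun b => by
    show tEquiv b ((1 : ZMod 2), (0 : Fin (n + 1) → ZMod 2)) = (1, 0)
    rw [tEquiv_apply, dotProduct_zero, add_zero]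
  have hd : ∀ A, dHom A ∈ stab n := fun A => by
    show dHom A ((1 : ZMod 2), (0 : Fin (n + 1) → ZMod 2)) = (1, 0)
    rw [dHom_apply, map_zero]
  let τ : Multiplicative (Fin (n + 1) → ZMod 2) →* stab n := tHom.codRestrict _ fun b => ht b.toAdd
  let δ : ((Fin (n + 1) → ZMod 2) ≃ₗ[ZMod 2] (Fin (n + 1) → ZMod 2)) →* stab n :=
    dHom.codRestrict _ hd
  have hτinj : Function.Injective τ := fun b c h => by
    refine Multiplicative.toAdd.injective (funext fun i => ?_)
    have := congrArg Prod.fst (LinearEquiv.congr_fun (congrArg Subtype.val h) (0, Pi.single i 1))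
    simpa [τ, tHom, tEquiv_apply] using this
  have hall : ∀ g : stab n, ∃ b A, g = τ b * δ A := fun g => by
    obtain ⟨b, A, h⟩ := decomp (g : W n ≃ₗ[ZMod 2] W n) g.2
    exact ⟨Multiplicative.ofAdd b, A, Subtype.ext h⟩
  have hconj : ∀ A b, ∃ b', δ A * τ b * (δ A)⁻¹ = τ b' ∧
      ∀ w, dotProduct b'.toAdd w = dotProduct b.toAdd (A.symm w) := by
    intro A b
    obtain ⟨b', hb'⟩ := exists_dot ({ toFun := fun w => dotProduct b.toAdd (A.symm w)
                                      map_add' := fun x y => by rw [map_add, dotProduct_add]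
                                      map_smul' := fun c x => by
                                        rw [map_smul, dotProduct_smul]; rfl } :
      (Fin (n + 1) → ZMod 2) →ₗ[ZMod 2] ZMod 2)
    refine ⟨Multiplicative.ofAdd b', Subtype.ext ?_, fun w => (hb' w).symm⟩
    show dHom A * tEquiv b.toAdd * (dHom A)⁻¹ = tEquiv b'
    rw [← map_inv dHom]
    refine LinearEquiv.ext fun p => ?_
    show dHom A (tEquiv b.toAdd (dHom A⁻¹ p)) = tEquiv b' p
    rw [dHom_apply, dHom_apply, tEquiv_apply, tEquiv_apply, ← hb']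
    exact Prod.ext rfl (A.apply_symm_apply p.2)
  have hzero : ∀ b A, τ b = δ A → b = 1 := fun b A h => by
    refine Multiplicative.toAdd.injective (funext fun i => ?_)
    have := congrArg Prod.fst (LinearEquiv.congr_fun (congrArg Subtype.val h) (0, Pi.single i 1))
    simpa [τ, δ, tHom, tEquiv_apply, dHom_apply] using this
  refine ⟨τ.range, δ.range, ⟨?_⟩, ⟨⟨⟨?_⟩⟩, ?_⟩, ?_, ?_, ?_, ?_, ?_, ?_⟩
  · rintro _ ⟨b, rfl⟩ g
    obtain ⟨c, A, rfl⟩ := hall g
    obtain ⟨b', hb', -⟩ := hconj A b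
    refine ⟨c * b' * c⁻¹, ?_⟩
    rw [map_mul, map_mul, map_inv, ← hb']
    group
  · rintro ⟨_, b, rfl⟩ ⟨_, c, rfl⟩
    exact Subtype.ext (show τ b * τ c = τ c * τ b by rw [← map_mul, ← map_mul, mul_comm])
  · rintro _ ⟨b, rfl⟩
    rw [← map_pow, show b ^ 2 = 1 from congrArg Multiplicative.ofAdd (funext fun i => by
      rw [Pi.smul_apply, two_nsmul, CharTwo.add_self_eq_zero]; rfl), map_one]
  · rw [Nat.card_congr (MonoidHom.ofInjective hτinj).symm.toEquiv,
      Nat.card_congr Multiplicative.toAdd, Nat.card_fun, Nat.card_zmod, Nat.card_eq_fintype_card,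
      Fintype.card_fin]
  · rw [eq_bot_iff]
    rintro _ ⟨⟨b, rfl⟩, A, hA⟩
    rw [hzero b A hA.symm, map_one]
    exact one_mem _
  · rw [eq_top_iff]
    intro g _
    obtain ⟨b, A, rfl⟩ := hall g
    exact mul_mem (Subgroup.mem_sup_left ⟨b, rfl⟩) (Subgroup.mem_sup_right ⟨A, rfl⟩)
  · rintro _ ⟨A, rfl⟩ h
    have hA : A = 1 := LinearEquiv.ext fun w => funext fun i => by
      obtain ⟨b', hb', hdot⟩ := hconj A (Multiplicative.ofAdd (Pi.single i 1))
      have e : b' = Multiplicative.ofAdd (Pi.single i 1) :=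
        hτinj (hb'.symm.trans (h _ ⟨_, rfl⟩))
      have h1 := hdot (A w)
      rw [e, A.symm_apply_apply] at h1
      simpa using h1
    rw [hA, map_one]
  · intro φ
    let e : Multiplicative (Fin (n + 1) → ZMod 2) ≃* τ.range := MonoidHom.ofInjective hτinj
    let A' := MulEquiv.toAdditive (e.trans (φ.trans e.symm))
    have hA' : ∀ c, (φ (e (Multiplicative.ofAdd c)) : stab n) = τ (Multiplicative.ofAdd (A' (Additive.ofMul (Multiplicative.ofAdd c))).toMul.toAdd) := fun c => by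
      show _ = ((e (e.symm (φ (e (Multiplicative.ofAdd c))))) : stab n)
      rw [MulEquiv.apply_symm_apply]
    let f : (Fin (n + 1) → ZMod 2) →+ (Fin (n + 1) → ZMod 2) :=
      { toFun := fun c => (A' (Additive.ofMul (Multiplicative.ofAdd c))).toMul.toAdd
        map_zero' := by simp
        map_add' := fun x y => by simp }
    have hfinj : Function.Injective f := fun x y h => by
      have := A'.injective (Additive.toMul.injective (Multiplicative.toAdd.injective h))
      simpa using this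
    have hfsurj : Function.Surjective f := Finite.surjective_of_injective hfinj
    let fL : (Fin (n + 1) → ZMod 2) →ₗ[ZMod 2] (Fin (n + 1) → ZMod 2) := f.toZModLinearMap 2
    let T : (Fin (n + 1) → ZMod 2) →ₗ[ZMod 2] (Fin (n + 1) → ZMod 2) :=
      LinearMap.pi fun j => ∑ i, fL (Pi.single j 1) i • LinearMap.proj i
    have hT : ∀ b w, dotProduct b (T w) = dotProduct (f b) w := by
      intro b w
      have hb : f b = ∑ j, b j • fL (Pi.single j 1) := by
        conv_lhs => rw [pi_eq_sum_univ' b]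
        show fL _ = _
        simp
      rw [hb, sum_dotProduct]
      refine Finset.sum_congr rfl fun j _ => ?_
      rw [smul_dotProduct, smul_eq_mul]
      congr 1
      simp [T, dotProduct]
    have hTinj : Function.Injective T := by
      rw [injective_iff_map_eq_zero]
      intro w hw
      funext i
      obtain ⟨b, hb⟩ := hfsurj (Pi.single i 1)
      have := hT b w
      rw [hw, hb, dotProduct_zero, single_dotProduct, one_mul] at this
      exact this.symm
    refine ⟨δ (LinearEquiv.ofInjectiveEndo T hTinj).symm, ⟨_, rfl⟩, fun u => ?_⟩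
    obtain ⟨c, rfl⟩ := e.surjective u
    obtain ⟨b', hb', hdot⟩ := hconj (LinearEquiv.ofInjectiveEndo T hTinj).symm c
    show _ = δ _ * τ c * (δ _)⁻¹
    rw [hb']
    have e1 := hA' c.toAdd
    rw [ofAdd_toAdd] at e1
    rw [e1]
    congr 1
    refine Multiplicative.toAdd.injective (funext fun i => ?_)
    have e2 := hdot (Pi.single i 1)
    have e3 := hT c.toAdd (Pi.single i 1)
    rw [LinearEquiv.symm_symm] at e2
    rw [show (LinearEquiv.ofInjectiveEndo T hTinj) (Pi.single i 1) = T (Pi.single i 1) from rfl,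
      e3, dotProduct_single, dotProduct_single, mul_one, mul_one] at e2
    exact e2.symm
  · exact fun b => ⟨τ (Multiplicative.ofAdd b), ⟨_, rfl⟩, rfl⟩

/-- Transport along an embedding whose range contains the centralizer. -/
theorem of_embedding {G P : Type*} [Group G] [Finite G] [Group P] [Finite P] {ψ : P →* G}
    (hψ : Function.Injective ψ) {z0 : P} (hz0 : orderOf z0 = 2)
    (hrange : Subgroup.centralizer ({ψ z0} : Set G) ≤ ψ.range) {m : ℕ} {X : Type*} [Group X]
    (Q0 : Subgroup P)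
    (hQ0 : Q0 = (Cfsg.pCore 2 ↥(Subgroup.centralizer ((Subgroup.zpowers z0 : Subgroup P) : Set P))).map
      (Subgroup.centralizer ((Subgroup.zpowers z0 : Subgroup P) : Set P)).subtype)
    (hE : Cfsg.IsExtraspecial 2 Q0)
    (hEl : ∃ E : Subgroup P, E ≤ Q0 ∧ Cfsg.IsElementaryAbelian 2 E ∧ Nat.card E = m)
    (hL2 : Subgroup.centralizer (Q0 : Set P) = (Subgroup.center Q0).map Q0.subtype)
    (hK : ∃ K : Subgroup P, K ≤ Subgroup.centralizer ((Subgroup.zpowers z0 : Subgroup P) : Set P) ∧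
      Q0 ⊓ K = ⊥ ∧ Q0 ⊔ K = Subgroup.centralizer ((Subgroup.zpowers z0 : Subgroup P) : Set P) ∧
      Nonempty (K ≃* X))
    {g : G} {z1 : P} (hgz : g * ψ z0 * g⁻¹ = ψ z1) (hne : z1 ≠ z0) (hz1 : z1 ∈ Q0)
    (Q : Subgroup G)
    (hQ : Q = (Cfsg.pCore 2 ↥(Subgroup.centralizer ({ψ z0} : Set G))).map
      (Subgroup.centralizer ({ψ z0} : Set G)).subtype) :
    Cfsg.IsExtraspecial 2 Q ∧ Nat.card Q = Nat.card Q0 ∧
      (∃ E : Subgroup G, E ≤ Q ∧ Cfsg.IsElementaryAbelian 2 E ∧ Nat.card E = m) ∧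
      Cfsg.IsLargeExtraspecial Q ∧
      ∃ K : Subgroup G, K ≤ Subgroup.centralizer ({ψ z0} : Set G) ∧ Q ⊓ K = ⊥ ∧
        Q ⊔ K = Subgroup.centralizer ({ψ z0} : Set G) ∧ Nonempty (K ≃* X) := by
  haveI : Fact (Nat.Prime 2) := ⟨Nat.prime_two⟩
  obtain ⟨E, hEQ, hEea, hEc⟩ := hEl
  obtain ⟨K, hKC, hQK1, hQK2, ⟨eK⟩⟩ := hK
  set C := Subgroup.centralizer ({ψ z0} : Set G) with hCdef
  have hCmap : (Subgroup.centralizer ((Subgroup.zpowers z0 : Subgroup P) : Set P)).map ψ = C := by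
    refine le_antisymm ?_ fun g hg => ?_
    · rintro _ ⟨a, ha, rfl⟩
      refine Subgroup.mem_centralizer_singleton_iff.2 ?_
      rw [← map_mul, ← map_mul, Subgroup.mem_centralizer_iff.1 ha z0 (Subgroup.mem_zpowers z0)]
    · obtain ⟨a, rfl⟩ := hrange hg
      refine ⟨a, Subgroup.mem_centralizer_iff.2 fun w hw => ?_, rfl⟩
      obtain ⟨k, rfl⟩ := Subgroup.mem_zpowers_iff.1 hw
      have hc : Commute a z0 := hψ (by
        rw [map_mul, map_mul]; exact Subgroup.mem_centralizer_singleton_iff.1 hg)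
      exact (hc.zpow_right k).symm.eq
  set C0 := Subgroup.centralizer ((Subgroup.zpowers z0 : Subgroup P) : Set P) with hC0
  let e : C0 ≃* C := (C0.equivMapOfInjective ψ hψ).trans (MulEquiv.subgroupCongr hCmap)
  have hQmap : Q = Q0.map ψ := by
    rw [hQ, hQ0, ← Cfsg.Lib.Core.map_pCore_equiv e, Subgroup.map_map, Subgroup.map_map]
    rfl
  let eQ : Q0 ≃* Q := (Q0.equivMapOfInjective ψ hψ).trans (MulEquiv.subgroupCongr hQmap.symm)
  have hcen : (Subgroup.center Q).map Q.subtype = ((Subgroup.center Q0).map Q0.subtype).map ψ := by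
    ext g
    constructor
    · rintro ⟨c, hc, rfl⟩
      refine ⟨(eQ.symm c : P), ⟨eQ.symm c, Subgroup.mem_center_iff.2 fun a => ?_, rfl⟩, ?_⟩
      · apply eQ.injective
        rw [map_mul, map_mul, eQ.apply_symm_apply]
        exact Subgroup.mem_center_iff.1 hc (eQ a)
      · exact congrArg Subtype.val (eQ.apply_symm_apply c)
    · rintro ⟨_, ⟨c, hc, rfl⟩, rfl⟩
      refine ⟨eQ c, Subgroup.mem_center_iff.2 fun a => ?_, rfl⟩
      apply eQ.symm.injective
      rw [map_mul, map_mul, eQ.symm_apply_apply]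
      exact Subgroup.mem_center_iff.1 hc (eQ.symm a)
  have hz0Q : z0 ∈ Q0 := by
    rw [hQ0]
    refine ⟨⟨z0, Subgroup.mem_centralizer_iff.2 fun w hw => ?_⟩, ?_, rfl⟩
    · obtain ⟨k, rfl⟩ := Subgroup.mem_zpowers_iff.1 hw
      exact ((Commute.refl z0).zpow_left k).eq
    · refine Cfsg.Lib.Core.le_pCore' (N := Subgroup.zpowers _) ⟨fun a ha g => ?_⟩ ?_ (Subgroup.mem_zpowers _)
      · obtain ⟨k, rfl⟩ := Subgroup.mem_zpowers_iff.1 ha
        refine Subgroup.mem_zpowers_iff.2 ⟨k, Subtype.ext ?_⟩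
        push_cast
        have hgz : Commute (g : P) z0 :=
          (Subgroup.mem_centralizer_iff.1 g.2 z0 (Subgroup.mem_zpowers z0)).symm
        rw [(hgz.zpow_right k).eq, mul_inv_cancel_right]
      · exact IsPGroup.of_card (n := 1) (by rw [Nat.card_zpowers, Subgroup.orderOf_mk, hz0, pow_one])
  have hcz : (Subgroup.center Q0).map Q0.subtype = Subgroup.zpowers z0 := by
    have hmem : z0 ∈ (Subgroup.center Q0).map Q0.subtype := by
      refine Subgroup.mem_map.2 ⟨⟨z0, hz0Q⟩, Subgroup.mem_center_iff.2 fun a => Subtype.ext ?_, rfl⟩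
      have haQ : (a : P) ∈ (Cfsg.pCore 2 ↥C0).map C0.subtype := hQ0.le a.2
      obtain ⟨a', -, ha'⟩ := haQ
      show (a : P) * z0 = z0 * a
      rw [← ha']
      exact (Subgroup.mem_centralizer_iff.1 a'.2 z0 (Subgroup.mem_zpowers z0)).symm
    refine (Subgroup.eq_of_le_of_card_ge (Subgroup.zpowers_le.2 hmem) ?_).symm
    rw [Subgroup.card_map_of_injective Q0.subtype_injective, hE.2, Nat.card_zpowers, hz0]
  have hcQ : (Subgroup.center Q).map Q.subtype = Subgroup.zpowers (ψ z0) := by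
    rw [hcen, hcz, MonoidHom.map_zpowers]
  have hCZ : Subgroup.centralizer
      (((Subgroup.center Q).map Q.subtype : Subgroup (G)) :
        Set (G)) = C := by
    rw [hcQ, Subgroup.zpowers_eq_closure, Subgroup.centralizer_closure]
  have hQC : Q ≤ C := hQ ▸ Subgroup.map_subtype_le _
  have hzQ : ψ z0 ∈ Q := by rw [hQmap]; exact Subgroup.mem_map_of_mem ψ hz0Q
  have hEQ' : Cfsg.IsExtraspecial 2 Q := isExtraspecial_congr eQ hE
  have hcentQ : Subgroup.centralizer (Q : Set (G)) = (Subgroup.center Q).map Q.subtype := by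
    refine le_antisymm (fun g hg => ?_) ?_
    · have hgC : g ∈ C := Subgroup.mem_centralizer_singleton_iff.2
        (Subgroup.mem_centralizer_iff.1 hg _ hzQ).symm
      obtain ⟨a, rfl⟩ := hrange hgC
      rw [hcen, ← hL2]
      refine ⟨a, Subgroup.mem_centralizer_iff.2 fun b hb => hψ ?_, rfl⟩
      rw [map_mul, map_mul]
      exact Subgroup.mem_centralizer_iff.1 hg _ (hQmap ▸ Subgroup.mem_map_of_mem ψ hb)
    · rintro _ ⟨c, hc, rfl⟩
      exact Subgroup.mem_centralizer_iff.2 fun a ha =>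
        congrArg Subtype.val (Subgroup.mem_center_iff.1 hc ⟨a, ha⟩)
  have hnorm : Subgroup.centralizer (((Subgroup.center Q).map Q.subtype : Subgroup (G)) :
        Set (G)) ≤
      Subgroup.normalizer (Q : Set (G)) := by
    rw [hCZ]
    intro g hg
    refine Subgroup.mem_normalizer_fintype fun q hq => ?_
    rw [hQ] at hq ⊢
    obtain ⟨q', hq', rfl⟩ := hq
    exact ⟨⟨g, hg⟩ * q' * ⟨g, hg⟩⁻¹,
      (inferInstance : (Cfsg.pCore 2 ↥C).Normal).conj_mem _ hq' _, rfl⟩
  have hX := ctx_of hEQ' hcentQ.le hnorm hcQ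
  have hgQ : g * ψ z0 * g⁻¹ ∈ Q := by
    rw [hgz, hQmap]
    exact Subgroup.mem_map_of_mem ψ hz1
  have hgne : g * ψ z0 * g⁻¹ ≠ ψ z0 := by
    rw [hgz]
    exact fun h => hne (hψ h)
  have hR := hX.conj g
  refine ⟨hEQ', Nat.card_congr eQ.symm.toEquiv,
    ⟨E.map ψ, hQmap ▸ Subgroup.map_mono hEQ, ⟨⟨⟨?_⟩⟩, ?_⟩,
      by rw [Subgroup.card_map_of_injective hψ]; exact hEc⟩,
    ⟨hEQ', hcentQ, hnorm, fun J hJ hQJ => hX.odd_eq_bot hgQ hR.sq_z hgne hR.ne_one hR.two
      (hX.mem_symm hgQ) hR.norm hJ hQJ⟩,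
    K.map ψ, hCmap ▸ Subgroup.map_mono hKC, ?_, ?_, ?_⟩
  · rintro ⟨_, a, ha, rfl⟩ ⟨_, b, hb, rfl⟩
    refine Subtype.ext ?_
    show ψ a * ψ b = ψ b * ψ a
    rw [← map_mul, ← map_mul, show a * b = b * a from
      congrArg Subtype.val (hEea.1.is_comm.comm ⟨a, ha⟩ ⟨b, hb⟩)]
  · rintro _ ⟨a, ha, rfl⟩
    rw [← map_pow, hEea.2 a ha, map_one]
  · rw [hQmap, ← Subgroup.map_inf _ _ _ hψ, hQK1, Subgroup.map_bot]
  · rw [hQmap, ← Subgroup.map_sup, hQK2, hCmap]
  · exact ⟨(K.equivMapOfInjective ψ hψ).symm.trans eK⟩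

/-- The two-core of the centralizer of a transvection. -/
theorem transvection_main (n : ℕ) (hn : 1 ≤ n)
    (z : Matrix.SpecialLinearGroup (Fin (n + 2)) (ZMod 2))
    (hz : (z : Matrix (Fin (n + 2)) (Fin (n + 2)) (ZMod 2)) = Matrix.transvection 0 1 1)
    (Q : Subgroup (Matrix.SpecialLinearGroup (Fin (n + 2)) (ZMod 2)))
    (hQ : Q = (Cfsg.pCore 2 ↥(Subgroup.centralizer
      ({z} : Set (Matrix.SpecialLinearGroup (Fin (n + 2)) (ZMod 2))))).map
      (Subgroup.centralizer ({z} : Set (Matrix.SpecialLinearGroup (Fin (n + 2)) (ZMod 2)))).subtype) :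
    Cfsg.IsExtraspecial 2 ↥Q ∧ Nat.card ↥Q = 2 ^ (2 * n + 1) ∧
      (∃ E : Subgroup (Matrix.SpecialLinearGroup (Fin (n + 2)) (ZMod 2)),
        E ≤ Q ∧ Cfsg.IsElementaryAbelian 2 E ∧ Nat.card ↥E = 2 ^ (n + 1)) ∧
      Cfsg.IsLargeExtraspecial Q ∧
      ∃ K : Subgroup (Matrix.SpecialLinearGroup (Fin (n + 2)) (ZMod 2)),
        K ≤ Subgroup.centralizer ({z} : Set (Matrix.SpecialLinearGroup (Fin (n + 2)) (ZMod 2))) ∧
        Q ⊓ K = ⊥ ∧
        Q ⊔ K = Subgroup.centralizer ({z} : Set (Matrix.SpecialLinearGroup (Fin (n + 2)) (ZMod 2))) ∧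
        Nonempty (↥K ≃* Matrix.SpecialLinearGroup (Fin n) (ZMod 2)) := by
  classical
  haveI : Fact (Nat.Prime 2) := ⟨Nat.prime_two⟩
  haveI : Finite (W n ≃ₗ[ZMod 2] W n) := Finite.of_injective (toSL n) toSL_injective
  obtain ⟨U, M, hUn, hU, hUc, h1, h2, h3, h4, hUt⟩ := stab_hyp n
  haveI := hUn
  let ψ : ↥(stab n) →* Matrix.SpecialLinearGroup (Fin (n + 2)) (ZMod 2) :=
    (toSL n).comp (stab n).subtype
  have hψ : Function.Injective ψ := toSL_injective.comp Subtype.val_injective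
  obtain ⟨z0, hz0U, hz0⟩ := hUt (Pi.single 0 1)
  have hψz : ψ z0 = z := by
    refine Subtype.ext (Matrix.ext_of_mulVec_single fun i => ?_)
    obtain ⟨p, hp⟩ := (consEquiv n).surjective (Pi.single i 1)
    rw [← hp, show ψ z0 = toSL n (tHom (Multiplicative.ofAdd (Pi.single 0 1))) by rw [← hz0]; rfl,
      toSL_act, hz, Matrix.transvection, Matrix.add_mulVec, Matrix.one_mulVec]
    show consEquiv n (tEquiv _ p) = _
    rw [tEquiv_apply, toAdd_ofAdd, single_dotProduct, one_mul]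
    funext j
    refine Fin.cases ?_ (fun k => ?_) j
    · simp [consEquiv, Matrix.single_mulVec]
    · simp [consEquiv, Matrix.single_mulVec, Fin.succ_ne_zero]
  have hz0ord : orderOf z0 = 2 := orderOf_eq_prime (hU.2 z0 hz0U) fun h => by
    have := congrArg Prod.fst (LinearEquiv.congr_fun (hz0.symm.trans (congrArg Subtype.val h))
      ((0 : ZMod 2), (Pi.single 0 1 : Fin (n + 1) → ZMod 2)))
    simp [tHom, tEquiv_apply] at this
  obtain ⟨hE, hcard, ⟨E, hEQ, hEea, hEc⟩, hL, K, hKC, hQK1, hQK2, ⟨eK⟩⟩ :=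
    main hn U M hU hUc h1 h2 h3 h4 (Subgroup.zpowers z0) (Subgroup.zpowers_le.2 hz0U)
      (by rw [Nat.card_zpowers, hz0ord]) _ rfl
  -- the centralizer lies in the stabilizer
  have hrange : Subgroup.centralizer ({z} : Set (Matrix.SpecialLinearGroup (Fin (n + 2)) (ZMod 2))) ≤ ψ.range := by
    intro g hg
    obtain ⟨L, rfl⟩ := toSL_surjective g
    suffices hLm : L ∈ stab n from ⟨⟨L, hLm⟩, rfl⟩
    have hc : L * tHom (Multiplicative.ofAdd (Pi.single 0 1)) =
        tHom (Multiplicative.ofAdd (Pi.single 0 1)) * L := toSL_injective (by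
      rw [map_mul, map_mul, show toSL n (tHom (Multiplicative.ofAdd (Pi.single 0 1))) = z by
        rw [← hψz]; show _ = toSL n _; rw [← hz0]; rfl]
      exact Subgroup.mem_centralizer_singleton_iff.1 hg)
    obtain ⟨p, hp⟩ : ∃ p : W n, p = L ((0 : ZMod 2), Pi.single 0 1) := ⟨_, rfl⟩
    have e := LinearEquiv.congr_fun hc ((0 : ZMod 2), (Pi.single 0 1 : Fin (n + 1) → ZMod 2))
    have e' : L (tEquiv (Pi.single 0 1) ((0 : ZMod 2), Pi.single 0 1)) =
        tEquiv (Pi.single 0 1) p := hp ▸ e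
    rw [tEquiv_apply, tEquiv_apply, single_dotProduct, single_dotProduct] at e'
    dsimp only at e'
    rw [Pi.single_eq_same, one_mul, one_mul, zero_add,
      show ((1 : ZMod 2), (Pi.single 0 1 : Fin (n + 1) → ZMod 2)) = (1, 0) + (0, Pi.single 0 1) by simp,
      map_add, ← hp] at e'
    rcases zmod2_cases (p.2 0) with h | h
    · exfalso
      rw [h, add_zero] at e'
      have h0 : L ((1 : ZMod 2), (0 : Fin (n + 1) → ZMod 2)) = 0 := by
        simpa using e'
      exact one_ne_zero (congrArg Prod.fst (L.map_eq_zero_iff.1 h0))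
    · rw [h] at e'
      rw [mem_stab]
      have e'' : L ((1 : ZMod 2), (0 : Fin (n + 1) → ZMod 2)) + p = (1, 0) + p := by
        rw [e']
        exact Prod.ext (by simp [add_comm]) (by simp)
      exact add_right_cancel e''
  -- a second transvection in `Q`
  obtain ⟨z1, hz1U, hz1⟩ := hUt (Pi.single (Fin.succ ⟨0, hn⟩) 1)
  have hUQ : U ≤ (Cfsg.pCore 2 ↥(Subgroup.centralizer ((Subgroup.zpowers z0 : Subgroup ↥(stab n)) : Set ↥(stab n)))).map
      (Subgroup.centralizer ((Subgroup.zpowers z0 : Subgroup ↥(stab n)) : Set ↥(stab n))).subtype := by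
    set C0 := Subgroup.centralizer ((Subgroup.zpowers z0 : Subgroup ↥(stab n)) : Set ↥(stab n)) with hC0
    intro u hu
    have hc : ∀ a ∈ U, Commute u a := fun a ha =>
      congrArg Subtype.val (hU.1.is_comm.comm ⟨u, hu⟩ ⟨a, ha⟩)
    have huC : u ∈ C0 := Subgroup.mem_centralizer_iff.2 fun w hw =>
      (hc w ((Subgroup.zpowers_le.2 hz0U) hw)).symm.eq
    haveI : (U.subgroupOf C0).Normal := ⟨fun a ha g => hUn.conj_mem _ ha _⟩
    exact ⟨⟨u, huC⟩, Cfsg.Lib.Core.le_pCore' (N := U.subgroupOf C0) inferInstance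
      ((PGroup.isPGroup_of_isElementaryAbelian hU).of_injective
        ((MonoidHom.codRestrict (C0.subtype.comp (U.subgroupOf C0).subtype) U fun a => a.2))
        fun a b h => Subtype.ext (Subtype.ext (show (((a : C0)) : ↥(stab n)) = ((b : C0) : ↥(stab n)) from congrArg (fun x : U => (x : ↥(stab n))) h))) hu, rfl⟩
  obtain ⟨L, hL0⟩ : ∃ L : W n ≃ₗ[ZMod 2] W n,
      L * tHom (Multiplicative.ofAdd (Pi.single 0 1)) * L⁻¹ =
        tHom (Multiplicative.ofAdd (Pi.single (Fin.succ ⟨0, hn⟩) 1)) := by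
    let s := Equiv.swap (0 : Fin (n + 1)) (Fin.succ ⟨0, hn⟩)
    refine ⟨dHom (LinearEquiv.funCongrLeft (ZMod 2) (ZMod 2) s), ?_⟩
    rw [← map_inv dHom]
    refine LinearEquiv.ext fun p => ?_
    show dHom (LinearEquiv.funCongrLeft (ZMod 2) (ZMod 2) s)
      (tEquiv (Pi.single 0 1) (dHom (LinearEquiv.funCongrLeft (ZMod 2) (ZMod 2) s)⁻¹ p)) =
      tEquiv (Pi.single _ 1) p
    rw [dHom_apply, dHom_apply, tEquiv_apply, tEquiv_apply, single_dotProduct, single_dotProduct]
    refine Prod.ext ?_ ((LinearEquiv.funCongrLeft (ZMod 2) (ZMod 2) s).apply_symm_apply p.2)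
    show p.1 + 1 * p.2 (s.symm 0) = _
    rw [Equiv.symm_swap, Equiv.swap_apply_left]
  have hgx : toSL n L * z * (toSL n L)⁻¹ = ψ z1 := by
    rw [← hψz]
    show toSL n L * toSL n (z0 : W n ≃ₗ[ZMod 2] W n) * (toSL n L)⁻¹ = toSL n (z1 : W n ≃ₗ[ZMod 2] W n)
    rw [hz0, hz1, ← hL0, map_mul, map_mul, map_inv]
  subst hψz
  obtain ⟨hE', hc', hEl', hL', K', hK1, hK2, hK3, ⟨eK'⟩⟩ :=
    of_embedding hψ hz0ord hrange _ rfl hE ⟨E, hEQ, hEea, hEc⟩ hL.2.1
      ⟨K, hKC, hQK1, hQK2, ⟨eK⟩⟩ hgx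
      (fun h => by
        have h' := congrArg Prod.fst (LinearEquiv.congr_fun ((hz1.symm.trans
          (congrArg Subtype.val h)).trans hz0) ((0 : ZMod 2), (Pi.single 0 1 : Fin (n + 1) → ZMod 2)))
        simp [tHom, tEquiv_apply, (Fin.succ_ne_zero _)] at h')
      (hUQ hz1U) Q hQ
  obtain ⟨eS⟩ := gl_equiv_sl n
  exact ⟨hE', hc'.trans hcard, hEl', hL', K', hK1, hK2, hK3, ⟨eK'.trans eS⟩⟩

end Cfsg.Lib.Extra.Affine
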